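import Cfsg.Agent.StdRank2.UFour.Env

/-!
# Environment for the growth of the Sylow 2-subgroup of `U₅(q)`, `q` even

Letters of `UFour.WEnv`: roots `a = e₁-e₂` (`xa : F → G`), `c = e₁+e₂` (`xc : F → G`), `z = 2e₁` (`xz : K → G`),
`b = 2e₂` (`xb : K → G`), `W = X_z X_c X_b`.  New: `p1, p2 : Tp B → G` are the root groups of `e₁`, `e₂`
(`Tp B = {(w, c) | c + c̄ = w w̄}`), `p1 (0, k) = xz k`, `p2 (0, k) = xb k`, `Q = Q₂ = p1 · xc · p2` of order `q^8`,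
`Q₁ = xa · p1 · xc` of order `q^7`.

`Env` is the environment, `Seed5` the input, `QGrown` is the output of the `Q₁`-level, `Grown` the final output.
-/

set_option autoImplicit false
set_option linter.unusedSectionVars false

namespace Cfsg.Agent.StdRank2.UFive

open Subgroup Cfsg.Agent.StdRank2.UFour

section Tp

variable {F : Type*} [Field F] [CharP F 2] (B : Bar F)

/-- The parameters of the root groups of `e₁`, `e₂`. -/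
@[ext] structure Tp where
  w : F
  c : F
  ok : c + B.s c = w * B.s w

variable {B}

namespace Tp

theorem eq_of {x y : F} (h : x + y = 0) : x = y := by
  have := eq_neg_of_add_eq_zero_left h
  rwa [CharTwo.neg_eq] at this

instance : Mul (Tp B) := ⟨fun p q => ⟨p.w + q.w, p.c + q.c + q.w * B.s p.w, by
  have h1 := p.ok
  have h2 := q.ok
  simp only [map_add, map_mul, B.invol]
  linear_combination h1 + h2⟩⟩
instance : One (Tp B) := ⟨⟨0, 0, by simp⟩⟩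
instance : Inv (Tp B) := ⟨fun p => ⟨p.w, B.s p.c, by
  have h1 := p.ok
  rw [B.invol]
  linear_combination h1⟩⟩

@[simp] theorem mul_w (p q : Tp B) : (p * q).w = p.w + q.w := rfl
@[simp] theorem mul_c (p q : Tp B) : (p * q).c = p.c + q.c + q.w * B.s p.w := rfl
@[simp] theorem one_w : (1 : Tp B).w = 0 := rfl
@[simp] theorem one_c : (1 : Tp B).c = 0 := rfl
@[simp] theorem inv_w (p : Tp B) : p⁻¹.w = p.w := rfl
@[simp] theorem inv_c (p : Tp B) : p⁻¹.c = B.s p.c := rfl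

instance : Group (Tp B) where
  mul_assoc p q r := by
    ext
    · simp [add_assoc]
    · simp only [mul_c, mul_w, map_add]; ring
  one_mul p := by ext <;> simp
  mul_one p := by ext <;> simp
  inv_mul_cancel p := by
    ext
    · simp [Bar.add_self]
    · simp only [mul_c, inv_c, inv_w, one_c]
      have h1 := p.ok
      have h2 := CharTwo.add_self_eq_zero (p.w * B.s p.w)
      linear_combination h1 + h2

/-- the central elements -/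
def ofK (k : B.K) : Tp B := ⟨0, k, by
  rw [B.s_K, map_zero, mul_zero]; exact CharTwo.add_self_eq_zero _⟩

@[simp] theorem ofK_w (k : B.K) : (ofK k).w = 0 := rfl
@[simp] theorem ofK_c (k : B.K) : (ofK k).c = k := rfl

/-- scaling -/
def sm (ω : F) (p : Tp B) : Tp B := ⟨ω * p.w, ω * B.s ω * p.c, by
  have h1 := p.ok
  simp only [map_mul, B.invol]
  linear_combination ω * B.s ω * h1⟩

@[simp] theorem sm_w (ω : F) (p : Tp B) : (sm ω p).w = ω * p.w := rfl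
@[simp] theorem sm_c (ω : F) (p : Tp B) : (sm ω p).c = ω * B.s ω * p.c := rfl

end Tp

end Tp

variable {F : Type*} [Field F] [CharP F 2] (B : Bar F) (G : Type*) [Group G]

/-- The environment for `U₅(q)`. -/
structure Env extends WEnv B G where
  p1 : Tp B → G
  p2 : Tp B → G
  nb : G
  hh : Fˣ → Fˣ → G
  p1_mul : ∀ p q, p1 (p * q) = p1 p * p1 q
  p2_mul : ∀ p q, p2 (p * q) = p2 p * p2 q
  p1_K : ∀ k, p1 (Tp.ofK k) = xz k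
  p2_K : ∀ k, p2 (Tp.ofK k) = xb k
  a_1 : ∀ s q, xa s * p1 q = p1 q * xa s
  a_2 : ∀ s q, xa s * p2 q * (xa s)⁻¹ = p1 (Tp.sm (B.s s) q) * xc (s * B.s q.c) * p2 q
  one_two : ∀ q r, p1 q * p2 r * (p1 q)⁻¹ = xc (r.w * B.s q.w) * p2 r
  mem_Q : ∀ g, g ∈ Q ↔ ∃ q s r, g = p1 q * xc s * p2 r
  u_inj : ∀ q s r x, p1 q * xc s * p2 r * xa x = 1 → q = 1 ∧ s = 0 ∧ r = 1 ∧ x = 0
  -- `na` swaps `e₁`, `e₂`
  na_a : na * xa 1 * na * xa 1 * na * xa 1 = 1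
  na_1 : ∀ q, na * p1 q * na⁻¹ = p2 q
  na_2 : ∀ q, na * p2 q * na⁻¹ = p1 q
  -- `nb` is `e₂ ↦ -e₂`
  nb_sq : nb * nb = 1
  nb_b : nb * xb 1 * nb * xb 1 * nb * xb 1 = 1
  t_nb : t * nb = nb * t
  nb_a : ∀ x, nb * xa x * nb⁻¹ = xc x
  nb_c : ∀ x, nb * xc x * nb⁻¹ = xa x
  nb_1 : ∀ q, nb * p1 q * nb⁻¹ = p1 q
  nb_T : ∀ g, g ∈ T ↔ nb * g * nb⁻¹ ∈ T
  braid : na * nb * na * nb = nb * na * nb * na
  -- the torus
  hh_mem : ∀ α β, hh α β ∈ T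
  hh_a : ∀ (α β : Fˣ) x, hh α β * xa x * (hh α β)⁻¹ = xa (α * (β : F)⁻¹ * x)
  hh_c : ∀ (α β : Fˣ) x, hh α β * xc x * (hh α β)⁻¹ = xc (α * B.s β * x)
  hh_z : ∀ (α β : Fˣ) x, hh α β * xz x * (hh α β)⁻¹ = xz (B.nm α * x)
  hh_b : ∀ (α β : Fˣ) x, hh α β * xb x * (hh α β)⁻¹ = xb (B.nm β * x)
  hh_1 : ∀ (α β : Fˣ) q, hh α β * p1 q * (hh α β)⁻¹ =
    p1 (Tp.sm (B.s α * B.s α * B.s β * (α : F)⁻¹ * (β : F)⁻¹) q)
  hh_2 : ∀ (α β : Fˣ) q, hh α β * p2 q * (hh α β)⁻¹ =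
    p2 (Tp.sm (B.s β * B.s β * B.s α * (α : F)⁻¹ * (β : F)⁻¹) q)
  na_hh : ∀ α β, na * hh α β * na⁻¹ = hh β α
  nb_hh : ∀ (α β γ : Fˣ), (γ : F) * B.s β = 1 → nb * hh α β * nb⁻¹ = hh α γ
  hh_mul : ∀ α β α' β', hh (α * α') (β * β') = hh α β * hh α' β'
  T_act' : ∀ g ∈ T, ∃ ω ω' : Fˣ, (∀ q, g * p1 q * g⁻¹ = p1 (Tp.sm ω q)) ∧ (∀ q, g * p2 q * g⁻¹ = p2 (Tp.sm ω' q))
  -- the two facts on `C(t)`
  cent_Q2 : ∀ c, c * t = t * c → (∀ x, c * xz x = xz x * c) → (∀ x, c * xc x = xc x * c) →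
    (∀ x, c * xb x = xb x * c) →
    (∀ q, ∃ x y z, c * p1 q * c⁻¹ = xz x * xc y * xb z * p1 q) →
    (∀ q, ∃ x y z, c * p2 q * c⁻¹ = xz x * xc y * xb z * p2 q) → ∃ g ∈ Q, c = g ∨ c = t * g
  cent_Q1 : ∀ c, c * t = t * c → (∀ x, c * xz x = xz x * c) →
    (∀ x, ∃ z, c * xa x * c⁻¹ = xz z * xa x) → (∀ x, ∃ z, c * xc x * c⁻¹ = xz z * xc x) →
    (∀ q, ∃ z, c * p1 q * c⁻¹ = xz z * p1 q) →
    ∃ q x s, c = p1 q * xc x * xa s ∨ c = t * (p1 q * xc x * xa s)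

variable {B G}

/-- The input: a group moving `t`, centralising `P' ∋ nb`. -/
structure Seed5 (E : Env B G) extends Seed E.toWEnv where
  nb_comm : ∀ y ∈ Y, y * E.nb = E.nb * y

/-- The output of the `Q₁`-level: `N₁ = A P C`, of order `q^14`; `A` over `xa`, `C` over `xc`, `P / Z` over
`p1 / xz`. -/
structure QGrown (E : Env B G) extends WGrown E.toWEnv where
  nb_Z : ∀ g ∈ Z, E.nb * g = g * E.nb
  A : Subgroup G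
  P : Subgroup G
  mem_A : ∀ g, g ∈ A ↔ E.nb * g * E.nb⁻¹ ∈ C
  mem_C : ∀ g, g ∈ C ↔ E.nb * g * E.nb⁻¹ ∈ A
  rootA : Root E.toWEnv E.xa A
  p1_mem : ∀ q, E.p1 q ∈ P
  Z_le : Z ≤ P
  Z_A : ∀ g ∈ Z, ∀ k ∈ A, g * k = k * g
  Z_P : ∀ g ∈ Z, ∀ k ∈ P, g * k = k * g
  A_C : ∀ a ∈ A, ∀ c ∈ C, ∃ r ∈ Z, a * c * a⁻¹ = r * c
  A_P : ∀ a ∈ A, ∀ g ∈ P, a * g = g * a
  C_P : ∀ c ∈ C, ∀ g ∈ P, c * g = g * c
  P_sq : ∀ g ∈ P, g * g ∈ Z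
  P_comm : ∀ g ∈ P, ∀ k ∈ P, ∃ r ∈ Z, g * k * g⁻¹ = r * k
  P_t : ∀ g ∈ P, ∃ r ∈ Z, ∃ q, g * E.t * g⁻¹ = r * E.p1 q * E.t
  P_onto : ∀ w : F, ∃ g ∈ P, ∃ r ∈ Z, ∃ q, q.w = w ∧ g * E.t * g⁻¹ = r * E.p1 q * E.t
  P_cent : ∀ g ∈ P, ∀ r ∈ Z, g * E.t * g⁻¹ = r * E.t → ∃ r ∈ Z, ∃ q, g = r * E.p1 q
  P_T : ∀ k ∈ E.T, ∀ g ∈ P, k * g * k⁻¹ ∈ P
  P_nb : ∀ g ∈ P, E.nb * g * E.nb⁻¹ ∈ P
  l : Fˣ
  l_K : B.s l = l
  l_ne : (l : F) ≠ 1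
  P_h : ∀ g ∈ P, E.hh 1 l * g = g * E.hh 1 l
  P_2 : ∀ g ∈ P, ∀ q, ∃ c ∈ C, g * E.p2 q * g⁻¹ = c * E.p2 q
  A_2 : ∀ a ∈ A, ∀ q, ∃ g ∈ P, ∃ c ∈ C, a * E.p2 q * a⁻¹ = g * c * E.p2 q

/-- The final output of the growth for `U₅(q)`. -/
structure Grown (E : Env B G) extends QGrown E where
  R : Subgroup G
  mem_R : ∀ g, g ∈ R ↔ E.na * g * E.na⁻¹ ∈ P
  P_B : ∀ g ∈ P, ∀ k ∈ Bb, g * k = k * g
  A_B : ∀ a ∈ A, ∀ k ∈ Bb, ∃ r ∈ Z, ∃ c ∈ C, a * k * a⁻¹ = r * c * k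
  P_R : ∀ g ∈ P, ∀ k ∈ R, ∃ c ∈ C, g * k * g⁻¹ = c * k
  A_R : ∀ a ∈ A, ∀ k ∈ R, ∃ g ∈ P, ∃ c ∈ C, a * k * a⁻¹ = g * c * k

end Cfsg.Agent.StdRank2.UFive
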