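import Cfsg.Agent.StdRank2.UFive.Env
import Cfsg.Agent.StdRank2.UFour.MoverG

/-!
# The mover for `U₅(q)`: `P₀ = ⟨U, U^{nb}⟩` is perfect

`Gen`: for any `WEnv` and `nb`: an element `n` with `n t n⁻¹ = x_z(c) t`, `n x_z(c) n⁻¹ = x_z(c)` normalises `⟨t⟩ X_z` if
`P₀` contains every perfect subgroup of `C(t) ∩ C(x_z(c))`.
-/

set_option autoImplicit false
set_option linter.unusedSectionVars false

namespace Cfsg.Agent.StdRank2.UFive.MoverFive

open Subgroup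
open scoped commutatorElement
open Cfsg.Agent.StdEven.Syl
open Cfsg.Agent.StdRank2.UFour
open Cfsg.Agent.StdRank2.UFour.Seeding Cfsg.Agent.StdRank2.UFour.SeedMove
open Cfsg.Agent.StdRank2.UFour.SeedPre Cfsg.Agent.StdRank2.UFour.SeedOdd
open Cfsg.Agent.StdRank2.UFour.Mover (conj_mem_cent normP0)

variable {F : Type*} [Field F] [CharP F 2] {B : Bar F} {G : Type*} [Group G]

section gen

variable (E : WEnv B G) (nb : G)

/-- `P₀ = ⟨U, U^{nb}⟩`. -/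
def P0 : Subgroup G := closure ((UU E : Set G) ∪ {g | ∃ u ∈ UU E, g = nb * u * nb⁻¹})

/-- `P = ⟨U, U^{nb}, H⟩`. -/
def PH (H : Subgroup G) : Subgroup G := closure ((UU E : Set G) ∪ {g | ∃ u ∈ UU E, g = nb * u * nb⁻¹} ∪ H)

variable {E nb}

theorem U_le : UU E ≤ P0 E nb := fun _ hu => subset_closure (Or.inl hu)

theorem nU_le {u : G} (hu : u ∈ UU E) : nb * u * nb⁻¹ ∈ P0 E nb := subset_closure (Or.inr ⟨u, hu, rfl⟩)

theorem T_P0 (hT : ∀ k ∈ E.T, nb⁻¹ * k * nb ∈ E.T) {k : G} (hk : k ∈ E.T) {g : G} (hg : g ∈ P0 E nb) :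
    k * g * k⁻¹ ∈ P0 E nb := by
  have h1 : P0 E nb ≤ (P0 E nb).comap (MulAut.conj k).toMonoidHom := by
    unfold P0
    rw [Subgroup.closure_le]
    rintro g (hg | ⟨u, hu, rfl⟩)
    · exact U_le (Pre.T_U hk hg)
    · have h2 := nU_le (nb := nb) (Pre.T_U (hT k hk) hu)
      have e : nb * (nb⁻¹ * k * nb * u * (nb⁻¹ * k * nb)⁻¹) * nb⁻¹ =
          k * (nb * u * nb⁻¹) * k⁻¹ := by group
      rw [e] at h2
      exact h2
  exact h1 hg

theorem P_comm (hT : ∀ k ∈ E.T, nb⁻¹ * k * nb ∈ E.T) {H : Subgroup G} (hH : H ≤ E.T) :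
    ⁅PH E nb H, PH E nb H⁆ ≤ P0 E nb := by
  have form : ∀ g ∈ PH E nb H, ∃ p ∈ P0 E nb, ∃ k ∈ H, g = p * k := by
    let X : Subgroup G :=
      { carrier := {g | ∃ p ∈ P0 E nb, ∃ k ∈ H, g = p * k}
        mul_mem' := by
          rintro _ _ ⟨p, hp, k, hk, rfl⟩ ⟨p', hp', k', hk', rfl⟩
          exact ⟨p * (k * p' * k⁻¹), mul_mem hp (T_P0 hT (hH hk) hp'), k * k', mul_mem hk hk', by group⟩
        one_mem' := ⟨1, one_mem _, 1, one_mem _, by group⟩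
        inv_mem' := by
          rintro _ ⟨p, hp, k, hk, rfl⟩
          exact ⟨k⁻¹ * p⁻¹ * k⁻¹⁻¹, T_P0 hT (inv_mem (hH hk)) (inv_mem hp), k⁻¹, inv_mem hk, by group⟩ }
    have h1 : PH E nb H ≤ X := by
      unfold PH
      rw [Subgroup.closure_le]
      rintro g (hg | hg)
      · exact ⟨g, subset_closure hg, 1, one_mem _, by group⟩
      · exact ⟨1, one_mem _, g, hg, by group⟩
    exact fun g hg => h1 hg
  rw [commutator_le]
  intro g hg g' hg'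
  obtain ⟨p, hp, k, hk, rfl⟩ := form g hg
  obtain ⟨p', hp', k', hk', rfl⟩ := form g' hg'
  have hc := E.T_comm k (hH hk) k' (hH hk')
  have hc' : k * k' * k⁻¹ = k' := by rw [hc]; group
  have e : ⁅p * k, p' * k'⁆ = p * (k * p' * k⁻¹) * ((k * k' * k⁻¹) * p⁻¹ * k'⁻¹) * p'⁻¹ := by
    rw [commutatorElement_def]; group
  rw [e, hc']
  exact mul_mem (mul_mem (mul_mem hp (T_P0 hT (hH hk) hp')) (T_P0 hT (hH hk') (inv_mem hp))) (inv_mem hp')

/-- **The mover normalises `⟨t⟩ X_z`.** -/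
theorem mem_normalizer_TZ [Finite G] {n : G} {c : B.K} (h1 : n * E.t * n⁻¹ = E.xz c * E.t)
    (h2 : n * E.xz c * n⁻¹ = E.xz c) {P0 : Subgroup G} (hU : UU E ≤ P0) (hp : ⁅P0, P0⁆ = P0)
    (hPt : ∀ g ∈ P0, g * E.t = E.t * g) (hPz : ∀ g ∈ P0, ∀ x, g * E.xz x = E.xz x * g)
    (hmax : ∀ R : Subgroup G, ⁅R, R⁆ = R → (∀ g ∈ R, g * E.t = E.t * g) →
      (∀ g ∈ R, g * E.xz c = E.xz c * g) → R ≤ P0) : n ∈ normalizer (TZ E : Set G) := by
  have h3 := normP0 h1 h2 hp hPt (fun g hg => hPz g hg c) hmax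
  have h4 : n ∈ normalizer (P0 : Set G) := mem_normalizer_of_conj_le h3
  apply mem_normalizer_of_conj_le
  intro g hg
  have hgt : g * E.t = E.t * g ∧ g * E.xz c = E.xz c * g ∧ ∀ p ∈ P0, g * p = p * g := by
    obtain ⟨x, rfl | rfl⟩ := hg
    · refine ⟨(E.t_z x).symm, ?_, fun p hp => (hPz p hp x).symm⟩
      rw [← E.xz_add, ← E.xz_add, add_comm]
    · refine ⟨?_, ?_, ?_⟩
      · rw [mul_assoc, E.t_sq, mul_one, ← mul_assoc, E.t_z, mul_assoc, E.t_sq, mul_one]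
      · rw [mul_assoc, E.t_z, ← mul_assoc, ← mul_assoc, ← E.xz_add, ← E.xz_add, add_comm]
      · intro p hp
        rw [mul_assoc, ← hPt p hp, ← mul_assoc, ← hPz p hp x, mul_assoc]
  obtain ⟨g1, g2, g3⟩ := hgt
  obtain ⟨k1, k2⟩ := conj_mem_cent h1 h2 g1 g2
  have k3 : ∀ p ∈ P0, (n * g * n⁻¹) * p = p * (n * g * n⁻¹) := by
    intro p hp
    have h5 := g3 _ (conj_inv_mem_of_mem_normalizer h4 hp)
    calc n * g * n⁻¹ * p = n * (g * (n⁻¹ * p * n)) * n⁻¹ := by group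
      _ = _ := by rw [h5]; group
  obtain ⟨v, hv⟩ := E.cent_w k1 (fun q hq => k3 q (hU (Q_le E hq)))
  have hw : ∀ s, E.w v * E.xa s = E.xa s * E.w v := by
    intro s
    have h5 := k3 _ (hU (a_mem E s))
    rcases hv with hv | hv
    · rw [← hv]; exact h5
    · have h8 : E.w v = E.t * (n * g * n⁻¹) := by
        rw [hv, ← mul_assoc, E.t_sq, one_mul]
      rw [h8, mul_assoc, h5, ← mul_assoc, ← hPt _ (hU (a_mem E s)), mul_assoc]
  obtain ⟨x, hx⟩ := MoverG.cent_w hw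
  rw [hx] at hv
  rcases hv with h6 | h6
  · exact ⟨x, Or.inl h6⟩
  · refine ⟨x, Or.inr ?_⟩
    rw [h6, E.t_z]

end gen

section five

variable {E : UFive.Env B G}

theorem nb_inv : E.nb⁻¹ = E.nb := WEnv.inv_of_sq E.nb_sq

theorem nb_T (k : G) (hk : k ∈ E.T) : E.nb⁻¹ * k * E.nb ∈ E.T := by
  have h1 := (E.nb_T k).1 hk
  rwa [nb_inv] at h1 ⊢

theorem nb_mem : E.nb ∈ P0 E.toWEnv E.nb := by
  have h1 := E.nb_b
  have hx := E.xb_sq 1
  have hn := E.nb_sq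
  have h2 : E.nb = E.xb 1 * (E.nb * E.xb 1 * E.nb⁻¹) * E.xb 1 := by
    have h3 : E.nb * E.xb 1 * E.nb * E.xb 1 * E.nb * E.xb 1 = 1 := h1
    rw [nb_inv]
    have h4 : E.nb * E.xb 1 * E.nb = E.xb 1 * E.nb * E.xb 1 := by
      have hxi : (E.xb 1)⁻¹ = E.xb 1 := WEnv.inv_of_sq hx
      have h5 : E.nb * E.xb 1 * E.nb * (E.xb 1 * E.nb * E.xb 1) = 1 := by
        rw [← h3]; group
      rw [eq_inv_of_mul_eq_one_left h5, mul_inv_rev, mul_inv_rev, nb_inv, hxi, mul_assoc]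
    rw [h4]
    calc E.nb = (E.xb 1 * E.xb 1) * E.nb * (E.xb 1 * E.xb 1) := by rw [hx]; group
      _ = _ := by group
  have h5 := U_le (E := E.toWEnv) (nb := E.nb) (Q_le _ (E.b_mem 1))
  have h6 := nU_le (E := E.toWEnv) (nb := E.nb) (Q_le _ (E.b_mem 1))
  have h7 := mul_mem (mul_mem h5 h6) h5
  rwa [← h2] at h7

theorem tp_K {p : Tp B} (hp : p.w = 0) : ∃ k, p = Tp.ofK k := by
  have h1 := p.ok
  rw [hp, zero_mul] at h1
  refine ⟨⟨p.c, ?_⟩, ?_⟩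
  · exact (Tp.eq_of h1).symm
  · ext
    · exact hp
    · rfl

theorem sm_one (q : Tp B) : Tp.sm 1 q = q := by
  ext
  · rw [Tp.sm_w, one_mul]
  · rw [Tp.sm_c, map_one, one_mul, one_mul]

/-- **`P₀` is perfect.** -/
theorem P0_perf : ⁅P0 E.toWEnv E.nb, P0 E.toWEnv E.nb⁆ = P0 E.toWEnv E.nb := by
  apply le_antisymm (Subgroup.commutator_le_self _)
  set P := P0 E.toWEnv E.nb with hP
  set C := ⁅P, P⁆ with hC
  have hnb : E.nb ∈ P := nb_mem
  have hl0 : ((E.lam : B.K) : F) ≠ 0 := fun h => E.lam.ne_zero (Subtype.ext h)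
  have hl1 : ((E.lam : B.K) : F) + 1 ≠ 0 := fun h => E.lam_ne (Subtype.ext (by
    change ((E.lam : B.K) : F) = 1
    linear_combination h - CharTwo.add_self_eq_zero (1 : F)))
  -- the torus element
  let l : Fˣ := Units.mk0 ((E.lam : B.K) : F) hl0
  have hlK : B.s (l : F) = l := (E.lam : B.K).2
  let k := E.hh 1 l
  have hk : k ∈ E.T := E.hh_mem 1 l
  have e1 : E.nb * k * E.nb⁻¹ = E.hh 1 l⁻¹ := E.nb_hh 1 l l⁻¹ (by rw [hlK, Units.inv_mul])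
  let κ : Fˣ := l⁻¹ * l⁻¹
  have hκK : B.s (κ : F) = κ := by
    change B.s (((l⁻¹ * l⁻¹ : Fˣ)) : F) = _
    rw [Units.val_mul, Units.val_inv_eq_inv_val, map_mul, map_inv₀, hlK]
  have e2 : E.hh 1 κ ∈ P := by
    have e3 : E.hh 1 l⁻¹ * k⁻¹ ∈ P := by
      rw [← e1]
      have e : E.nb * k * E.nb⁻¹ * k⁻¹ = E.nb * (k * E.nb⁻¹ * k⁻¹) := by group
      rw [e]
      exact mul_mem hnb (T_P0 nb_T hk (inv_mem hnb))
    have e4 : k⁻¹ = E.hh 1 l⁻¹ := by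
      apply inv_eq_of_mul_eq_one_left
      have h5 := E.hh_mul 1 l⁻¹ 1 l
      rw [mul_one, inv_mul_cancel] at h5
      change E.hh 1 l⁻¹ * E.hh 1 l = 1
      rw [← h5]
      have h6 := E.hh_mul 1 1 1 1
      rw [mul_one] at h6
      exact right_eq_mul.1 h6
    rw [e4, ← E.hh_mul, mul_one] at e3
    exact e3
  have hκ1 : (κ : F) + 1 ≠ 0 := by
    intro h
    have h3 : (κ : F) * ((l : F) * l) = 1 := by
      change (((l⁻¹ * l⁻¹ : Fˣ)) : F) * ((l : F) * l) = 1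
      rw [Units.val_mul]
      have : ((l⁻¹ : Fˣ) : F) * (l : F) = 1 := Units.inv_mul l
      linear_combination (((l⁻¹ : Fˣ) : F) * (l : F) + 1) * this
    have h4 : ((l : F) + 1) * ((l : F) + 1) = 0 := by
      have h5 := CharTwo.add_self_eq_zero (l : F)
      linear_combination (l : F) * l * h - h3 + h5
    exact hl1 (mul_self_eq_zero.1 h4)
  have comm : ∀ u ∈ UU E.toWEnv, E.hh 1 κ * u * (E.hh 1 κ)⁻¹ * u⁻¹ ∈ C := fun u hu =>
    commutator_mem_commutator e2 (U_le hu)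
  have hκ1' : ((κ⁻¹ : Fˣ) : F) + 1 ≠ 0 := by
    intro h
    apply hκ1
    have : (κ : F) * ((κ⁻¹ : Fˣ) : F) = 1 := Units.mul_inv κ
    linear_combination (κ : F) * h - this
  have hκ2 : (κ : F) * κ + 1 ≠ 0 := by
    intro h
    have h4 : ((κ : F) + 1) * ((κ : F) + 1) = 0 := by
      have h5 := CharTwo.add_self_eq_zero (κ : F)
      linear_combination h + h5
    exact hκ1 (mul_self_eq_zero.1 h4)
  have ma : ∀ s, E.xa s ∈ C := by
    intro s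
    have h1 := comm _ (a_mem E.toWEnv ((((κ⁻¹ : Fˣ) : F) + 1)⁻¹ * s))
    rw [E.hh_a, WEnv.inv_of_sq (E.xa_sq _), ← E.xa_add, Units.val_one, one_mul,
      ← Units.val_inv_eq_inv_val] at h1
    have e : ((κ⁻¹ : Fˣ) : F) * ((((κ⁻¹ : Fˣ) : F) + 1)⁻¹ * s) + (((κ⁻¹ : Fˣ) : F) + 1)⁻¹ * s = s := by
      have e0 : (((κ⁻¹ : Fˣ) : F) + 1) * (((κ⁻¹ : Fˣ) : F) + 1)⁻¹ = 1 := mul_inv_cancel₀ hκ1'
      linear_combination s * e0
    rwa [e] at h1
  have mc : ∀ s, E.xc s ∈ C := by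
    intro s
    have h1 := comm _ (Q_le E.toWEnv (E.c_mem (((κ : F) + 1)⁻¹ * s)))
    rw [E.hh_c, WEnv.inv_of_sq (E.xc_sq _), ← E.xc_add, Units.val_one, one_mul, hκK] at h1
    have e : (κ : F) * (((κ : F) + 1)⁻¹ * s) + ((κ : F) + 1)⁻¹ * s = s := by
      have e0 : ((κ : F) + 1) * ((κ : F) + 1)⁻¹ = 1 := mul_inv_cancel₀ hκ1
      linear_combination s * e0
    rwa [e] at h1
  have mz : ∀ x, E.xz x ∈ C := by
    intro x
    obtain ⟨s, hs⟩ := B.tr_surj x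
    have h1 := E.a_c s 1
    rw [map_one, mul_one, hs] at h1
    have h2 : E.xz x = E.xa s * E.xc 1 * (E.xa s)⁻¹ * (E.xc 1)⁻¹ := by rw [h1]; group
    rw [h2]
    exact mul_mem (mul_mem (mul_mem (ma s) (mc 1)) (inv_mem (ma s))) (inv_mem (mc 1))
  have mb : ∀ s, E.xb s ∈ C := by
    intro s
    -- `ν = κ² ∈ K`
    have hν : B.nm (κ : F) + 1 ≠ 0 := by
      intro h
      apply hκ2
      have h3 := congrArg Subtype.val h
      change (κ : F) * B.s κ + 1 = 0 at h3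
      rwa [hκK] at h3
    have h1 := comm _ (Q_le E.toWEnv (E.b_mem ((B.nm (κ : F) + 1)⁻¹ * s)))
    rw [E.hh_b, WEnv.inv_of_sq (E.xb_sq _), ← E.xb_add] at h1
    have e : B.nm (κ : F) * ((B.nm (κ : F) + 1)⁻¹ * s) + (B.nm (κ : F) + 1)⁻¹ * s = s := by
      have e0 : (B.nm (κ : F) + 1) * (B.nm (κ : F) + 1)⁻¹ = 1 := mul_inv_cancel₀ hν
      linear_combination s * e0
    rwa [e] at h1
  have p2mem : ∀ q, E.p2 q ∈ E.Q := fun q => (E.mem_Q _).2 ⟨1, 0, q, by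
    have h3 : E.p1 1 = 1 := by
      have := E.p1_mul 1 1
      rw [mul_one] at this
      exact right_eq_mul.1 this
    rw [h3, E.xc_zero, one_mul, one_mul]⟩
  have p2inv : ∀ q, (E.p2 q)⁻¹ = E.p2 q⁻¹ := by
    intro q
    apply inv_eq_of_mul_eq_one_left
    rw [← E.p2_mul, inv_mul_cancel]
    have := E.p2_mul 1 1
    rw [mul_one] at this
    exact right_eq_mul.1 this
  have m2 : ∀ q, E.p2 q ∈ C := by
    intro q
    let q' := Tp.sm (((κ : F) + 1)⁻¹) q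
    have h1 := comm _ (Q_le E.toWEnv (p2mem q'))
    have eκ : B.s ((κ : Fˣ) : F) * B.s ((κ : Fˣ) : F) * B.s ((1 : Fˣ) : F) * (((1 : Fˣ) : F))⁻¹ * ((κ : F))⁻¹ = κ := by
      rw [hκK, Units.val_one, map_one, inv_one, mul_one, mul_one, mul_assoc, mul_inv_cancel₀ κ.ne_zero, mul_one]
    rw [E.hh_2, eκ, p2inv, ← E.p2_mul] at h1
    have h2 : (q * (Tp.sm (κ : F) q' * q'⁻¹)⁻¹).w = 0 := by
      rw [Tp.mul_w, Tp.inv_w, Tp.mul_w, Tp.inv_w, Tp.sm_w]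
      change q.w + ((κ : F) * (((κ : F) + 1)⁻¹ * q.w) + ((κ : F) + 1)⁻¹ * q.w) = 0
      have e0 : ((κ : F) + 1) * ((κ : F) + 1)⁻¹ = 1 := mul_inv_cancel₀ hκ1
      have h5 := CharTwo.add_self_eq_zero q.w
      linear_combination q.w * e0 + h5
    obtain ⟨k', hk'⟩ := tp_K h2
    have h3 : E.p2 q = E.xb k' * E.p2 (Tp.sm (κ : F) q' * q'⁻¹) := by
      rw [← E.p2_K, ← hk', ← E.p2_mul, inv_mul_cancel_right]
    rw [h3]
    exact mul_mem (mb k') h1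
  have m1 : ∀ q, E.p1 q ∈ C := by
    intro q
    have h1 := E.a_2 1 q
    rw [map_one, sm_one] at h1
    have h2 : E.p1 q = E.xa 1 * E.p2 q * (E.xa 1)⁻¹ * (E.p2 q)⁻¹ * (E.xc (1 * B.s q.c))⁻¹ := by
      rw [h1]; group
    rw [h2]
    exact mul_mem (mul_mem (mul_mem (mul_mem (ma 1) (m2 q)) (inv_mem (ma 1))) (inv_mem (m2 q)))
      (inv_mem (mc _))
  have hU : UU E.toWEnv ≤ C := by
    rintro _ ⟨q, hq, s, rfl⟩
    obtain ⟨a, b, c, rfl⟩ := (E.mem_Q q).1 hq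
    exact mul_mem (mul_mem (mul_mem (m1 _) (mc _)) (m2 _)) (ma s)
  have hnC : ∀ c ∈ C, E.nb * c * E.nb⁻¹ ∈ C := by
    intro c hc
    have h1 : E.nb * c * E.nb⁻¹ * c⁻¹ ∈ C :=
      commutator_mem_commutator hnb (Subgroup.commutator_le_self P hc)
    have h2 := mul_mem h1 hc
    rwa [inv_mul_cancel_right] at h2
  rw [hP]
  conv_lhs => unfold P0
  rw [Subgroup.closure_le]
  rintro g (hg | ⟨u, hu, rfl⟩)
  · exact hU hg
  · exact hnC u (hU hu)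

end five

end Cfsg.Agent.StdRank2.UFive.MoverFive
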