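import Cfsg.Agent.StdRank2.UFive.GrowAB

/-!
# `QGrown → Grown` (type `U₅(q)`), part 3: the group `N₂` of the elements centralising `Ŵ = Z C B`, acting
trivially on `ŴQ / Ŵ` and moving `t` into `ŴQt`
-/

set_option autoImplicit false
set_option linter.unusedSectionVars false

namespace Cfsg.Agent.StdRank2.UFive

open Subgroup Cfsg.Agent.StdRank2.UFour

variable {F : Type*} [Field F] [CharP F 2] {B : Bar F} {G : Type*} [Group G]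

namespace QGrown

open NOne RootLem

/-! ### commutators -/

/-- `[p, g]` commutes with `x` if `p`, `g` act on `x` by translations. -/
theorem comm_trans {p g x u v : G} (hp : p * x * p⁻¹ = u * x) (hg : g * x * g⁻¹ = v * x)
    (pu : p * u = u * p) (pv : p * v = v * p) (gu : g * u = u * g) (gv : g * v = v * g)
    (uv : u * v = v * u) :
    p * g * p⁻¹ * g⁻¹ * x = x * (p * g * p⁻¹ * g⁻¹) := by
  have e1 : p * g * x = u * v * x * (p * g) := by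
    calc p * g * x = p * (g * x * g⁻¹) * g := by group
      _ = (p * v) * x * g := by rw [hg]; group
      _ = v * (p * x * p⁻¹) * p * g := by rw [pv]; group
      _ = (v * u) * x * (p * g) := by rw [hp]; group
      _ = _ := by rw [← uv]
  have e2 : g * p * x = u * v * x * (g * p) := by
    calc g * p * x = g * (p * x * p⁻¹) * p := by group
      _ = (g * u) * x * p := by rw [hp]; group
      _ = u * (g * x * g⁻¹) * g * p := by rw [gu]; group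
      _ = u * v * x * (g * p) := by rw [hg]; group
  have e3 : (p * g * p⁻¹ * g⁻¹) * (u * v) = u * v * (p * g * p⁻¹ * g⁻¹) := by
    have k1 := comm_mul pu pv
    have k2 := comm_mul gu gv
    have k3 := comm_inv k1
    have k4 := comm_inv k2
    calc (p * g * p⁻¹ * g⁻¹) * (u * v) = p * g * p⁻¹ * (g⁻¹ * (u * v)) := by group
      _ = p * g * (p⁻¹ * (u * v)) * g⁻¹ := by rw [k4]; group
      _ = p * (g * (u * v)) * p⁻¹ * g⁻¹ := by rw [k3]; group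
      _ = (p * (u * v)) * g * p⁻¹ * g⁻¹ := by rw [k2]; group
      _ = _ := by rw [k1]; group
  have e4 : u * v * (p * g * p⁻¹ * g⁻¹ * x) = u * v * (x * (p * g * p⁻¹ * g⁻¹)) := by
    calc u * v * (p * g * p⁻¹ * g⁻¹ * x) = (u * v * (p * g * p⁻¹ * g⁻¹)) * x := by group
      _ = p * g * (g * p)⁻¹ * (u * v * x * (g * p)) * (g * p)⁻¹ := by rw [← e3]; group
      _ = (p * g * x) * (g * p)⁻¹ := by rw [← e2]; group
      _ = _ := by rw [e1]; group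
  exact mul_left_cancel e4

/-- the displacement of a commutator. -/
theorem comm_disp {p g t m n : G} (hp : p * t * p⁻¹ = m * t) (hg : g * t * g⁻¹ = n * t)
    (hw : p * g * p⁻¹ * g⁻¹ * (g * m * g⁻¹ * n) = g * m * g⁻¹ * n * (p * g * p⁻¹ * g⁻¹)) :
    (p * g * p⁻¹ * g⁻¹) * t * (p * g * p⁻¹ * g⁻¹)⁻¹ = (g * m * g⁻¹ * n)⁻¹ * (p * n * p⁻¹ * m) * t := by
  have e1 : g * p * t * (g * p)⁻¹ = (g * m * g⁻¹ * n) * t := by
    calc g * p * t * (g * p)⁻¹ = g * (p * t * p⁻¹) * g⁻¹ := by group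
      _ = g * m * g⁻¹ * (g * t * g⁻¹) := by rw [hp]; group
      _ = _ := by rw [hg]; group
  have e2 : p * g * t * (p * g)⁻¹ = (p * n * p⁻¹ * m) * t := by
    calc p * g * t * (p * g)⁻¹ = p * (g * t * g⁻¹) * p⁻¹ := by group
      _ = p * n * p⁻¹ * (p * t * p⁻¹) := by rw [hg]; group
      _ = _ := by rw [hp]; group
  set w := p * g * p⁻¹ * g⁻¹ with hwd
  have e3 : w * (g * p * t * (g * p)⁻¹) * w⁻¹ = p * g * t * (p * g)⁻¹ := by rw [hwd]; group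
  rw [e1, e2] at e3
  calc w * t * w⁻¹ = (g * m * g⁻¹ * n)⁻¹ * ((g * m * g⁻¹ * n * w) * t * w⁻¹) := by group
    _ = (g * m * g⁻¹ * n)⁻¹ * (w * ((g * m * g⁻¹ * n) * t) * w⁻¹) := by rw [← hw]; group
    _ = _ := by rw [e3]; group

variable {E : Env B G} (S : QGrown E)

/-! ### `Ŵ` -/

/-- `Ŵ = Z C B`. -/
def Wt : Subgroup G where
  carrier := {g | ∃ r ∈ S.Z, ∃ c ∈ S.C, ∃ b ∈ S.Bb, g = r * c * b}
  one_mem' := ⟨1, one_mem _, 1, one_mem _, 1, one_mem _, by group⟩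
  mul_mem' := by
    rintro _ _ ⟨r, hr, c, hc, b, hb, rfl⟩ ⟨r', hr', c', hc', b', hb', rfl⟩
    refine ⟨r * r', S.Z.mul_mem hr hr', c * c', S.C.mul_mem hc hc', b * b', S.Bb.mul_mem hb hb', ?_⟩
    have e1 := S.Z_B r' hr' b hb
    have e2 := S.Z_C r' hr' c hc
    have e3 := S.C_B c' hc' b hb
    calc r * c * b * (r' * c' * b') = r * c * (b * r') * c' * b' := by group
      _ = r * (c * r') * b * c' * b' := by rw [← e1]; group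
      _ = r * r' * c * (b * c') * b' := by rw [← e2]; group
      _ = _ := by rw [← e3]; group
  inv_mem' := by
    rintro _ ⟨r, hr, c, hc, b, hb, rfl⟩
    refine ⟨r⁻¹, S.Z.inv_mem hr, c⁻¹, S.C.inv_mem hc, b⁻¹, S.Bb.inv_mem hb, ?_⟩
    have e1 := S.Z_B _ (S.Z.inv_mem hr) _ (S.Bb.inv_mem hb)
    have e2 := S.Z_C _ (S.Z.inv_mem hr) _ (S.C.inv_mem hc)
    have e3 := S.C_B _ (S.C.inv_mem hc) _ (S.Bb.inv_mem hb)
    calc (r * c * b)⁻¹ = b⁻¹ * (c⁻¹ * r⁻¹) := by group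
      _ = (b⁻¹ * r⁻¹) * c⁻¹ := by rw [← e2]; group
      _ = r⁻¹ * (b⁻¹ * c⁻¹) := by rw [← e1]; group
      _ = _ := by rw [← e3]; group

theorem Z_le_Wt {r : G} (hr : r ∈ S.Z) : r ∈ S.Wt := ⟨r, hr, 1, one_mem _, 1, one_mem _, by group⟩
theorem C_le_Wt {r : G} (hr : r ∈ S.C) : r ∈ S.Wt := ⟨1, one_mem _, r, hr, 1, one_mem _, by group⟩
theorem B_le_Wt {r : G} (hr : r ∈ S.Bb) : r ∈ S.Wt := ⟨1, one_mem _, 1, one_mem _, r, hr, by group⟩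

theorem w_mem_Wt (v : B.V) : E.w v ∈ S.Wt :=
  ⟨_, S.xz_mem v.1, _, S.xc_mem v.2.1, _, S.xb_mem v.2.2, rfl⟩

/-- centralising `Ŵ` -/
theorem comm_Wt {n : G} (hz : ∀ r ∈ S.Z, n * r = r * n) (hc : ∀ r ∈ S.C, n * r = r * n)
    (hb : ∀ r ∈ S.Bb, n * r = r * n) : ∀ ω ∈ S.Wt, n * ω = ω * n := by
  rintro _ ⟨r, hr, c, hc', b, hb', rfl⟩
  exact comm_mul (comm_mul (hz r hr) (hc c hc')) (hb b hb')

theorem Wt_Wt {ω η : G} (hω : ω ∈ S.Wt) (hη : η ∈ S.Wt) : ω * η = η * ω := by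
  revert η
  apply S.comm_Wt
  · obtain ⟨r, hr, c, hc, b, hb, rfl⟩ := hω
    intro s hs
    have := comm_mul (comm_mul (S.Z_Z hs hr) (S.Z_C s hs c hc)) (S.Z_B s hs b hb)
    exact this.symm
  · obtain ⟨r, hr, c, hc, b, hb, rfl⟩ := hω
    intro s hs
    have := comm_mul (comm_mul (S.Z_C r hr s hs).symm (S.C_C hs hc)) (S.C_B s hs b hb)
    exact this.symm
  · obtain ⟨r, hr, c, hc, b, hb, rfl⟩ := hω
    intro s hs
    have := comm_mul (comm_mul (S.Z_B r hr s hs).symm (S.C_B c hc s hs).symm) (S.B_B hs hb)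
    exact this.symm

theorem Wt_Q {ω g : G} (hω : ω ∈ S.Wt) (hg : g ∈ E.Q) : ω * g = g * ω := by
  obtain ⟨r, hr, c, hc, b, hb, rfl⟩ := hω
  exact (comm_mul (comm_mul (S.Z_Q r hr g hg).symm (S.C_Q c hc g hg).symm) (S.B_Q b hb g hg).symm).symm

theorem Wt_sq {ω : G} (hω : ω ∈ S.Wt) : ω * ω = 1 := by
  obtain ⟨r, hr, c, hc, b, hb, rfl⟩ := hω
  have e1 := S.Z_B r hr b hb
  have e2 := S.Z_C r hr c hc
  have e3 := S.C_B c hc b hb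
  calc r * c * b * (r * c * b) = r * c * (b * r) * c * b := by group
    _ = r * (c * r) * b * c * b := by rw [← e1]; group
    _ = (r * r) * c * (b * c) * b := by rw [← e2]; group
    _ = (c * c) * (b * b) := by rw [← e3, S.Z_sq hr]; group
    _ = 1 := by rw [S.C_sq hc, S.B_sq hb, mul_one]

theorem Wt_inv {ω : G} (hω : ω ∈ S.Wt) : ω⁻¹ = ω := WEnv.inv_of_sq (S.Wt_sq hω)

/-- the displacement of an element of `Ŵ` -/
theorem Wt_disp {r c b : G} {x z : B.K} {y : F} (hr : r ∈ S.Z) (hc : c ∈ S.C)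
    (h1 : r * E.t * r⁻¹ = E.xz x * E.t) (h2 : c * E.t * c⁻¹ = E.xc y * E.t)
    (h3 : b * E.t * b⁻¹ = E.xb z * E.t) :
    (r * c * b) * E.t * (r * c * b)⁻¹ = E.w (x, y, z) * E.t := by
  unfold WEnv.w
  calc (r * c * b) * E.t * (r * c * b)⁻¹ = r * (c * (b * E.t * b⁻¹) * c⁻¹) * r⁻¹ := by group
    _ = r * ((c * E.xb z * c⁻¹) * (c * E.t * c⁻¹)) * r⁻¹ := by rw [h3]; group
    _ = (r * E.xb z * r⁻¹) * (r * E.xc y * r⁻¹) * (r * E.t * r⁻¹) := by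
        rw [h2, conj_of_comm (S.C_Q c hc _ (E.b_mem z))]; group
    _ = E.xb z * (E.xc y * E.xz x) * E.t := by
        rw [h1, conj_of_comm (S.Z_Q r hr _ (E.b_mem z)), conj_of_comm (S.Z_Q r hr _ (E.c_mem y))]
        group
    _ = (E.xz x * E.xb z) * E.xc y * E.t := by rw [← E.z_c, E.z_b]; group
    _ = E.xz x * (E.xc y * E.xb z) * E.t := by rw [E.c_b]; group
    _ = _ := by group

theorem Wt_t {ω : G} (hω : ω ∈ S.Wt) : ∃ v, ω * E.t * ω⁻¹ = E.w v * E.t := by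
  obtain ⟨r, hr, c, hc, b, hb, rfl⟩ := hω
  obtain ⟨x, hx⟩ := S.rootZ.conj_t r hr
  obtain ⟨y, hy⟩ := S.rootC.conj_t c hc
  obtain ⟨z, hz⟩ := S.rootB.conj_t b hb
  exact ⟨_, S.Wt_disp hr hc hx hy hz⟩

theorem Wt_cent {r c b : G} (hr : r ∈ S.Z) (hc : c ∈ S.C) (hb : b ∈ S.Bb)
    (h : r * c * b * E.t = E.t * (r * c * b)) :
    ∃ x y z, r = E.xz x ∧ c = E.xc y ∧ b = E.xb z := by
  obtain ⟨x, hx⟩ := S.rootZ.conj_t r hr
  obtain ⟨y, hy⟩ := S.rootC.conj_t c hc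
  obtain ⟨z, hz⟩ := S.rootB.conj_t b hb
  have h1 := S.Wt_disp hr hc hx hy hz
  rw [conj_of_comm h] at h1
  have h2 := E.toWEnv.w_eq_one (right_eq_mul.1 h1)
  have x0 : x = 0 := congrArg (fun v : B.V => v.1) h2
  have y0 : y = 0 := congrArg (fun v : B.V => v.2.1) h2
  have z0 : z = 0 := congrArg (fun v : B.V => v.2.2) h2
  rw [x0, E.xz_zero, one_mul] at hx
  rw [y0, E.xc_zero, one_mul] at hy
  rw [z0, E.xb_zero, one_mul] at hz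
  obtain ⟨x', hx'⟩ := S.rootZ.cent r hr (comm_of_conj hx)
  obtain ⟨y', hy'⟩ := S.rootC.cent c hc (comm_of_conj hy)
  obtain ⟨z', hz'⟩ := S.rootB.cent b hb (comm_of_conj hz)
  exact ⟨x', y', z', hx', hy', hz'⟩

theorem Wt_centW {ω : G} (hω : ω ∈ S.Wt) (h : ω * E.t = E.t * ω) : ∃ v, ω = E.w v := by
  obtain ⟨r, hr, c, hc, b, hb, rfl⟩ := hω
  obtain ⟨x, y, z, rfl, rfl, rfl⟩ := S.Wt_cent hr hc hb h
  exact ⟨(x, y, z), rfl⟩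

theorem Wt_inj {r c b : G} (hr : r ∈ S.Z) (hc : c ∈ S.C) (hb : b ∈ S.Bb) (h : r * c * b = 1) :
    r = 1 ∧ c = 1 ∧ b = 1 := by
  obtain ⟨x, y, z, rfl, rfl, rfl⟩ := S.Wt_cent hr hc hb (by rw [h]; group)
  obtain ⟨h1, h2, h3⟩ := E.w_inj _ _ _ h
  rw [h1, h2, h3]
  exact ⟨E.toWEnv.xz_zero, E.toWEnv.xc_zero, E.toWEnv.xb_zero⟩

theorem Wt_onto (v : B.V) : ∃ ω ∈ S.Wt, ω * E.t * ω⁻¹ = E.w v * E.t := by
  obtain ⟨r, hr, hx⟩ := S.rootZ.onto v.1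
  obtain ⟨c, hc, hy⟩ := S.rootC.onto v.2.1
  obtain ⟨b, hb, hz⟩ := S.rootB.onto v.2.2
  exact ⟨_, ⟨r, hr, c, hc, b, hb, rfl⟩, S.Wt_disp hr hc hx hy hz⟩

/-! ### `N₂` -/

structure InN2 (n : G) : Prop where
  w : ∀ ω ∈ S.Wt, n * ω = ω * n
  q : ∀ g ∈ E.Q, ∃ ω ∈ S.Wt, n * g * n⁻¹ = ω * g
  t : ∃ ω ∈ S.Wt, ∃ g ∈ E.Q, n * E.t * n⁻¹ = ω * g * E.t

variable {S}

theorem InN2.mul {m n : G} (hm : S.InN2 m) (hn : S.InN2 n) : S.InN2 (m * n) where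
  w ω hω := by rw [mul_assoc, hn.w ω hω, ← mul_assoc, hm.w ω hω, mul_assoc]
  q g hg := by
    obtain ⟨ω, hω, h1⟩ := hn.q g hg
    obtain ⟨η, hη, h2⟩ := hm.q g hg
    refine ⟨ω * η, S.Wt.mul_mem hω hη, ?_⟩
    rw [mc, h1, cm, h2, conj_of_comm (hm.w ω hω), mul_assoc]
  t := by
    obtain ⟨ω, hω, g, hg, h1⟩ := hn.t
    obtain ⟨η, hη, k, hk, h2⟩ := hm.t
    obtain ⟨θ, hθ, h3⟩ := hm.q g hg
    refine ⟨ω * θ * η, S.Wt.mul_mem (S.Wt.mul_mem hω hθ) hη, g * k, E.Q.mul_mem hg hk, ?_⟩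
    rw [mc, h1, cm, cm, h2, h3, conj_of_comm (hm.w ω hω)]
    have e := S.Wt_Q hη hg
    calc ω * (θ * g) * (η * k * E.t) = ω * θ * (g * η) * k * E.t := by group
      _ = _ := by rw [← e]; group

theorem InN2.one : S.InN2 (1 : G) where
  w ω hω := by group
  q g hg := ⟨1, S.Wt.one_mem, by group⟩
  t := ⟨1, S.Wt.one_mem, 1, E.Q.one_mem, by group⟩

theorem InN2.inv {n : G} (hn : S.InN2 n) : S.InN2 n⁻¹ where
  w ω hω := comm_inv (hn.w ω hω)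
  q g hg := by
    obtain ⟨ω, hω, h1⟩ := hn.q g hg
    refine ⟨ω⁻¹, S.Wt.inv_mem hω, ?_⟩
    have h2 := comm_inv (hn.w _ (S.Wt.inv_mem hω))
    calc n⁻¹ * g * n⁻¹⁻¹ = (n⁻¹ * ω⁻¹) * (ω * g) * n := by group
      _ = ω⁻¹ * n⁻¹ * (n * g * n⁻¹) * n := by rw [h1, h2]
      _ = _ := by group
  t := by
    obtain ⟨ω, hω, g, hg, h1⟩ := hn.t
    obtain ⟨η, hη, h2⟩ := hn.q g⁻¹ (E.Q.inv_mem hg)
    have e1 := comm_inv (hn.w _ (S.Wt.inv_mem hω))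
    have e2 := comm_inv (hn.w _ (S.Wt.inv_mem hη))
    have e3 := S.Wt_Q (S.Wt.inv_mem hω) (E.Q.inv_mem hg)
    refine ⟨ω⁻¹ * η⁻¹, S.Wt.mul_mem (S.Wt.inv_mem hω) (S.Wt.inv_mem hη), g⁻¹, E.Q.inv_mem hg, ?_⟩
    have h3 : n⁻¹ * g⁻¹ * n = η⁻¹ * g⁻¹ := by
      calc n⁻¹ * g⁻¹ * n = (n⁻¹ * η⁻¹) * (η * g⁻¹) * n := by group
        _ = η⁻¹ * n⁻¹ * (n * g⁻¹ * n⁻¹) * n := by rw [h2, e2]
        _ = _ := by group
    calc n⁻¹ * E.t * n⁻¹⁻¹ = n⁻¹ * (g⁻¹ * ω⁻¹) * (ω * g * E.t) * n := by group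
      _ = (n⁻¹ * ω⁻¹) * g⁻¹ * (n * E.t * n⁻¹) * n := by rw [h1, ← e3]; group
      _ = ω⁻¹ * (n⁻¹ * g⁻¹ * n) * E.t := by rw [e1]; group
      _ = _ := by rw [h3]; group

/-- conjugation -/
theorem InN2.conj {k n : G} (hn : S.InN2 n) (hW : ∀ ω ∈ S.Wt, k * ω * k⁻¹ ∈ S.Wt)
    (hW' : ∀ ω ∈ S.Wt, k⁻¹ * ω * k ∈ S.Wt) (hQ : ∀ g, g ∈ E.Q ↔ k * g * k⁻¹ ∈ E.Q)
    (ht : k * E.t = E.t * k) : S.InN2 (k * n * k⁻¹) where
  w ω hω := by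
    have h1 := hn.w _ (hW' ω hω)
    calc k * n * k⁻¹ * ω = k * (n * (k⁻¹ * ω * k)) * k⁻¹ := by group
      _ = _ := by rw [h1]; group
  q g hg := by
    have hg' : k⁻¹ * g * k ∈ E.Q := by
      rw [hQ]
      have e : k * (k⁻¹ * g * k) * k⁻¹ = g := by group
      rwa [e]
    obtain ⟨ω, hω, h1⟩ := hn.q _ hg'
    refine ⟨_, hW ω hω, ?_⟩
    calc k * n * k⁻¹ * g * (k * n * k⁻¹)⁻¹ = k * (n * (k⁻¹ * g * k) * n⁻¹) * k⁻¹ := by group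
      _ = _ := by rw [h1]; group
  t := by
    obtain ⟨ω, hω, g, hg, h1⟩ := hn.t
    refine ⟨_, hW ω hω, _, (hQ g).1 hg, ?_⟩
    have h2 : k⁻¹ * E.t * k = E.t := by rw [comm_inv ht]; group
    calc k * n * k⁻¹ * E.t * (k * n * k⁻¹)⁻¹ = k * (n * (k⁻¹ * E.t * k) * n⁻¹) * k⁻¹ := by group
      _ = k * (ω * g * E.t) * k⁻¹ := by rw [h2, h1]
      _ = (k * ω * k⁻¹) * (k * g * k⁻¹) * (k * E.t * k⁻¹) := by group
      _ = _ := by rw [conj_of_comm ht]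

/-- An element centralising `Ŵ` and acting trivially on `ŴQ/Ŵ` with `n t n⁻¹ ∈ Ŵ t` is in `ŴQ`. -/
theorem fix_t {n ω : G} (hω : ω ∈ S.Wt) (ht : n * E.t * n⁻¹ = ω * E.t) :
    ∃ η ∈ S.Wt, η⁻¹ * n * E.t = E.t * (η⁻¹ * n) := by
  have h1 : ω * E.t * (ω * E.t) = 1 := by
    rw [← ht]
    calc n * E.t * n⁻¹ * (n * E.t * n⁻¹) = n * (E.t * E.t) * n⁻¹ := by group
      _ = 1 := by rw [E.t_sq]; group
  have h2 : ω * E.t = E.t * ω := by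
    have h3 : E.t * ω * E.t = ω⁻¹ := by
      rw [← mul_eq_one_iff_eq_inv]
      calc E.t * ω * E.t * ω = ω⁻¹ * (ω * E.t * (ω * E.t)) * ω := by group
        _ = 1 := by rw [h1]; group
    calc ω * E.t = (ω * ω) * (ω⁻¹ * E.t) := by group
      _ = (E.t * ω * E.t) * E.t := by rw [S.Wt_sq hω, h3, one_mul]
      _ = E.t * ω * (E.t * E.t) := by group
      _ = _ := by rw [E.t_sq, mul_one]
  obtain ⟨v, rfl⟩ := S.Wt_centW hω h2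
  obtain ⟨η, hη, h3⟩ := S.Wt_onto v
  refine ⟨η, hη, comm_of_conj ?_⟩
  calc η⁻¹ * n * E.t * (η⁻¹ * n)⁻¹ = η⁻¹ * (n * E.t * n⁻¹) * η := by group
    _ = E.t := by rw [ht, ← h3]; group

theorem core2 {n ω : G} (hn : ∀ ω ∈ S.Wt, n * ω = ω * n)
    (hq : ∀ g ∈ E.Q, ∃ ω ∈ S.Wt, n * g * n⁻¹ = ω * g)
    (hω : ω ∈ S.Wt) (ht : n * E.t * n⁻¹ = ω * E.t) : ∃ η ∈ S.Wt, ∃ g ∈ E.Q, n = η * g := by
  obtain ⟨η, hη, h1⟩ := fix_t hω ht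
  have hw : ∀ ω ∈ S.Wt, η⁻¹ * n * ω = ω * (η⁻¹ * n) := by
    intro ω hω
    rw [mul_assoc, hn ω hω, ← mul_assoc, S.Wt_Wt (S.Wt.inv_mem hη) hω, mul_assoc]
  have key : ∀ g ∈ E.Q, ∃ x y z, η⁻¹ * n * g * (η⁻¹ * n)⁻¹ = E.xz x * E.xc y * E.xb z * g := by
    intro g hg
    obtain ⟨ω, hω, h2⟩ := hq g hg
    have h3 : η⁻¹ * n * g * (η⁻¹ * n)⁻¹ = ω * g := by
      rw [mc, h2, conj_of_comm]
      exact comm_mul (S.Wt_Wt (S.Wt.inv_mem hη) hω) (S.Wt_Q (S.Wt.inv_mem hη) hg)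
    have h4 : ω * E.t = E.t * ω := by
      have e1 : ω = η⁻¹ * n * g * (η⁻¹ * n)⁻¹ * g⁻¹ := by rw [h3]; group
      have e2 := comm_inv (E.t_Q g hg).symm
      have e3 := comm_inv h1
      have e4 := (E.t_Q g hg).symm
      rw [e1]
      calc η⁻¹ * n * g * (η⁻¹ * n)⁻¹ * g⁻¹ * E.t = η⁻¹ * n * g * (η⁻¹ * n)⁻¹ * (g⁻¹ * E.t) := by group
        _ = η⁻¹ * n * g * ((η⁻¹ * n)⁻¹ * E.t) * g⁻¹ := by rw [e2]; group
        _ = η⁻¹ * n * (g * E.t) * (η⁻¹ * n)⁻¹ * g⁻¹ := by rw [e3]; group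
        _ = (η⁻¹ * n * E.t) * g * (η⁻¹ * n)⁻¹ * g⁻¹ := by rw [e4]; group
        _ = _ := by rw [h1]; group
    obtain ⟨v, rfl⟩ := S.Wt_centW hω h4
    exact ⟨v.1, v.2.1, v.2.2, h3⟩
  obtain ⟨g, hg, h2 | h2⟩ := E.cent_Q2 (η⁻¹ * n) h1 (fun x => hw _ (S.Z_le_Wt (S.xz_mem x)))
    (fun x => hw _ (S.C_le_Wt (S.xc_mem x))) (fun x => hw _ (S.B_le_Wt (S.xb_mem x)))
    (fun q => key _ (E.p1_memQ q)) (fun q => key _ (E.p2_memQ q))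
  · exact ⟨η, hη, g, hg, by rw [← h2]; group⟩
  · exact (S.not_t (fun r hr => hw r (S.Z_le_Wt hr)) (fun r hr => (S.Z_Q r hr g hg).symm) h2).elim

theorem core2_cent {n ω : G} (hn : ∀ ω ∈ S.Wt, n * ω = ω * n) (hq : ∀ g ∈ E.Q, n * g = g * n)
    (hω : ω ∈ S.Wt) (ht : n * E.t * n⁻¹ = ω * E.t) : n ∈ S.Wt := by
  obtain ⟨η, hη, h1⟩ := fix_t hω ht
  obtain ⟨v, hv⟩ := S.mem_W h1
    (fun g hg => by rw [mul_assoc, hq g hg, ← mul_assoc, S.Wt_Q (S.Wt.inv_mem hη) hg, mul_assoc])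
    (fun r hr => by
      rw [mul_assoc, hn r (S.Z_le_Wt hr), ← mul_assoc, S.Wt_Wt (S.Wt.inv_mem hη) (S.Z_le_Wt hr),
        mul_assoc])
  have h2 : n = η * E.w v := by rw [← hv]; group
  rw [h2]
  exact S.Wt.mul_mem hη (S.w_mem_Wt v)

/-- `Q / W` is abelian. -/
theorem Q_comm {g k : G} (hg : g ∈ E.Q) (hk : k ∈ E.Q) : ∃ v, g * k * g⁻¹ = E.w v * k := by
  have h11 : ∀ q q' : Tp B, ∃ v, E.p1 q * E.p1 q' * (E.p1 q)⁻¹ = E.w v * E.p1 q' := by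
    intro q q'
    obtain ⟨c, hc⟩ := E.Q1_comm (E.p1_mem1 q') (E.p1_mem1 q)
    refine ⟨(c, 0, 0), ?_⟩
    rw [E.w_z, hc]; group
  have h12 : ∀ q q' : Tp B, ∃ v, E.p1 q * E.p2 q' * (E.p1 q)⁻¹ = E.w v * E.p2 q' := by
    intro q q'
    exact ⟨(0, q'.w * B.s q.w, 0), by rw [E.w_c, E.one_two]⟩
  -- apply `na`
  have hna : ∀ {g k : G}, (∃ v, g * k * g⁻¹ = E.w v * k) →
      ∃ v, (E.na * g * E.na⁻¹) * (E.na * k * E.na⁻¹) * (E.na * g * E.na⁻¹)⁻¹ =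
        E.w v * (E.na * k * E.na⁻¹) := by
    rintro g k ⟨v, h⟩
    refine ⟨B.mn v, ?_⟩
    rw [← E.conj_mn]
    calc (E.na * g * E.na⁻¹) * (E.na * k * E.na⁻¹) * (E.na * g * E.na⁻¹)⁻¹
        = E.na * (g * k * g⁻¹) * E.na⁻¹ := by group
      _ = _ := by rw [h]; group
  have h22 : ∀ q q' : Tp B, ∃ v, E.p2 q * E.p2 q' * (E.p2 q)⁻¹ = E.w v * E.p2 q' := by
    intro q q'
    have := hna (h11 q q')
    rwa [E.na_1, E.na_1] at this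
  have h21 : ∀ q q' : Tp B, ∃ v, E.p2 q * E.p1 q' * (E.p2 q)⁻¹ = E.w v * E.p1 q' := by
    intro q q'
    have := hna (h12 q q')
    rwa [E.na_1, E.na_2] at this
  have hr : ∀ {g : G}, (∀ q, ∃ v, g * E.p1 q * g⁻¹ = E.w v * E.p1 q) →
      (∀ q, ∃ v, g * E.p2 q * g⁻¹ = E.w v * E.p2 q) → (∀ x, g * E.xc x = E.xc x * g) →
      ∀ k ∈ E.Q, ∃ v, g * k * g⁻¹ = E.w v * k := by
    intro g h1 h2 hc k hk
    obtain ⟨q, x, q', rfl⟩ := (E.mem_Q k).1 hk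
    obtain ⟨v, hv⟩ := h1 q
    obtain ⟨u, hu⟩ := h2 q'
    refine ⟨v + u, ?_⟩
    rw [cm, cm, hv, hu, conj_of_comm (hc x), E.w_add]
    have e1 := E.w_Q u (E.p1_memQ q)
    have e2 := E.w_Q u (E.c_mem x)
    calc E.w v * E.p1 q * E.xc x * (E.w u * E.p2 q') = E.w v * E.p1 q * (E.xc x * E.w u) * E.p2 q' := by
          group
      _ = E.w v * (E.p1 q * E.w u) * E.xc x * E.p2 q' := by rw [← e2]; group
      _ = _ := by rw [← e1]; group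
  have hl : ∀ {g g' : G}, g ∈ E.Q → (∃ v, g * k * g⁻¹ = E.w v * k) → (∃ v, g' * k * g'⁻¹ = E.w v * k) →
      ∃ v, g * g' * k * (g * g')⁻¹ = E.w v * k := by
    rintro g g' hg ⟨v, hv⟩ ⟨u, hu⟩
    refine ⟨u + v, ?_⟩
    rw [mc, hu, cm, hv, conj_of_comm (E.w_Q u hg).symm, E.w_add, mul_assoc]
  obtain ⟨q, x, q', rfl⟩ := (E.mem_Q g).1 hg
  refine hl (E.Q.mul_mem (E.p1_memQ q) (E.c_mem x)) (hl (E.p1_memQ q) ?_ ?_) ?_
  · exact hr (h11 q) (h12 q) (fun x => (E.c_1 x q).symm) k hk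
  · exact ⟨0, by rw [E.w_zero, one_mul, conj_of_comm (E.c_Q x k hk)]⟩
  · exact hr (h21 q') (h22 q') (fun x => (E.c_2 x q').symm) k hk

theorem Q_mul_comm {g k : G} (hg : g ∈ E.Q) (hk : k ∈ E.Q) : ∃ v, g * k = E.w v * (k * g) := by
  obtain ⟨v, hv⟩ := Q_comm hg hk
  refine ⟨v, ?_⟩
  calc g * k = (g * k * g⁻¹) * g := by group
    _ = _ := by rw [hv]; group

theorem comm_mem2 {m n : G} (hm : S.InN2 m) (hn : S.InN2 n) : ∃ ω ∈ S.Wt, m * n * m⁻¹ = ω * n := by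
  have hw : ∀ ω ∈ S.Wt, m * n * m⁻¹ * n⁻¹ * ω = ω * (m * n * m⁻¹ * n⁻¹) :=
    (hm.mul hn).mul hm.inv |>.mul hn.inv |>.w
  have hq : ∀ g ∈ E.Q, m * n * m⁻¹ * n⁻¹ * g = g * (m * n * m⁻¹ * n⁻¹) := by
    intro g hg
    obtain ⟨u, hu, h1⟩ := hm.q g hg
    obtain ⟨v, hv, h2⟩ := hn.q g hg
    exact comm_trans h1 h2 (hm.w u hu) (hm.w v hv) (hn.w u hu) (hn.w v hv) (S.Wt_Wt hu hv)
  obtain ⟨μ, hμ, g, hg, h1⟩ := hm.t
  obtain ⟨ν, hν, k, hk, h2⟩ := hn.t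
  obtain ⟨α, hα, h3⟩ := hm.q k hk
  obtain ⟨β, hβ, h4⟩ := hn.q g hg
  have e1 : n * (μ * g) * n⁻¹ = μ * β * g := by rw [cm, h4, conj_of_comm (hn.w μ hμ), mul_assoc]
  have e2 : m * (ν * k) * m⁻¹ = ν * α * k := by rw [cm, h3, conj_of_comm (hm.w ν hν), mul_assoc]
  have h5 := comm_disp h1 h2 (by
    rw [e1]
    exact comm_mul (comm_mul (comm_mul (hw μ hμ) (hw β hβ)) (hq g hg)) (comm_mul (hw ν hν) (hq k hk)))
  rw [e1, e2] at h5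
  obtain ⟨v, hv⟩ := Q_mul_comm hk hg
  have e3 := S.Wt_Q hν hg
  have e4 := S.Wt_Q hμ hk
  have h6 : (μ * β * g * (ν * k))⁻¹ * (ν * α * k * (μ * g)) =
      (μ * β * ν)⁻¹ * (ν * α * μ) * E.w v := by
    have k1 := S.Wt_Q (S.Wt.mul_mem (S.Wt.mul_mem hμ hβ) hν) (E.Q.mul_mem hg hk)
    have k2 : μ * β * g * (ν * k) = μ * β * ν * (g * k) := by
      calc μ * β * g * (ν * k) = μ * β * (g * ν) * k := by group
        _ = _ := by rw [← e3]; group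
    have k3 : ν * α * k * (μ * g) = ν * α * μ * (E.w v * (g * k)) := by
      rw [← hv]
      calc ν * α * k * (μ * g) = ν * α * (k * μ) * g := by group
        _ = _ := by rw [← e4]; group
    have k4 : (μ * β * ν)⁻¹ * (ν * α * μ) * E.w v ∈ S.Wt :=
      S.Wt.mul_mem (S.Wt.mul_mem (S.Wt.inv_mem (S.Wt.mul_mem (S.Wt.mul_mem hμ hβ) hν))
        (S.Wt.mul_mem (S.Wt.mul_mem hν hα) hμ)) (S.w_mem_Wt v)
    have k5 := S.Wt_Q k4 (E.Q.inv_mem (E.Q.mul_mem hg hk))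
    rw [k2, k3]
    calc (μ * β * ν * (g * k))⁻¹ * (ν * α * μ * (E.w v * (g * k)))
        = ((g * k)⁻¹ * ((μ * β * ν)⁻¹ * (ν * α * μ) * E.w v)) * (g * k) := by group
      _ = _ := by rw [← k5]; group
  rw [h6] at h5
  have h7 : m * n * m⁻¹ * n⁻¹ ∈ S.Wt := core2_cent hw hq
    (S.Wt.mul_mem (S.Wt.mul_mem (S.Wt.inv_mem (S.Wt.mul_mem (S.Wt.mul_mem hμ hβ) hν))
        (S.Wt.mul_mem (S.Wt.mul_mem hν hα) hμ)) (S.w_mem_Wt v)) h5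
  exact ⟨_, h7, by group⟩

theorem Q_sq {g : G} (hg : g ∈ E.Q) : ∃ v, g * g = E.w v := by
  obtain ⟨q, x, q', rfl⟩ := (E.mem_Q g).1 hg
  obtain ⟨k1, h1⟩ := E.Q1_sq (E.p1_mem1 q)
  have h2 : ∃ k2, E.p2 q' * E.p2 q' = E.xb k2 := by
    obtain ⟨k2, h2⟩ := E.Q1_sq (E.p1_mem1 q')
    refine ⟨k2, ?_⟩
    rw [← E.na_1, ← E.na_z, ← h2]; group
  obtain ⟨k2, h2⟩ := h2
  obtain ⟨v, hv⟩ := Q_mul_comm (E.p2_memQ q') (E.Q.mul_mem (E.p1_memQ q) (E.c_mem x))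
  have e1 := E.c_1 x q
  refine ⟨v + (k1, 0, 0) + (0, 0, k2), ?_⟩
  have e5 := E.w_Q v (E.Q.mul_mem (E.p1_memQ q) (E.c_mem x))
  rw [E.w_add, E.w_add, E.w_z, E.w_b]
  calc E.p1 q * E.xc x * E.p2 q' * (E.p1 q * E.xc x * E.p2 q')
      = E.p1 q * E.xc x * (E.p2 q' * (E.p1 q * E.xc x)) * E.p2 q' := by group
    _ = ((E.p1 q * E.xc x) * E.w v) * (E.p1 q * E.xc x) * (E.p2 q' * E.p2 q') := by rw [hv]; group
    _ = E.w v * (E.p1 q * (E.xc x * E.p1 q) * E.xc x) * (E.p2 q' * E.p2 q') := by rw [← e5]; group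
    _ = E.w v * ((E.p1 q * E.p1 q) * (E.xc x * E.xc x)) * (E.p2 q' * E.p2 q') := by rw [e1]; group
    _ = _ := by rw [h1, h2, E.xc_sq, mul_one]

theorem sq_mem2 {n : G} (hn : S.InN2 n) : n * n ∈ S.Wt := by
  have hq : ∀ g ∈ E.Q, n * n * g = g * (n * n) := by
    intro g hg
    obtain ⟨u, hu, h1⟩ := hn.q g hg
    apply comm_of_conj
    rw [mc, h1, cm, h1, conj_of_comm (hn.w u hu), ← mul_assoc, S.Wt_sq hu, one_mul]
  obtain ⟨μ, hμ, g, hg, h1⟩ := hn.t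
  obtain ⟨α, hα, h3⟩ := hn.q g hg
  obtain ⟨v, hv⟩ := Q_sq hg
  have e3 := S.Wt_Q hμ hg
  have h2 : (n * n) * E.t * (n * n)⁻¹ = (μ * α * μ * E.w v) * E.t := by
    rw [mc, h1, cm, cm, h1, h3, conj_of_comm (hn.w μ hμ), ← hv]
    calc μ * (α * g) * (μ * g * E.t) = μ * α * (g * μ) * g * E.t := by group
      _ = _ := by rw [← e3]; group
  exact core2_cent (hn.mul hn).w hq
    (S.Wt.mul_mem (S.Wt.mul_mem (S.Wt.mul_mem hμ hα) hμ) (S.w_mem_Wt v)) h2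

/-- an element `m ∈ N₂` with `m t` an involution is in `ŴQ`. -/
theorem mem_of_inv {m : G} (hm : S.InN2 m) (h : m * E.t * (m * E.t) = 1) :
    ∃ η ∈ S.Wt, ∃ g ∈ E.Q, m = η * g := by
  obtain ⟨μ, hμ, g, hg, h1⟩ := hm.t
  have h2 := t_conj h1
  have h3 : m * (E.t * m * E.t⁻¹) = 1 := by
    rw [t_sq', ← h]; group
  rw [h2] at h3
  -- `μ g = m²`
  have h4 : μ * g = m * m := by
    have h5 : (μ * g)⁻¹ = m⁻¹ * m⁻¹ := by
      calc (μ * g)⁻¹ = m⁻¹ * (m * ((μ * g)⁻¹ * m)) * m⁻¹ := by group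
        _ = _ := by rw [h3]; group
    rw [← inv_inv (μ * g), h5, mul_inv_rev, inv_inv]
  rw [h4] at h1
  exact core2 hm.w hm.q (sq_mem2 hm) h1

end QGrown

end Cfsg.Agent.StdRank2.UFive
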