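import Cfsg.Agent.StdRank2.UFour.SeedOdd
import Cfsg.Agent.StdRank2.UFive.GrowNTwo

/-!
# The primitive data of the seed for `U₅(q)`

`Pre E.toWEnv F` from `UFive.Env` and the rank one relation `nb p2(r) nb ∈ U h(1, β) nb U`.
-/

set_option autoImplicit false
set_option linter.unusedSectionVars false

namespace Cfsg.Agent.StdRank2.UFive.SeedU5

open Subgroup Cfsg.Agent.StdRank2.UFour
open Cfsg.Agent.StdRank2.UFour.Seeding Cfsg.Agent.StdRank2.UFour.SeedMove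
open Cfsg.Agent.StdRank2.UFour.SeedPre Cfsg.Agent.StdRank2.UFour.SeedOdd
open Cfsg.Agent.StdRank2.UFive.NOne

variable {F : Type*} [Field F] [CharP F 2] {B : Bar F} {G : Type*} [Group G]
variable (E : Cfsg.Agent.StdRank2.UFive.Env B G)

theorem hh_one : E.hh 1 1 = 1 := by
  have := E.hh_mul 1 1 1 1
  rw [mul_one] at this
  exact left_eq_mul.1 this

/-- the torus `h(1, β)`. -/
def H1 : Subgroup G where
  carrier := {g | ∃ β, g = E.hh 1 β}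
  one_mem' := ⟨1, (hh_one E).symm⟩
  mul_mem' := by
    rintro _ _ ⟨β, rfl⟩ ⟨β', rfl⟩
    exact ⟨β * β', by rw [← E.hh_mul, mul_one]⟩
  inv_mem' := by
    rintro _ ⟨β, rfl⟩
    refine ⟨β⁻¹, ?_⟩
    rw [inv_eq_iff_mul_eq_one, ← E.hh_mul, mul_inv_cancel, mul_one, hh_one]

/-- the rank one relation. -/
def Rank1 : Prop := ∀ r : Tp B, r ≠ 1 → ∃ u ∈ UU E.toWEnv, ∃ β : Fˣ, ∃ u' ∈ UU E.toWEnv,
  E.nb * E.p2 r * E.nb = u * E.hh 1 β * E.nb * u'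

variable {E}

theorem mem_H1 {g : G} : g ∈ H1 E ↔ ∃ β, g = E.hh 1 β := Iff.rfl

theorem nb_inv : E.nb⁻¹ = E.nb := WEnv.inv_of_sq E.nb_sq

theorem h_a (β : Fˣ) (x : F) : E.hh 1 β * E.xa x * (E.hh 1 β)⁻¹ = E.xa ((β : F)⁻¹ * x) := by
  rw [E.hh_a, Units.val_one, one_mul]

theorem h_c (β : Fˣ) (x : F) : E.hh 1 β * E.xc x * (E.hh 1 β)⁻¹ = E.xc (B.s β * x) := by
  rw [E.hh_c, Units.val_one, one_mul]

theorem h_z (β : Fˣ) (x : B.K) : E.hh 1 β * E.xz x * (E.hh 1 β)⁻¹ = E.xz x := by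
  rw [E.hh_z, Units.val_one, B.nm_one, one_mul]

theorem h_1 (β : Fˣ) (q : Tp B) : E.hh 1 β * E.p1 q * (E.hh 1 β)⁻¹ =
    E.p1 (Tp.sm (B.s β * (β : F)⁻¹) q) := by
  rw [E.hh_1, Units.val_one, map_one, inv_one, mul_one, mul_one, one_mul]

theorem h_2 (β : Fˣ) (q : Tp B) : E.hh 1 β * E.p2 q * (E.hh 1 β)⁻¹ =
    E.p2 (Tp.sm (B.s β * B.s β * (β : F)⁻¹) q) := by
  rw [E.hh_2, Units.val_one, map_one, inv_one, mul_one, mul_one]

theorem q1_mem (q : Tp B) (x s : F) : E.q1 q x s ∈ E.Q1 := ⟨q, x, s, rfl⟩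

theorem xa_eq (s : F) : E.xa s = E.q1 1 0 s := by
  unfold Env.q1; rw [E.p1_one, E.toWEnv.xc_zero]; simp
theorem xc_eq (x : F) : E.xc x = E.q1 1 x 0 := by
  unfold Env.q1; rw [E.p1_one, E.toWEnv.xa_zero]; simp
theorem p1_eq (q : Tp B) : E.p1 q = E.q1 q 0 0 := by
  unfold Env.q1; rw [E.toWEnv.xc_zero, E.toWEnv.xa_zero]; simp
theorem xz_eq (k : B.K) : E.xz k = E.q1 (Tp.ofK k) 0 0 := by rw [← p1_eq, E.p1_K]
theorem one_eq : (1 : G) = E.q1 1 0 0 := by rw [← p1_eq, E.p1_one]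

/-! ### `Q₁` -/

/-- `Q₁` acts on `p2` -/
theorem q1_p2 (q : Tp B) (x s : F) (r : Tp B) : E.q1 q x s * E.p2 r * (E.q1 q x s)⁻¹ =
    E.p1 (q * Tp.sm (B.s s) r * q⁻¹) * E.xc (s * B.s r.c + r.w * B.s q.w) * E.p2 r := by
  unfold Env.q1
  have e1 := E.a_2 s r
  have e2 := E.one_two q r
  rw [E.p1_mul, E.p1_mul, ← E.p1_inv, E.xc_add]
  calc E.p1 q * E.xc x * E.xa s * E.p2 r * (E.p1 q * E.xc x * E.xa s)⁻¹
      = E.p1 q * E.xc x * (E.xa s * E.p2 r * (E.xa s)⁻¹) * (E.xc x)⁻¹ * (E.p1 q)⁻¹ := by group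
    _ = E.p1 q * (E.xc x * E.p1 (Tp.sm (B.s s) r)) * E.xc (s * B.s r.c) * (E.p2 r * (E.xc x)⁻¹) *
          (E.p1 q)⁻¹ := by rw [e1]; group
    _ = E.p1 q * E.p1 (Tp.sm (B.s s) r) * (E.xc x * E.xc (s * B.s r.c) * (E.xc x)⁻¹) * E.p2 r *
          (E.p1 q)⁻¹ := by rw [E.c_1, ← comm_inv (E.c_2 x r)]; group
    _ = E.p1 q * E.p1 (Tp.sm (B.s s) r) * E.xc (s * B.s r.c) * E.p2 r * (E.p1 q)⁻¹ := by
        rw [conj_of_comm]
        rw [← E.xc_add, ← E.xc_add, add_comm]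
    _ = E.p1 q * E.p1 (Tp.sm (B.s s) r) * (E.xc (s * B.s r.c) * (E.p1 q)⁻¹) *
          (E.p1 q * E.p2 r * (E.p1 q)⁻¹) := by group
    _ = _ := by
        rw [e2, E.p1_inv, E.c_1]
        group

theorem nb_Q1 {k : G} (hk : k ∈ E.Q1) : E.nb * k * E.nb⁻¹ ∈ E.Q1 := by
  obtain ⟨q, x, s, rfl⟩ := hk
  rw [E.q1_conj, E.nb_1, E.nb_c, E.nb_a]
  exact E.Q1.mul_mem (E.Q1.mul_mem (E.p1_mem1 _) (E.xa_mem1 _)) (E.xc_mem1 _)

theorem T_Q1 {k : G} (hk : k ∈ E.T) {g : G} (hg : g ∈ E.Q1) : k * g * k⁻¹ ∈ E.Q1 := by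
  obtain ⟨q, x, s, rfl⟩ := hg
  obtain ⟨μ, ν, h1, h2, -, -⟩ := E.T_act k hk
  obtain ⟨ω, ω', h3, -⟩ := E.T_act' k hk
  rw [E.q1_conj, h3, h2, h1]
  exact E.Q1.mul_mem (E.Q1.mul_mem (E.p1_mem1 _) (E.xc_mem1 _)) (E.xa_mem1 _)

/-- `p2` normalises `Q₁`. -/
theorem p2_Q1 (r : Tp B) {g : G} (hg : g ∈ E.Q1) : E.p2 r * g * (E.p2 r)⁻¹ ∈ E.Q1 := by
  obtain ⟨q, x, s, rfl⟩ := hg
  have h1 := q1_p2 (E := E) q x s r
  have h2 : E.p2 r * E.q1 q x s * (E.p2 r)⁻¹ =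
      (E.p1 (q * Tp.sm (B.s s) r * q⁻¹) * E.xc (s * B.s r.c + r.w * B.s q.w))⁻¹ * E.q1 q x s := by
    have h3 : E.q1 q x s * E.p2 r = E.p1 (q * Tp.sm (B.s s) r * q⁻¹) *
        E.xc (s * B.s r.c + r.w * B.s q.w) * E.p2 r * E.q1 q x s := by rw [← h1]; group
    calc E.p2 r * E.q1 q x s * (E.p2 r)⁻¹
        = (E.p1 (q * Tp.sm (B.s s) r * q⁻¹) * E.xc (s * B.s r.c + r.w * B.s q.w))⁻¹ *
          (E.p1 (q * Tp.sm (B.s s) r * q⁻¹) * E.xc (s * B.s r.c + r.w * B.s q.w) * E.p2 r *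
            E.q1 q x s) * (E.p2 r)⁻¹ := by group
      _ = _ := by rw [← h3]; group
  rw [h2]
  exact E.Q1.mul_mem (E.Q1.inv_mem (E.Q1.mul_mem (E.p1_mem1 _) (E.xc_mem1 _))) (q1_mem q x s)

theorem mem_U {g : G} : g ∈ UU E.toWEnv ↔ ∃ g1 ∈ E.Q1, ∃ r, g = g1 * E.p2 r := by
  constructor
  · rintro ⟨k, hk, s, rfl⟩
    obtain ⟨q, x, r, rfl⟩ := (E.mem_Q k).1 hk
    refine ⟨E.p1 q * E.xc x * (E.p2 r * E.xa s * (E.p2 r)⁻¹),
      mul_mem (mul_mem (E.p1_mem1 q) (E.xc_mem1 x)) (p2_Q1 r (E.xa_mem1 s)), r, by group⟩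
  · rintro ⟨g1, ⟨q, x, s, rfl⟩, r, rfl⟩
    exact mul_mem (mul_mem (mul_mem (Q_le E.toWEnv (E.p1_memQ q)) (Q_le E.toWEnv (E.c_mem x)))
      (a_mem E.toWEnv s)) (Q_le E.toWEnv (E.p2_memQ r))

theorem Q1_le : E.Q1 ≤ UU E.toWEnv := fun g hg => mem_U.2 ⟨g, hg, 1, by rw [E.p2_one, mul_one]⟩

theorem U_Q1 {u : G} (hu : u ∈ UU E.toWEnv) {k : G} (hk : k ∈ E.Q1) : u * k * u⁻¹ ∈ E.Q1 := by
  obtain ⟨g1, hg1, r, rfl⟩ := mem_U.1 hu
  have e : g1 * E.p2 r * k * (g1 * E.p2 r)⁻¹ = g1 * (E.p2 r * k * (E.p2 r)⁻¹) * g1⁻¹ := by group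
  rw [e]
  exact mul_mem (mul_mem hg1 (p2_Q1 r hk)) (inv_mem hg1)

theorem Hp_faith {k : G} (hk : k ∈ H1 E) (h : ∀ s, k * E.xa s * k⁻¹ = E.xa s) : k = 1 := by
  obtain ⟨β, rfl⟩ := hk
  have h1 := h 1
  rw [h_a, mul_one, xa_eq, xa_eq] at h1
  have h2 := (E.q1_injective h1).2.2
  have h3 : (β : F) = 1 := inv_eq_one.1 h2
  have h4 : β = 1 := Units.ext h3
  rw [h4, hh_one]

theorem b_not : E.xb 1 ∉ E.Q1 := by
  rintro ⟨q, x, s, h⟩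
  have h0 : E.xb 1 * E.xa 0 = (E.p1 q * E.xc x) * E.xa s := by
    rw [E.toWEnv.xa_zero, mul_one]; exact h
  have hs := a_coord (E.b_mem 1) (mul_mem (E.p1_memQ q) (E.c_mem x)) h0
  rw [← hs, E.toWEnv.xa_zero, mul_one, mul_one] at h0
  have h1 : E.p1 q * E.xc x * E.p2 (Tp.ofK 1)⁻¹ * E.xa 0 = 1 := by
    rw [← E.p2_inv, E.p2_K, ← h0, E.toWEnv.xa_zero]; group
  obtain ⟨-, -, h2, -⟩ := E.u_inj _ _ _ _ h1
  have h3 : (Tp.ofK 1 : Tp B) = 1 := inv_eq_one.1 h2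
  have h4 := congrArg Tp.c h3
  exact one_ne_zero h4

/-! ### `U` -/

theorem conj_xc (g1 : G) (hg1 : g1 ∈ E.Q) (s y : F) (h : (g1 * E.xa s) * E.xc y = E.xc y * (g1 * E.xa s)) :
    B.tr (s * B.s y) = 0 := by
  have h1 := SeedEnv.conj_c_form (E := E.toWEnv) hg1 s y
  rw [conj_of_comm h] at h1
  have h2 : E.xz (B.tr (s * B.s y)) = E.xz 0 := by rw [E.toWEnv.xz_zero]; exact right_eq_mul.1 h1
  exact SeedEnv.xz_inj h2

theorem cent_U {g : G} (hg : g ∈ UU E.toWEnv) (h : ∀ x ∈ E.Q1, g * x = x * g) : ∃ x, g = E.xz x := by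
  obtain ⟨k, hk, s, rfl⟩ := hg
  have hs : s = 0 := SeedEnv.tr_nondeg (B := B) fun y => conj_xc k hk s y (h _ (E.xc_mem1 y))
  subst hs
  rw [E.toWEnv.xa_zero, mul_one] at h ⊢
  obtain ⟨q, x, r, rfl⟩ := (E.mem_Q k).1 hk
  -- commute with `xa 1`
  have h1 := h _ (E.xa_mem1 1)
  have h2 : E.q1 1 0 1 * E.p2 r * (E.q1 1 0 1)⁻¹ = E.p1 (1 * Tp.sm (B.s 1) r * 1⁻¹) *
    E.xc (1 * B.s r.c + r.w * B.s (1 : Tp B).w) * E.p2 r := q1_p2 _ _ _ _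
  rw [← xa_eq] at h2
  have h3 := E.a_c 1 x
  have h4 : E.xa 1 * (E.p1 q * E.xc x * E.p2 r) * (E.xa 1)⁻¹ =
      E.p1 q * (E.xz (B.tr (1 * B.s x)) * E.xc x) * (E.p1 (1 * Tp.sm (B.s 1) r * 1⁻¹) *
        E.xc (1 * B.s r.c + r.w * B.s (1 : Tp B).w) * E.p2 r) := by
    rw [cm, cm, conj_of_comm (E.a_1 1 q), h3, h2]
  rw [conj_of_comm h1.symm, ← E.p1_K] at h4
  have h5 : E.q1 (q * Tp.ofK (B.tr (1 * B.s x)) * Tp.sm (B.s 1) r) (x + B.s r.c) 0 = E.q1 q x 0 := by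
    have e1 : E.p1 q * E.xc x * E.p2 r = E.p1 q * (E.p1 (Tp.ofK (B.tr (1 * B.s x))) * E.xc x) *
        (E.p1 (Tp.sm (B.s 1) r) * E.xc (B.s r.c)) * E.p2 r := by
      rw [h4]; simp [mul_assoc]
    have e2 := mul_right_cancel e1
    unfold Env.q1
    rw [E.toWEnv.xa_zero, mul_one, mul_one, e2, E.p1_mul, E.p1_mul, E.xc_add]
    have e3 := E.c_1 x (Tp.sm (B.s 1) r)
    calc E.p1 q * E.p1 (Tp.ofK (B.tr (1 * B.s x))) * E.p1 (Tp.sm (B.s 1) r) * (E.xc x * E.xc (B.s r.c))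
        = E.p1 q * E.p1 (Tp.ofK (B.tr (1 * B.s x))) * (E.p1 (Tp.sm (B.s 1) r) * E.xc x) * E.xc (B.s r.c) := by
          group
      _ = _ := by rw [← e3]; group
  obtain ⟨h6, h7, -⟩ := E.q1_injective h5
  have hrc : B.s r.c = 0 := by linear_combination h7
  have hrc' : r.c = 0 := by
    have := congrArg B.s hrc
    rwa [B.invol, map_zero] at this
  have hrw : r.w = 0 := by
    have h8 := r.ok
    rw [hrc', map_zero, add_zero] at h8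
    rcases mul_eq_zero.1 h8.symm with h9 | h9
    · exact h9
    · have := congrArg B.s h9
      rwa [B.invol, map_zero] at this
  have hr : r = 1 := by ext <;> assumption
  rw [hr, E.p2_one, mul_one] at h ⊢
  exact E.center_Q1 (mul_mem (E.p1_mem1 q) (E.xc_mem1 x)) h

theorem D_char {g : G} (hg : g ∈ E.Q1) (h : ∀ u ∈ UU E.toWEnv, ∃ x, g * u * g⁻¹ = E.xz x * u) :
    ∃ x y, g = E.xz x * E.xc y := by
  obtain ⟨q, x, s, rfl⟩ := hg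
  have key : ∀ r : Tp B, s * B.s r.c + r.w * B.s q.w = 0 ∧ B.s s * r.w = 0 := by
    intro r
    obtain ⟨k, hk⟩ := h _ (Q_le E.toWEnv (E.p2_memQ r))
    rw [q1_p2] at hk
    have h1 := mul_right_cancel hk
    rw [xz_eq] at h1
    have h2 : E.q1 (q * Tp.sm (B.s s) r * q⁻¹) (s * B.s r.c + r.w * B.s q.w) 0 = E.q1 (Tp.ofK k) 0 0 := by
      rw [← h1]; unfold Env.q1; rw [E.toWEnv.xa_zero, mul_one]
    obtain ⟨h3, h4, -⟩ := E.q1_injective h2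
    refine ⟨h4, ?_⟩
    have h5 := congrArg Tp.w h3
    simp only [Tp.mul_w, Tp.sm_w, Tp.inv_w, Tp.ofK_w] at h5
    have h6 := CharTwo.add_self_eq_zero q.w
    linear_combination h5 - h6
  obtain ⟨c, hc⟩ := B.tr_surj (B.nm 1)
  let r : Tp B := ⟨1, c, congrArg Subtype.val hc⟩
  have hs : s = 0 := by
    have h1 := (key r).2
    change B.s s * 1 = 0 at h1
    rw [mul_one] at h1
    have := congrArg B.s h1
    rwa [B.invol, map_zero] at this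
  have hq : q.w = 0 := by
    have h1 := (key r).1
    rw [hs, zero_mul, zero_add] at h1
    change 1 * B.s q.w = 0 at h1
    rw [one_mul] at h1
    have := congrArg B.s h1
    rwa [B.invol, map_zero] at this
  obtain ⟨k, hk⟩ := Env.exists_ofK (u := q) (v := 1) (by rw [hq]; rfl)
  refine ⟨k, x, ?_⟩
  unfold Env.q1
  rw [hs, E.toWEnv.xa_zero, mul_one, hk, mul_one, E.p1_K]

theorem U_two : IsPGroup 2 (UU E.toWEnv) := by
  rintro ⟨g, hg⟩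
  refine ⟨3, Subtype.ext ?_⟩
  change g ^ 2 ^ 3 = 1
  obtain ⟨q, hq, s, rfl⟩ := hg
  have h1 : q * E.xa s * (q * E.xa s) = q * (E.xa s * q * (E.xa s)⁻¹) := by
    calc q * E.xa s * (q * E.xa s) = q * (E.xa s * q * (E.xa s)⁻¹) * (E.xa s * E.xa s) := by group
      _ = _ := by rw [E.xa_sq, mul_one]
  have h2 : q * (E.xa s * q * (E.xa s)⁻¹) ∈ E.Q := mul_mem hq (E.xa_Q s q hq)
  obtain ⟨v, hv⟩ := QGrown.Q_sq (E := E) h2
  have e : ∀ g : G, g ^ 2 ^ 3 = ((g * g) * (g * g)) * ((g * g) * (g * g)) := fun g => by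
    rw [show 2 ^ 3 = 2 * 2 * 2 from rfl, pow_mul, pow_mul, pow_two, pow_two, pow_two]
  rw [e, h1, hv, E.w_sq]

theorem exists_Tp (w : F) : ∃ q : Tp B, q.w = w := by
  obtain ⟨c, hc⟩ := B.tr_surj (B.nm w)
  exact ⟨⟨w, c, congrArg Subtype.val hc⟩, rfl⟩

theorem exists_l (E : Cfsg.Agent.StdRank2.UFive.Env B G) : ∃ l : Fˣ, B.s (l : F) = l ∧ (l : F) + 1 ≠ 0 ∧
    (l : F)⁻¹ + 1 ≠ 0 ∧ B.nm (l : F) + 1 ≠ 0 := by
  have h2 : ∀ a : F, a + a = 0 := fun a => CharTwo.add_self_eq_zero a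
  have hl0 : ((E.lam : B.K) : F) ≠ 0 := fun h => E.lam.ne_zero (Subtype.ext h)
  have hl1 : ((E.lam : B.K) : F) ≠ 1 := fun h => E.lam_ne (Subtype.ext h)
  refine ⟨Units.mk0 _ hl0, ?_, ?_, ?_, ?_⟩
  · rw [Units.val_mk0, B.s_K]
  · rw [Units.val_mk0]
    intro h
    exact hl1 (by linear_combination h - h2 1)
  · rw [Units.val_mk0]
    intro h
    have h3 : ((E.lam : B.K) : F)⁻¹ = 1 := by linear_combination h - h2 1
    exact hl1 (inv_eq_one.1 h3)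
  · rw [Units.val_mk0, B.nm_K]
    intro h
    have h4 : (E.lam : B.K) * E.lam = 1 := by linear_combination h - B.K_add_self 1
    have h5 : ((E.lam : B.K) + 1) * ((E.lam : B.K) + 1) = 0 := by
      linear_combination h4 + B.K_add_self (E.lam : B.K) + B.K_add_self 1
    rcases mul_self_eq_zero.1 h5 with h6
    exact E.lam_ne (by linear_combination h6 - B.K_add_self 1)

/-- `U` is generated by the commutators with the torus `h(1, β)`. -/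
theorem U_gen : UU E.toWEnv ≤ closure {g | ∃ k ∈ H1 E, ∃ u ∈ UU E.toWEnv, g = k * u * k⁻¹ * u⁻¹} := by
  set C := closure {g | ∃ k ∈ H1 E, ∃ u ∈ UU E.toWEnv, g = k * u * k⁻¹ * u⁻¹} with hC
  obtain ⟨l, hl, n1, n2, n3⟩ := exists_l E
  have ca : ∀ s, E.xa s ∈ C := by
    intro s
    refine subset_closure ⟨_, ⟨l, rfl⟩, E.xa (((l : F)⁻¹ + 1)⁻¹ * s), a_mem E.toWEnv _, ?_⟩
    rw [h_a, WEnv.inv_of_sq (E.xa_sq _), ← E.xa_add]
    congr 1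
    have e : ((l : F)⁻¹ + 1) * ((l : F)⁻¹ + 1)⁻¹ = 1 := mul_inv_cancel₀ n2
    linear_combination -s * e
  have cc : ∀ s, E.xc s ∈ C := by
    intro s
    refine subset_closure ⟨_, ⟨l, rfl⟩, E.xc (((l : F) + 1)⁻¹ * s), Q_le E.toWEnv (E.c_mem _), ?_⟩
    rw [h_c, hl, WEnv.inv_of_sq (E.xc_sq _), ← E.xc_add]
    congr 1
    have e : ((l : F) + 1) * ((l : F) + 1)⁻¹ = 1 := mul_inv_cancel₀ n1
    linear_combination -s * e
  have cb : ∀ s, E.xb s ∈ C := by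
    intro s
    refine subset_closure ⟨_, ⟨l, rfl⟩, E.xb ((B.nm (l : F) + 1)⁻¹ * s), Q_le E.toWEnv (E.b_mem _), ?_⟩
    rw [E.hh_b, WEnv.inv_of_sq (E.xb_sq _), ← E.xb_add]
    congr 1
    have e : (B.nm (l : F) + 1) * (B.nm (l : F) + 1)⁻¹ = 1 := mul_inv_cancel₀ n3
    linear_combination -s * e
  have cz : ∀ x, E.xz x ∈ C := by
    intro x
    obtain ⟨s, hs⟩ := B.tr_surj x
    have h1 := E.a_c s 1
    rw [map_one, mul_one, hs] at h1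
    have h2 : E.xz x = E.xa s * E.xc 1 * (E.xa s)⁻¹ * (E.xc 1)⁻¹ := by rw [h1]; group
    rw [h2]
    exact mul_mem (mul_mem (mul_mem (ca s) (cc 1)) (inv_mem (ca s))) (inv_mem (cc 1))
  have c2 : ∀ q, E.p2 q ∈ C := by
    intro q
    obtain ⟨q', hq'⟩ := exists_Tp (B := B) (((l : F) + 1)⁻¹ * q.w)
    have h1 : E.hh 1 l * E.p2 q' * (E.hh 1 l)⁻¹ * (E.p2 q')⁻¹ ∈ C :=
      subset_closure ⟨_, ⟨l, rfl⟩, _, Q_le E.toWEnv (E.p2_memQ q'), rfl⟩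
    rw [h_2, E.p2_inv, ← E.p2_mul] at h1
    obtain ⟨k, hk⟩ := Env.exists_ofK (u := q)
      (v := Tp.sm (B.s (l : F) * B.s (l : F) * (l : F)⁻¹) q' * q'⁻¹) (by
        simp only [Tp.mul_w, Tp.sm_w, Tp.inv_w]
        rw [hq', hl]
        have e : ((l : F) + 1) * ((l : F) + 1)⁻¹ = 1 := mul_inv_cancel₀ n1
        have e2 : (l : F) * (l : F)⁻¹ = 1 := mul_inv_cancel₀ l.ne_zero
        linear_combination -q.w * e - (l : F) * (((l : F) + 1)⁻¹ * q.w) * e2)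
    rw [hk, E.p2_mul, E.p2_K]
    exact mul_mem (cb k) h1
  have c1 : ∀ q, E.p1 q ∈ C := by
    intro q
    obtain ⟨x, hx0, hx1, hxs⟩ := SeedEnd.exists_moving B
    set ω : F := B.s x * x⁻¹ with hω
    have hω1 : ω + 1 ≠ 0 := by
      intro h
      have h2 : ω = 1 := Tp.eq_of h
      apply hxs
      rw [hω] at h2
      field_simp at h2
      exact h2
    obtain ⟨q', hq'⟩ := exists_Tp (B := B) ((ω + 1)⁻¹ * q.w)
    have h1 : E.hh 1 (Units.mk0 x hx0) * E.p1 q' * (E.hh 1 (Units.mk0 x hx0))⁻¹ * (E.p1 q')⁻¹ ∈ C :=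
      subset_closure ⟨_, ⟨_, rfl⟩, _, Q_le E.toWEnv (E.p1_memQ q'), rfl⟩
    rw [h_1, E.p1_inv, ← E.p1_mul, Units.val_mk0] at h1
    obtain ⟨k, hk⟩ := Env.exists_ofK (u := q) (v := Tp.sm (B.s x * x⁻¹) q' * q'⁻¹) (by
        simp only [Tp.mul_w, Tp.sm_w, Tp.inv_w]
        rw [hq', ← hω]
        have e : (ω + 1) * (ω + 1)⁻¹ = 1 := mul_inv_cancel₀ hω1
        linear_combination -q.w * e)
    rw [hk, E.p1_mul, E.p1_K]
    exact mul_mem (cz k) h1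
  rintro _ ⟨k, hk, s, rfl⟩
  obtain ⟨q, x, r, rfl⟩ := (E.mem_Q k).1 hk
  exact mul_mem (mul_mem (mul_mem (c1 q) (cc x)) (c2 r)) (ca s)

/-! ### Coordinates -/

variable (E) in
open Classical in
/-- the coordinates of an element of `Q₁`. -/
noncomputable def co1 (g : G) : Tp B × F × F :=
  if h : ∃ p : Tp B × F × F, g = E.q1 p.1 p.2.1 p.2.2 then h.choose else (1, 0, 0)

theorem co1_q1 (q : Tp B) (x s : F) : co1 E (E.q1 q x s) = (q, x, s) := by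
  have h : ∃ p : Tp B × F × F, E.q1 q x s = E.q1 p.1 p.2.1 p.2.2 := ⟨(q, x, s), rfl⟩
  unfold co1
  rw [dif_pos h]
  obtain ⟨h1, h2, h3⟩ := E.q1_injective h.choose_spec
  exact Prod.ext h1.symm (Prod.ext h2.symm h3.symm)

variable (E) in
/-- a set theoretic section of `p1 / Z`. -/
noncomputable def xv (w : F) : G :=
  E.p1 ⟨w, (B.tr_surj 1).choose * (w * B.s w), by
    have h : (B.tr_surj 1).choose + B.s (B.tr_surj 1).choose = 1 :=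
      congrArg Subtype.val (B.tr_surj 1).choose_spec
    rw [map_mul, map_mul, B.invol]
    linear_combination (w * B.s w) * h⟩

theorem xv_mem (w : F) : xv E w ∈ E.Q1 := E.p1_mem1 _

theorem h_v (β : Fˣ) (w : F) : E.hh 1 β * xv E w * (E.hh 1 β)⁻¹ = xv E (B.s β * (β : F)⁻¹ * w) := by
  unfold xv
  rw [h_1]
  congr 1
  refine Tp.ext rfl ?_
  simp only [Tp.sm_c, map_mul, map_inv₀, B.invol]
  ring

/-- the extra relation. -/
theorem braid_rel : E.nb * E.xb 1 * E.nb = E.xb 1 * E.nb * E.xb 1 := by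
  have hb := E.nb_b
  have h1 : E.nb⁻¹ = E.nb := nb_inv
  have h2 : (E.xb 1)⁻¹ = E.xb 1 := WEnv.inv_of_sq (E.xb_sq 1)
  have h3 : E.nb * E.xb 1 * E.nb * (E.xb 1 * E.nb * E.xb 1) = 1 := by
    rw [← hb]; group
  rw [eq_inv_of_mul_eq_one_left h3, mul_inv_rev, mul_inv_rev, h1, h2, mul_assoc]

theorem nb_gen : E.nb ∈ closure ((UU E.toWEnv : Set G) ∪ {g | ∃ u ∈ UU E.toWEnv, g = E.nb * u * E.nb⁻¹}) := by
  have h1 : E.nb = E.xb 1 * (E.nb * E.xb 1 * E.nb⁻¹) * E.xb 1 := by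
    have h2 := E.xb_sq 1
    rw [nb_inv, braid_rel]
    calc E.nb = (E.xb 1 * E.xb 1) * E.nb * (E.xb 1 * E.xb 1) := by rw [h2]; group
      _ = _ := by group
  have h2 : E.xb 1 ∈ closure ((UU E.toWEnv : Set G) ∪ {g | ∃ u ∈ UU E.toWEnv, g = E.nb * u * E.nb⁻¹}) :=
    subset_closure (Or.inl (Q_le E.toWEnv (E.b_mem 1)))
  have h3 : E.nb * E.xb 1 * E.nb⁻¹ ∈
      closure ((UU E.toWEnv : Set G) ∪ {g | ∃ u ∈ UU E.toWEnv, g = E.nb * u * E.nb⁻¹}) :=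
    subset_closure (Or.inr ⟨_, Q_le E.toWEnv (E.b_mem 1), rfl⟩)
  have h4 := mul_mem (mul_mem h2 h3) h2
  rw [← h1] at h4
  exact h4

/-- **The primitive data for `U₅(q)`.** -/
noncomputable def pre (hr : Rank1 E) : Pre E.toWEnv F where
  Q1 := E.Q1
  Hp := H1 E
  nb := E.nb
  Xβ := {r | ∃ q, r = E.p2 q}
  chi := fun μ => μ / B.s μ
  xv := xv E
  pa := fun g => (co1 E g).2.2
  pv := fun g => (co1 E g).1.w
  pc := fun g => (co1 E g).2.1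
  chi_eq := fun μ _ => Or.inr rfl
  V_gen := ⟨1, fun w => ⟨w, by simp⟩⟩
  nb_sq := E.nb_sq
  t_nb := E.t_nb
  nb_z := fun x => by rw [← E.p1_K, E.nb_1]
  nb_c := E.nb_c
  nb_T := fun g => (E.nb_T g).1
  nb_Q1 := fun _ hg => nb_Q1 hg
  nb_gen := nb_gen
  Hp_T := by rintro _ ⟨β, rfl⟩; exact E.hh_mem 1 β
  Hp_z := by rintro _ ⟨β, rfl⟩ x; exact h_z β x
  nb_Hp := by
    rintro _ ⟨β, rfl⟩
    have hs : B.s (β : F) ≠ 0 := (map_ne_zero_iff B.s B.s.injective).2 β.ne_zero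
    exact ⟨(Units.mk0 _ hs)⁻¹, E.nb_hh 1 β _ (by simp [hs])⟩
  Hp_act := by
    rintro _ ⟨β, rfl⟩
    refine ⟨(β : F)⁻¹, inv_ne_zero β.ne_zero, h_a β, fun y => ?_, fun v => ⟨0, ?_⟩⟩
    · rw [h_c, map_inv₀, inv_inv]
    · rw [h_v, E.toWEnv.xz_zero, one_mul]
      congr 1
      rw [smul_eq_mul, map_inv₀, div_inv_eq_mul, mul_comm (B.s (β : F))]
  Hp_onto := by
    intro μ hμ
    refine ⟨E.hh 1 (Units.mk0 μ hμ)⁻¹, ⟨_, rfl⟩, fun x => ?_, fun y => ?_, fun v => ⟨0, ?_⟩⟩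
    · rw [h_a]; congr 2; simp
    · rw [h_c]; congr 2; simp
    · rw [h_v, E.toWEnv.xz_zero, one_mul]
      congr 1
      rw [smul_eq_mul, Units.val_inv_eq_inv_val, Units.val_mk0, map_inv₀, inv_inv]
      ring
  Hp_faith := fun _ hk h => Hp_faith hk h
  Q1_le := Q1_le
  U_Q1 := fun _ hu _ hg => U_Q1 hu hg
  Hp_Q1 := by rintro _ ⟨β, rfl⟩ g hg; exact T_Q1 (E.hh_mem 1 β) hg
  b_not := b_not
  a_mem := E.xa_mem1
  c_mem := E.xc_mem1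
  v_mem := xv_mem
  v_Q := fun _ => E.p1_memQ _
  U_split := by
    intro g hg
    obtain ⟨g1, hg1, r, h⟩ := mem_U.1 hg
    exact ⟨g1, hg1, _, ⟨r, rfl⟩, h⟩
  Xβ_U := by
    rintro _ ⟨r, rfl⟩
    exact Q_le E.toWEnv (E.p2_memQ r)
  rank1 := by
    rintro _ ⟨r, rfl⟩
    by_cases h : r = 1
    · left; rw [h, E.p2_one]
    · right
      obtain ⟨u, hu, β, u', hu', e⟩ := hr r h
      exact ⟨u, hu, _, ⟨β, rfl⟩, u', hu', e⟩
  U_two := U_two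
  U_gen := U_gen
  D_char := fun _ hg h => D_char hg h
  cent_U := fun _ hg h => cent_U hg h
  cent_t := by
    intro c hc h
    obtain ⟨q, x, s, h1⟩ := E.cent_Q1 c hc (fun x => h _ (E.xz_mem1 x))
      (fun x => ⟨0, by rw [E.toWEnv.xz_zero, one_mul, h _ (E.xa_mem1 x), mul_inv_cancel_right]⟩)
      (fun x => ⟨0, by rw [E.toWEnv.xz_zero, one_mul, h _ (E.xc_mem1 x), mul_inv_cancel_right]⟩)
      (fun x => ⟨0, by rw [E.toWEnv.xz_zero, one_mul, h _ (E.p1_mem1 x), mul_inv_cancel_right]⟩)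
    exact ⟨_, q1_mem q x s, h1⟩
  pa_mul := by
    rintro _ ⟨q, x, s, rfl⟩ _ ⟨q', x', s', rfl⟩
    rw [E.q1_mul, co1_q1, co1_q1, co1_q1]
  pv_mul := by
    rintro _ ⟨q, x, s, rfl⟩ _ ⟨q', x', s', rfl⟩
    rw [E.q1_mul, co1_q1, co1_q1, co1_q1]
    simp
  pc_mul := by
    rintro _ ⟨q, x, s, rfl⟩ _ ⟨q', x', s', rfl⟩
    rw [E.q1_mul, co1_q1, co1_q1, co1_q1]
  ker := by
    rintro _ ⟨q, x, s, rfl⟩ h1 h2 h3
    rw [co1_q1] at h1 h2 h3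
    simp only at h1 h2 h3
    obtain ⟨k, hk⟩ := Env.exists_ofK (u := q) (v := 1) (by rw [h2]; rfl)
    refine ⟨k, ?_⟩
    unfold Env.q1
    rw [h1, h3, E.toWEnv.xa_zero, E.toWEnv.xc_zero, mul_one, mul_one, hk, mul_one, E.p1_K]
  pa_z := fun x => by rw [xz_eq, co1_q1]
  pv_z := fun x => by rw [xz_eq, co1_q1]; rfl
  pc_z := fun x => by rw [xz_eq, co1_q1]
  pa_a := fun x => by rw [xa_eq, co1_q1]
  pv_a := fun x => by rw [xa_eq, co1_q1]; rfl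
  pc_a := fun x => by rw [xa_eq, co1_q1]
  pa_v := fun x => by unfold xv; rw [p1_eq, co1_q1]
  pv_v := fun x => by unfold xv; rw [p1_eq, co1_q1]
  pc_v := fun x => by unfold xv; rw [p1_eq, co1_q1]
  pa_c := fun x => by rw [xc_eq, co1_q1]
  pv_c := fun x => by rw [xc_eq, co1_q1]; rfl
  pc_c := fun x => by rw [xc_eq, co1_q1]

variable (E) in
/-- `P = ⟨U, U^{nb}, h(1, β)⟩`. -/
def P : Subgroup G :=
  closure ((UU E.toWEnv : Set G) ∪ {g | ∃ u ∈ UU E.toWEnv, g = E.nb * u * E.nb⁻¹} ∪ H1 E)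

theorem P_eq (hr : Rank1 E) : (pre hr).P = P E := rfl

end Cfsg.Agent.StdRank2.UFive.SeedU5
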