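import Cfsg.Agent.StdRank2.UFour.SeedSolv
import Cfsg.Agent.StdRank2.UFive.SeedU5

/-!
# The seed for `U₅(q)`: `Seed5`
-/

set_option autoImplicit false
set_option linter.unusedSectionVars false

namespace Cfsg.Agent.StdRank2.UFive.SeedU5

open Subgroup Cfsg.Agent.StdRank2.UFour
open Cfsg.Agent.StdEven.Syl
open Cfsg.Agent.StdRank2.UFour.Seeding Cfsg.Agent.StdRank2.UFour.SeedMove
open Cfsg.Agent.StdRank2.UFour.SeedPre Cfsg.Agent.StdRank2.UFour.SeedOdd
open Cfsg.Agent.StdRank2.UFive.NOne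

variable {F : Type*} [Field F] [CharP F 2] {B : Bar F} {G : Type*} [Group G]
variable (E : Cfsg.Agent.StdRank2.UFive.Env B G)

/-- `⟨U, U^nb⟩`. -/
def UnU : Subgroup G :=
  closure ((UU E.toWEnv : Set G) ∪ {g | ∃ u ∈ UU E.toWEnv, g = E.nb * u * E.nb⁻¹})

/-- the torus `h(1, β)` is in `⟨U, U^nb⟩`. -/
def HGen : Prop := ∀ β : Fˣ, E.hh 1 β ∈ UnU E

variable {E}

theorem UnU_le : UnU E ≤ P E := closure_mono fun _ h => Or.inl h

theorem nb_mem : E.nb ∈ P E := UnU_le nb_gen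

theorem P_perfect (hg : HGen E) : ⁅P E, P E⁆ = P E := by
  apply le_antisymm
  · rw [Subgroup.commutator_le]
    intro a ha b hb
    rw [commutatorElement_def]
    exact mul_mem (mul_mem (mul_mem ha hb) (inv_mem ha)) (inv_mem hb)
  · have hU : UU E.toWEnv ≤ ⁅P E, P E⁆ := by
      refine U_gen.trans ?_
      rw [Subgroup.closure_le]
      rintro _ ⟨k, hk, u, hu, rfl⟩
      have hk' : k ∈ P E := subset_closure (Or.inr hk)
      have hu' : u ∈ P E := subset_closure (Or.inl (Or.inl hu))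
      have := Subgroup.commutator_mem_commutator hk' hu'
      rwa [commutatorElement_def] at this
    have hn : ∀ g ∈ ⁅P E, P E⁆, ∀ p ∈ P E, p * g * p⁻¹ ∈ ⁅P E, P E⁆ := by
      intro g hg p hp
      have h1 : ⁅P E, P E⁆ ≤ ⁅P E, P E⁆.comap (MulAut.conj p).toMonoidHom := by
        rw [Subgroup.commutator_le]
        intro a ha b hb
        have h2 := Subgroup.commutator_mem_commutator (mul_mem (mul_mem hp ha) (inv_mem hp))
          (mul_mem (mul_mem hp hb) (inv_mem hp))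
        rw [commutatorElement_def] at h2 ⊢
        have e : p * a * p⁻¹ * (p * b * p⁻¹) * (p * a * p⁻¹)⁻¹ * (p * b * p⁻¹)⁻¹ =
          p * (a * b * a⁻¹ * b⁻¹) * p⁻¹ := by group
        rw [e] at h2
        exact h2
      exact h1 hg
    have hX : UnU E ≤ ⁅P E, P E⁆ := by
      unfold UnU
      rw [Subgroup.closure_le]
      rintro g (hg | ⟨u, hu, rfl⟩)
      · exact hU hg
      · exact hn u (hU hu) _ nb_mem
    have hP : P E ≤ UnU E := by
      unfold P
      rw [Subgroup.closure_le]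
      rintro g (hg' | ⟨β, rfl⟩)
      · exact subset_closure hg'
      · exact hg β
    exact hP.trans hX

/-- **The seed for `U₅(q)`.** `hP`: `P` is normal in `C(⟨t⟩ Z)`. -/
theorem exists_seed5 [Finite F] [Finite G] (hr : Rank1 E) (hg : HGen E)
    (hP : ∀ c, c * E.t = E.t * c → (∀ x, c * E.xz x = E.xz x * c) → ∀ g ∈ P E, c * g * c⁻¹ ∈ P E)
    {n : G} (hn : n ∈ normalizer (TZ E.toWEnv : Set G)) {c : B.K} (hc : c ≠ 0)
    (ht : n * E.t * n⁻¹ = E.xz c * E.t) :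
    ∃ Sd : Seed5 E, ∀ y ∈ Sd.Y, ∀ g ∈ P E, y * g = g * y := by
  have hTZ : ∀ a ∈ TZ E.toWEnv, ∃ x, n⁻¹ * a * n = E.xz x ∨ n⁻¹ * a * n = E.xz x * E.t := by
    intro a ha
    exact conj_inv_mem_of_mem_normalizer hn ha
  have hnP := SeedEnd.normP_of_perfect (pre hr).toSeedEnv (P_perfect hg) (fun R hR hRt hRz =>
    SeedSolv.perf_mem hP (fun _ hk h => (pre hr).Hp_faith _ hk h) (fun m hm hmz hmq => by
      obtain ⟨q, x, s, h1⟩ := E.cent_Q1 m hm hmz (fun x => hmq _ (E.xa_mem1 x))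
        (fun x => hmq _ (E.xc_mem1 x)) (fun x => hmq _ (E.p1_mem1 x))
      exact ⟨_, q1_mem q x s, h1⟩) hR hRt hRz)
    (hTZ _ (t_mem E.toWEnv)) (fun y => hTZ _ (z_mem' E.toWEnv y))
  obtain ⟨Sd, h1⟩ := SeedEnd.exists_seed' (pre hr).toSeedEnv hnP hc ht
  exact ⟨{ toSeed := Sd, nb_comm := fun y hy => h1 y hy _ (pre hr).nb_mem }, h1⟩

end Cfsg.Agent.StdRank2.UFive.SeedU5
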