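import Cfsg.Agent.StdRank2.UFive.GrowAR
import Cfsg.Agent.StdRank2.UFive.SeedU5

/-!
# The grown group `S₀ = A N₂ = A P C R` of type `U₅(q)` and the class of `t`
-/

set_option autoImplicit false
set_option linter.unusedSectionVars false

namespace Cfsg.Agent.StdRank2.UFive

open Subgroup Cfsg.Agent.StdRank2.UFour
open Cfsg.Agent.StdRank2.UFour.SeedPre

variable {F : Type*} [Field F] [CharP F 2] {B : Bar F} {G : Type*} [Group G]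

namespace QGrown

open NOne RootLem

variable {E : Env B G} (S : QGrown E)

/-- `N₂` as a subgroup. -/
def N2 : Subgroup G where
  carrier := {n | S.InN2 n}
  mul_mem' := InN2.mul
  one_mem' := InN2.one
  inv_mem' := InN2.inv

theorem mem_N2 {n : G} : n ∈ S.N2 ↔ S.InN2 n := Iff.rfl

theorem Wt_le_N2 : S.Wt ≤ S.N2 := by
  intro ω hω
  refine ⟨fun η hη => S.Wt_Wt hω hη, fun g hg => ⟨1, S.Wt.one_mem, ?_⟩, ?_⟩
  · rw [one_mul, conj_of_comm (S.Wt_Q hω hg)]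
  · obtain ⟨v, hv⟩ := S.Wt_t hω
    exact ⟨_, S.w_mem_Wt v, 1, E.Q.one_mem, by rw [hv, mul_one]⟩

theorem Q_le_N2 : E.Q ≤ S.N2 := by
  intro g hg
  refine ⟨fun η hη => (S.Wt_Q hη hg).symm, fun k hk => ?_, 1, S.Wt.one_mem, 1, E.Q.one_mem, ?_⟩
  · obtain ⟨v, hv⟩ := Q_comm (E := E) hg hk
    exact ⟨_, S.w_mem_Wt v, hv⟩
  · rw [one_mul, one_mul, conj_of_comm (E.t_Q g hg).symm]

theorem A_conj_N2 [Finite G] {a n : G} (ha : a ∈ S.A) (hn : n ∈ S.N2) : a * n * a⁻¹ ∈ S.N2 := by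
  obtain ⟨p, hp, c, hc, g, hg, rfl⟩ := S.N2_le hn
  have e : a * (p * c * g) * a⁻¹ = (a * (p * c) * a⁻¹) * (a * g * a⁻¹) := by group
  rw [e]
  exact mul_mem (S.PC_N2 (S.A_PC ha (mul_mem (S.P_PC hp) (S.C_PC hc)))) (S.A_R_N2 ha hg)

theorem T_N2 [Finite G] {k n : G} (hk : k ∈ E.T) (hn : n ∈ S.N2) : k * n * k⁻¹ ∈ S.N2 := by
  obtain ⟨p, hp, c, hc, g, hg, rfl⟩ := S.N2_le hn
  have e : k * (p * c * g) * k⁻¹ = (k * (p * c) * k⁻¹) * (k * g * k⁻¹) := by group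
  rw [e]
  exact mul_mem (S.PC_N2 (S.T_PC hk (mul_mem (S.P_PC hp) (S.C_PC hc)))) (S.R_InN2 (S.T_R hk hg))

theorem t_N2 {n : G} (hn : n ∈ S.N2) : E.t * n * E.t⁻¹ ∈ S.N2 := by
  obtain ⟨ω, hω, g, hg, h1⟩ := hn.t
  rw [t_conj h1]
  exact mul_mem (inv_mem (mul_mem (S.Wt_le_N2 hω) (S.Q_le_N2 hg))) hn

/-- `A ∩ N₂ = 1`. -/
theorem A_inf_N2 {a : G} (ha : a ∈ S.A) (hn : a ∈ S.N2) : a = 1 := by
  -- elements of `X_a`
  have key : ∀ s, E.xa s ∈ S.N2 → s = 0 := by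
    intro s hs
    apply Seeding.SeedEnv.tr_nondeg (B := B)
    intro y
    have h1 := E.a_c s y
    rw [conj_of_comm (hs.w _ (S.C_le_Wt (S.xc_mem y)))] at h1
    have h2 : E.xz (B.tr (s * B.s y)) = E.xz 0 := by rw [E.toWEnv.xz_zero]; exact right_eq_mul.1 h1
    exact Seeding.SeedEnv.xz_inj h2
  obtain ⟨s, hs⟩ := S.rootA.conj_t a ha
  have h1 : E.xa s ∈ S.N2 := by
    have h2 : E.xa s = a * (E.t * a⁻¹ * E.t⁻¹) := by
      calc E.xa s = (E.xa s * E.t) * E.t⁻¹ := by group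
        _ = _ := by rw [← hs]; group
    rw [h2]
    exact mul_mem hn (S.t_N2 (inv_mem hn))
  rw [key s h1, E.toWEnv.xa_zero, one_mul] at hs
  obtain ⟨s', rfl⟩ := S.rootA.cent a ha (comm_of_conj hs)
  rw [key s' hn, E.toWEnv.xa_zero]

/-- `S₀ = A N₂`. -/
def S0 [Finite G] : Subgroup G where
  carrier := {x | ∃ a ∈ S.A, ∃ n ∈ S.N2, x = a * n}
  one_mem' := ⟨1, one_mem _, 1, one_mem _, by group⟩
  mul_mem' := by
    rintro _ _ ⟨a, ha, n, hn, rfl⟩ ⟨b, hb, m, hm, rfl⟩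
    refine ⟨a * b, mul_mem ha hb, b⁻¹ * n * b * m, mul_mem ?_ hm, by group⟩
    have := S.A_conj_N2 (inv_mem hb) hn
    rwa [inv_inv] at this
  inv_mem' := by
    rintro _ ⟨a, ha, n, hn, rfl⟩
    exact ⟨a⁻¹, inv_mem ha, a * n⁻¹ * a⁻¹, S.A_conj_N2 ha (inv_mem hn), by group⟩

variable [Finite G]

theorem mem_S0 {x : G} : x ∈ S.S0 ↔ ∃ a ∈ S.A, ∃ n ∈ S.N2, x = a * n := Iff.rfl

theorem A_le : S.A ≤ S.S0 := fun a ha => ⟨a, ha, 1, one_mem _, by group⟩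
theorem N2_le_S0 : S.N2 ≤ S.S0 := fun n hn => ⟨1, one_mem _, n, hn, by group⟩
theorem P_le : S.P ≤ S.S0 := fun _ h => S.N2_le_S0 (S.P_InN2 h)
theorem C_le : S.C ≤ S.S0 := fun _ h => S.N2_le_S0 (S.PC_N2 (S.C_PC h))
theorem R_le : S.R ≤ S.S0 := fun _ h => S.N2_le_S0 (S.R_InN2 h)
theorem Z_le_S0 : S.Z ≤ S.S0 := fun _ h => S.P_le (S.Z_le h)
theorem B_le_S0 : S.Bb ≤ S.S0 := fun _ h => S.R_le (S.B_le_R h)

/-- `S₀ = A P C R` -/
theorem S0_form {x : G} (hx : x ∈ S.S0) : ∃ a ∈ S.A, ∃ p ∈ S.P, ∃ c ∈ S.C, ∃ g ∈ S.R, x = a * p * c * g := by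
  obtain ⟨a, ha, n, hn, rfl⟩ := hx
  obtain ⟨p, hp, c, hc, g, hg, rfl⟩ := S.N2_le hn
  exact ⟨a, ha, p, hp, c, hc, g, hg, by group⟩

theorem S0_eq_sup : S.S0 = S.A ⊔ S.P ⊔ S.C ⊔ S.R := by
  apply le_antisymm
  · intro x hx
    obtain ⟨a, ha, p, hp, c, hc, g, hg, rfl⟩ := S.S0_form hx
    exact mul_mem (mul_mem (mul_mem (le_sup_left (b := S.R) (le_sup_left (b := S.C) (le_sup_left (b := S.P) ha)))
      (le_sup_left (b := S.R) (le_sup_left (b := S.C) (le_sup_right (a := S.A) hp))))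
      (le_sup_left (b := S.R) (le_sup_right (a := S.A ⊔ S.P) hc))) (le_sup_right (a := S.A ⊔ S.P ⊔ S.C) hg)
  · exact sup_le (sup_le (sup_le S.A_le S.P_le) S.C_le) S.R_le

theorem U_le : UU E.toWEnv ≤ S.S0 := by
  rintro _ ⟨q, hq, s, rfl⟩
  exact mul_mem (S.N2_le_S0 (S.Q_le_N2 hq)) (S.A_le (S.xa_mem s))

theorem t_S0 {x : G} (hx : x ∈ S.S0) : E.t * x * E.t⁻¹ ∈ S.S0 := by
  obtain ⟨a, ha, n, hn, rfl⟩ := hx
  obtain ⟨s, hs⟩ := S.rootA.conj_t a ha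
  have e : E.t * (a * n) * E.t⁻¹ = (E.t * a * E.t⁻¹) * (E.t * n * E.t⁻¹) := by group
  rw [e, t_conj hs]
  exact mul_mem (mul_mem (inv_mem (S.A_le (S.xa_mem s))) (S.A_le ha)) (S.N2_le_S0 (S.t_N2 hn))

theorem T_S0 {k x : G} (hk : k ∈ E.T) (hx : x ∈ S.S0) : k * x * k⁻¹ ∈ S.S0 := by
  obtain ⟨a, ha, n, hn, rfl⟩ := hx
  have e : k * (a * n) * k⁻¹ = (k * a * k⁻¹) * (k * n * k⁻¹) := by group
  rw [e]
  exact mul_mem (S.A_le (S.rootA.conj_T k hk a ha)) (S.N2_le_S0 (S.T_N2 hk hn))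

/-- `S₀` is a 2-group. -/
theorem isPGroup_S0 : IsPGroup 2 S.S0 := by
  rintro ⟨x, hx⟩
  refine ⟨3, Subtype.ext ?_⟩
  change x ^ 2 ^ 3 = 1
  obtain ⟨a, ha, n, hn, rfl⟩ := hx
  have h1 : a * n * (a * n) = (a * n * a⁻¹) * n := by
    calc a * n * (a * n) = (a * n * a⁻¹) * (a * a) * n := by group
      _ = _ := by rw [S.A_sq ha, mul_one]
  have h2 : S.InN2 ((a * n * a⁻¹) * n) := mul_mem (S.A_conj_N2 ha hn) hn
  have e : ∀ g : G, g ^ 2 ^ 3 = ((g * g) * (g * g)) * ((g * g) * (g * g)) := fun g => by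
    rw [show 2 ^ 3 = 2 * 2 * 2 from rfl, pow_mul, pow_mul, pow_two, pow_two, pow_two]
  rw [e, h1]
  exact S.Wt_sq (sq_mem2 h2)

/-- `C_{N₂}(t) = Q`. -/
theorem N2_cent {n : G} (hn : n ∈ S.N2) (h : n * E.t = E.t * n) : n ∈ E.Q := by
  obtain ⟨ω, hω, g, hg, rfl⟩ := core2 hn.w hn.q S.Wt.one_mem (by rw [one_mul, conj_of_comm h])
  have h1 : ω * E.t = E.t * ω := by
    have h2 := (E.t_Q g hg).symm
    calc ω * E.t = (ω * (g * E.t)) * g⁻¹ := by rw [h2]; group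
      _ = (ω * g * E.t) * g⁻¹ := by group
      _ = _ := by rw [h]; group
  obtain ⟨v, rfl⟩ := S.Wt_centW hω h1
  exact mul_mem (E.w_mem_Q v) hg

/-- `C_{S₀}(t) = U`. -/
theorem S0_cent {x : G} (hx : x ∈ S.S0) (h : x * E.t = E.t * x) : x ∈ UU E.toWEnv := by
  obtain ⟨a, ha, n, hn, rfl⟩ := hx
  obtain ⟨s, hs⟩ := S.rootA.conj_t a ha
  obtain ⟨ω, hω, g, hg, h1⟩ := hn.t
  have e1 := t_conj hs
  have e2 := t_conj h1
  have h2 : (E.xa s)⁻¹ * a * ((ω * g)⁻¹ * n) = a * n := by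
    rw [← e1, ← e2]
    calc E.t * a * E.t⁻¹ * (E.t * n * E.t⁻¹) = (E.t * (a * n)) * E.t⁻¹ := by group
      _ = _ := by rw [← h]; group
  have h3 : E.xa s = a * (ω * g)⁻¹ * a⁻¹ := by
    have h4 : (E.xa s)⁻¹ * (a * (ω * g)⁻¹ * a⁻¹) = 1 := by
      calc (E.xa s)⁻¹ * (a * (ω * g)⁻¹ * a⁻¹) = ((E.xa s)⁻¹ * a * ((ω * g)⁻¹ * n)) * (a * n)⁻¹ := by group
        _ = 1 := by rw [h2]; group
    exact (inv_mul_eq_one.1 h4)
  have h4 : E.xa s ∈ S.N2 := by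
    rw [h3]
    exact S.A_conj_N2 ha (inv_mem (mul_mem (S.Wt_le_N2 hω) (S.Q_le_N2 hg)))
  have h5 := S.A_inf_N2 (S.xa_mem s) h4
  rw [h5, one_mul] at hs
  obtain ⟨s', rfl⟩ := S.rootA.cent a ha (comm_of_conj hs)
  have h6 : n * E.t = E.t * n := by
    have h7 := E.t_a s'
    calc n * E.t = (E.xa s')⁻¹ * (E.xa s' * n * E.t) := by group
      _ = (E.xa s')⁻¹ * (E.t * E.xa s') * n := by rw [h]; group
      _ = _ := by rw [h7]; group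
  exact mul_mem (a_mem E.toWEnv s') (Q_le E.toWEnv (S.N2_cent hn h6))

/-- every element of `Q` is the displacement of an element of `N₂`, modulo `Ŵ`. -/
theorem N2_onto {g : G} (hg : g ∈ E.Q) : ∃ n ∈ S.N2, ∃ η ∈ S.Wt, n * E.t * n⁻¹ = η * g * E.t := by
  obtain ⟨q, x, q', rfl⟩ := (E.mem_Q g).1 hg
  obtain ⟨p, hp, r, hr, q1, hq1, hpt⟩ := S.P_onto q.w
  obtain ⟨k, hk, b, hb, q2, hq2, hgt⟩ := S.R_onto q'.w
  obtain ⟨k1, hk1⟩ := Env.exists_ofK hq1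
  obtain ⟨k2, hk2⟩ := Env.exists_ofK hq2
  refine ⟨p * k, mul_mem (S.P_InN2 hp) (S.R_InN2 hk), ?_⟩
  obtain ⟨c1, hc1, h3⟩ := S.P_2 p hp q2
  obtain ⟨v, hv⟩ := Q_mul_comm (E := E) (E.p2_memQ q') (E.p1_memQ q)
  have e1 : E.p1 q1 = E.xz k1 * E.p1 q := by rw [hk1, E.p1_mul, E.p1_K]
  have e2 : E.p2 q2 = E.xb k2 * E.p2 q' := by rw [hk2, E.p2_mul, E.p2_K]
  have hW1 : b * c1 * E.xb k2 ∈ S.Wt :=
    S.Wt.mul_mem (S.Wt.mul_mem (S.B_le_Wt hb) (S.C_le_Wt hc1)) (S.B_le_Wt (S.xb_mem k2))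
  have hW2 : r * E.xz k1 ∈ S.Wt := S.Wt.mul_mem (S.Z_le_Wt hr) (S.Z_le_Wt (S.xz_mem k1))
  refine ⟨b * c1 * E.xb k2 * (r * E.xz k1) * E.w v * E.xc x,
    S.Wt.mul_mem (S.Wt.mul_mem (S.Wt.mul_mem hW1 hW2) (S.w_mem_Wt v)) (S.C_le_Wt (S.xc_mem x)), ?_⟩
  have e3 := S.Wt_Q hW2 (E.p2_memQ q')
  have e4 := E.c_1 x q
  calc (p * k) * E.t * (p * k)⁻¹ = p * (k * E.t * k⁻¹) * p⁻¹ := by group
    _ = (p * b * p⁻¹) * (p * E.p2 q2 * p⁻¹) * (p * E.t * p⁻¹) := by rw [hgt]; group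
    _ = b * (c1 * E.p2 q2) * (r * E.p1 q1 * E.t) := by rw [conj_of_comm (S.P_B hp hb), h3, hpt]
    _ = b * c1 * E.xb k2 * (E.p2 q' * (r * E.xz k1)) * E.p1 q * E.t := by rw [e1, e2]; group
    _ = b * c1 * E.xb k2 * (r * E.xz k1) * (E.p2 q' * E.p1 q) * E.t := by rw [← e3]; group
    _ = b * c1 * E.xb k2 * (r * E.xz k1) * E.w v * (E.p1 q * (E.xc x * E.xc x)) * E.p2 q' * E.t := by
        rw [hv, E.xc_sq]; group
    _ = b * c1 * E.xb k2 * (r * E.xz k1) * E.w v * ((E.xc x * E.p1 q) * E.xc x) * E.p2 q' * E.t := by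
        rw [e4]; group
    _ = _ := by group

/-- an involution `θ t`, `θ ∈ Ŵ`, is `Ŵ`-conjugate to `t`. -/
theorem Wt_conj_t {θ : G} (hθ : θ ∈ S.Wt) (h1 : θ * E.t * (θ * E.t) = 1) :
    ∃ ρ ∈ S.Wt, ρ * E.t * ρ⁻¹ = θ * E.t := by
  have h2 : θ * E.t = E.t * θ := by
    have h3 : E.t * θ * E.t = θ⁻¹ := by
      rw [← mul_eq_one_iff_eq_inv]
      calc E.t * θ * E.t * θ = θ⁻¹ * (θ * E.t * (θ * E.t)) * θ := by group
        _ = 1 := by rw [h1]; group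
    calc θ * E.t = (θ * θ) * (θ⁻¹ * E.t) := by group
      _ = (E.t * θ * E.t) * E.t := by rw [S.Wt_sq hθ, h3, one_mul]
      _ = E.t * θ * (E.t * E.t) := by group
      _ = _ := by rw [E.t_sq, mul_one]
  obtain ⟨v, rfl⟩ := S.Wt_centW hθ h2
  exact S.Wt_onto v

/-- the involutions of `N₂ t` are `N₂`-conjugate to `t`. -/
theorem N2_conj_t {n : G} (hn : n ∈ S.N2) (h : n * E.t * (n * E.t) = 1) :
    ∃ m ∈ S.N2, m * E.t * m⁻¹ = n * E.t := by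
  obtain ⟨ω, hω, g, hg, rfl⟩ := mem_of_inv hn h
  obtain ⟨m, hm, η, hη, h1⟩ := S.N2_onto hg
  have hW : ω * η⁻¹ ∈ S.Wt := mul_mem hω (inv_mem hη)
  have h2 : m⁻¹ * (ω * g * E.t) * m = ω * η⁻¹ * E.t := by
    have h3 := (InN2.inv hm).w _ hW
    calc m⁻¹ * (ω * g * E.t) * m = (m⁻¹ * (ω * η⁻¹)) * (η * g * E.t) * m := by group
      _ = ω * η⁻¹ * (m⁻¹ * (η * g * E.t) * m) := by rw [h3]; group
      _ = _ := by rw [← h1]; group
  obtain ⟨ρ, hρ, h4⟩ := S.Wt_conj_t hW (by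
    rw [← h2]
    calc m⁻¹ * (ω * g * E.t) * m * (m⁻¹ * (ω * g * E.t) * m) =
          m⁻¹ * (ω * g * E.t * (ω * g * E.t)) * m := by group
      _ = 1 := by rw [h]; group)
  refine ⟨m * ρ, mul_mem hm (S.Wt_le_N2 hρ), ?_⟩
  calc m * ρ * E.t * (m * ρ)⁻¹ = m * (ρ * E.t * ρ⁻¹) * m⁻¹ := by group
    _ = _ := by rw [h4, ← h2]; group

/-- **The involutions of `S₀ t` are `S₀`-conjugate to `t`.** -/
theorem conj_t {x : G} (hx : x ∈ S.S0) (h : x * E.t * (x * E.t) = 1) :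
    ∃ y ∈ S.S0, y * E.t * y⁻¹ = x * E.t := by
  obtain ⟨a, ha, n, hn, rfl⟩ := hx
  obtain ⟨s, hs⟩ := S.rootA.conj_t a ha
  have e1 := t_conj hs
  have ti := t_sq' (E := E)
  -- `a ∈ X_a`
  have hsN : E.xa s ∈ S.N2 := by
    have h1 : a * n * ((E.xa s)⁻¹ * a * (E.t * n * E.t⁻¹)) = 1 := by
      rw [← e1, ← h]
      calc a * n * (E.t * a * E.t⁻¹ * (E.t * n * E.t⁻¹)) = a * n * E.t * (a * n * E.t⁻¹) := by group
        _ = _ := by rw [ti]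
    have h2 : E.xa s = (a * (E.t * n * E.t⁻¹) * a⁻¹) * (a * a) * n := by
      have h3 : (E.xa s)⁻¹ = (a * n)⁻¹ * (a * (E.t * n * E.t⁻¹))⁻¹ := by
        calc (E.xa s)⁻¹ = (a * n)⁻¹ * (a * n * ((E.xa s)⁻¹ * a * (E.t * n * E.t⁻¹))) *
              (a * (E.t * n * E.t⁻¹))⁻¹ := by group
          _ = _ := by rw [h1, mul_one]
      calc E.xa s = ((E.xa s)⁻¹)⁻¹ := (inv_inv _).symm
        _ = _ := by rw [h3]; group
    rw [h2, S.A_sq ha, mul_one]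
    exact mul_mem (S.A_conj_N2 ha (S.t_N2 hn)) hn
  have hs1 := S.A_inf_N2 (S.xa_mem s) hsN
  rw [hs1, one_mul] at hs
  obtain ⟨s', rfl⟩ := S.rootA.cent a ha (comm_of_conj hs)
  obtain ⟨a1, ha1, h1⟩ := S.rootA.onto s'
  -- move into `N₂ t`
  set b := E.t * a1 * E.t⁻¹ with hb
  have hbA : b ∈ S.A := by
    rw [hb, t_conj h1]
    exact mul_mem (inv_mem (S.xa_mem s')) ha1
  have hn1 : b⁻¹ * n * b ∈ S.N2 := by
    have := S.A_conj_N2 (inv_mem hbA) hn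
    rwa [inv_inv] at this
  have h2 : a1⁻¹ * (E.xa s' * n * E.t) * a1 = b⁻¹ * n * b * E.t := by
    have h3 : E.xa s' = a1 * E.t * a1⁻¹ * E.t⁻¹ := by rw [h1]; group
    rw [h3, hb]
    group
  obtain ⟨m, hm, h4⟩ := S.N2_conj_t hn1 (by
    rw [← h2]
    calc a1⁻¹ * (E.xa s' * n * E.t) * a1 * (a1⁻¹ * (E.xa s' * n * E.t) * a1)
        = a1⁻¹ * (E.xa s' * n * E.t * (E.xa s' * n * E.t)) * a1 := by group
      _ = 1 := by rw [h]; group)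
  refine ⟨a1 * m, mul_mem (S.A_le ha1) (S.N2_le_S0 hm), ?_⟩
  calc a1 * m * E.t * (a1 * m)⁻¹ = a1 * (m * E.t * m⁻¹) * a1⁻¹ := by group
    _ = _ := by rw [h4, ← h2]; group

/-- `Z` is central in `S₀`. -/
theorem Z_S0 {r x : G} (hr : r ∈ S.Z) (hx : x ∈ S.S0) : r * x = x * r := by
  obtain ⟨a, ha, n, hn, rfl⟩ := hx
  exact comm_mul (S.Z_A r hr a ha) (hn.w r (S.Z_le_Wt hr)).symm

/-- `Z ≤ [U, S₀]`. -/
theorem Z_le_comm : S.Z ≤ ⁅UU E.toWEnv, S.S0⁆ := by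
  have hX : ∀ k, E.xz k ∈ ⁅UU E.toWEnv, S.S0⁆ := by
    intro k
    obtain ⟨s, hs⟩ := B.tr_surj k
    have h1 := E.a_c s 1
    rw [map_one, mul_one, hs] at h1
    have h2 := Subgroup.commutator_mem_commutator (a_mem E.toWEnv s) (S.U_le (Q_le E.toWEnv (E.c_mem 1)))
    rw [commutatorElement_def, h1] at h2
    simpa using h2
  intro r hr
  obtain ⟨k, hk⟩ := S.rootZ.conj_t r hr
  obtain ⟨s, hs⟩ := B.tr_surj k
  obtain ⟨c, hc, hct⟩ := S.rootC.onto 1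
  -- `[xa s, c]`
  obtain ⟨r', hr', h1⟩ := S.a_C s c hc
  have h2 : r' ∈ ⁅UU E.toWEnv, S.S0⁆ := by
    have h3 := Subgroup.commutator_mem_commutator (a_mem E.toWEnv s) (S.C_le hc)
    rw [commutatorElement_def, h1] at h3
    simpa using h3
  -- its displacement
  have h3 : r' * E.t * r'⁻¹ = E.xz k * E.t := by
    have e1 := E.a_c s 1
    rw [map_one, mul_one, hs] at e1
    have e2 := E.t_a s
    have hct' : c⁻¹ * E.t * c = E.xc 1 * E.t := by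
      rw [inv_t hct, WEnv.inv_of_sq (E.xc_sq 1)]
      have := S.C_C (inv_mem hc) (S.xc_mem 1)
      rw [this]; group
    have e3 : r' = E.xa s * c * (E.xa s)⁻¹ * c⁻¹ := by rw [h1]; group
    have e4 : (E.xa s)⁻¹ * E.t = E.t * (E.xa s)⁻¹ := comm_inv e2.symm
    have e5 := S.Z_C _ (S.xz_mem k) _ hc
    have e6 := S.C_C hc (S.xc_mem 1)
    rw [e3]
    calc E.xa s * c * (E.xa s)⁻¹ * c⁻¹ * E.t * (E.xa s * c * (E.xa s)⁻¹ * c⁻¹)⁻¹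
        = E.xa s * c * (E.xa s)⁻¹ * (c⁻¹ * E.t * c) * E.xa s * c⁻¹ * (E.xa s)⁻¹ := by group
      _ = E.xa s * c * ((E.xa s)⁻¹ * E.xc 1 * E.xa s) * ((E.xa s)⁻¹ * E.t) * E.xa s * c⁻¹ * (E.xa s)⁻¹ := by
          rw [hct']; group
      _ = E.xa s * c * (E.xz k * E.xc 1) * E.t * c⁻¹ * (E.xa s)⁻¹ := by
          rw [e4]
          have : (E.xa s)⁻¹ * E.xc 1 * E.xa s = E.xz k * E.xc 1 := by
            have h5 : (E.xa s)⁻¹ = E.xa s := WEnv.inv_of_sq (E.xa_sq s)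
            rw [h5] at e1 ⊢; exact e1
          rw [this]; group
      _ = E.xa s * (E.xz k * c) * E.xc 1 * E.t * c⁻¹ * (E.xa s)⁻¹ := by rw [e5]; group
      _ = E.xa s * E.xz k * (E.xc 1 * (c * E.t * c⁻¹)) * (E.xa s)⁻¹ := by
          rw [mul_assoc _ (E.xz k * c), mul_assoc (E.xz k), e6]; group
      _ = E.xa s * E.xz k * ((E.xc 1 * E.xc 1) * E.t) * (E.xa s)⁻¹ := by rw [hct]; group
      _ = (E.xa s * E.xz k) * E.t * (E.xa s)⁻¹ := by rw [E.xc_sq]; group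
      _ = E.xz k * (E.xa s * E.t) * (E.xa s)⁻¹ := by rw [← E.z_a]; group
      _ = _ := by rw [← e2]; group
  have h4 : r'⁻¹ * r ∈ ⁅UU E.toWEnv, S.S0⁆ := by
    obtain ⟨x, hx⟩ := S.rootZ.cent (r'⁻¹ * r) (mul_mem (inv_mem hr') hr) (by
      apply comm_of_conj
      calc r'⁻¹ * r * E.t * (r'⁻¹ * r)⁻¹ = r'⁻¹ * (r * E.t * r⁻¹) * r' := by group
        _ = r'⁻¹ * (r' * E.t * r'⁻¹) * r' := by rw [hk, h3]
        _ = _ := by group)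
    rw [hx]; exact hX x
  have e : r = r' * (r'⁻¹ * r) := by group
  rw [e]
  exact mul_mem h2 h4

/-- the group generated by the displacements. -/
def Dis : Subgroup G := closure {a | ∃ x ∈ S.S0, x * E.t * x⁻¹ = a * E.t}

theorem T_Dis {k a : G} (hk : k ∈ E.T) (ha : a ∈ S.Dis) : k * a * k⁻¹ ∈ S.Dis := by
  have h1 : S.Dis ≤ S.Dis.comap (MulAut.conj k).toMonoidHom := by
    unfold Dis
    rw [Subgroup.closure_le]
    rintro a ⟨x, hx, h⟩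
    refine subset_closure ⟨k * x * k⁻¹, S.T_S0 hk hx, ?_⟩
    have h2 : k⁻¹ * E.t = E.t * k⁻¹ := comm_inv (E.T_t k hk).symm
    have h3 := E.T_t k hk
    change _ = k * a * k⁻¹ * E.t
    calc k * x * k⁻¹ * E.t * (k * x * k⁻¹)⁻¹ = k * x * (k⁻¹ * E.t) * k * x⁻¹ * k⁻¹ := by group
      _ = k * (x * E.t * x⁻¹) * k⁻¹ := by rw [h2]; group
      _ = k * a * (E.t * k⁻¹) := by rw [h]; group
      _ = _ := by rw [← h2]; group
  exact h1 ha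

/-- `U` is generated by displacements. -/
theorem U_le_Dis : UU E.toWEnv ≤ S.Dis := by
  have ca : ∀ s, E.xa s ∈ S.Dis := by
    intro s
    obtain ⟨x, hx, h⟩ := S.rootA.onto s
    exact subset_closure ⟨x, S.A_le hx, h⟩
  have cc : ∀ s, E.xc s ∈ S.Dis := by
    intro s
    obtain ⟨x, hx, h⟩ := S.rootC.onto s
    exact subset_closure ⟨x, S.C_le hx, h⟩
  have cb : ∀ s, E.xb s ∈ S.Dis := by
    intro s
    obtain ⟨x, hx, h⟩ := S.rootB.onto s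
    exact subset_closure ⟨x, S.B_le_S0 hx, h⟩
  have cz : ∀ s, E.xz s ∈ S.Dis := by
    intro s
    obtain ⟨x, hx, h⟩ := S.rootZ.onto s
    exact subset_closure ⟨x, S.Z_le_S0 hx, h⟩
  obtain ⟨x, hx0, hx1, hxs⟩ := SeedEnd.exists_moving B
  set ω : F := B.s x * x⁻¹ with hω
  have hω1 : ω + 1 ≠ 0 := by
    intro h
    have h2 : ω = 1 := Tp.eq_of h
    apply hxs
    rw [hω] at h2
    field_simp at h2
    exact h2
  have e : (ω + 1) * (ω + 1)⁻¹ = 1 := mul_inv_cancel₀ hω1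
  set β : Fˣ := Units.mk0 x hx0 with hβ
  have c1 : ∀ q, E.p1 q ∈ S.Dis := by
    intro q
    obtain ⟨p, hp, r, hr, q', hq', h⟩ := S.P_onto ((ω + 1)⁻¹ * q.w)
    have h1 : r * E.p1 q' ∈ S.Dis := subset_closure ⟨p, S.P_le hp, h⟩
    have h2 := S.T_Dis (E.hh_mem 1 β) h1
    have h3 : E.hh 1 β * (r * E.p1 q') * (E.hh 1 β)⁻¹ = r * E.p1 (Tp.sm ω q') := by
      rw [cm, SeedU5.h_1, conj_of_comm (RootLem.co S.rootZ (E.hh_mem 1 β)
        (fun c => comm_of_conj (SeedU5.h_z β c)) hr)]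
      rfl
    rw [h3] at h2
    have h4 : E.p1 (Tp.sm ω q' * q'⁻¹) ∈ S.Dis := by
      have h5 := mul_mem h2 (inv_mem h1)
      have h6 : r * E.p1 (Tp.sm ω q') * (r * E.p1 q')⁻¹ = E.p1 (Tp.sm ω q' * q'⁻¹) := by
        have h7 := S.Z_P r hr _ (S.p1_mem (Tp.sm ω q' * q'⁻¹))
        rw [E.p1_mul, ← E.p1_inv] at h7 ⊢
        calc r * E.p1 (Tp.sm ω q') * (r * E.p1 q')⁻¹ = (r * (E.p1 (Tp.sm ω q') * (E.p1 q')⁻¹)) * r⁻¹ := by
              group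
          _ = _ := by rw [h7]; group
      rwa [h6] at h5
    obtain ⟨k, hk⟩ := Env.exists_ofK (u := q) (v := Tp.sm ω q' * q'⁻¹) (by
        simp only [Tp.mul_w, Tp.sm_w, Tp.inv_w]
        rw [hq']
        linear_combination -q.w * e)
    rw [hk, E.p1_mul, E.p1_K]
    exact mul_mem (cz k) h4
  have c2 : ∀ q, E.p2 q ∈ S.Dis := by
    intro q
    obtain ⟨p, hp, r, hr, q', hq', h⟩ := S.R_onto ((ω + 1)⁻¹ * q.w)
    have h1 : r * E.p2 q' ∈ S.Dis := subset_closure ⟨p, S.R_le hp, h⟩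
    have h2 := S.T_Dis (E.hh_mem β 1) h1
    have h3 : E.hh β 1 * (r * E.p2 q') * (E.hh β 1)⁻¹ = r * E.p2 (Tp.sm ω q') := by
      have hb : ∀ c, E.hh β 1 * E.xb c = E.xb c * E.hh β 1 := fun c =>
        comm_of_conj (by rw [E.hh_b, Units.val_one, B.nm_one, one_mul])
      rw [cm, E.hh_2, conj_of_comm (RootLem.co S.rootB (E.hh_mem β 1) hb hr)]
      congr 3
      rw [hω, hβ, Units.val_one, map_one, inv_one, mul_one, mul_one, one_mul, Units.val_mk0]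
    rw [h3] at h2
    have h4 : E.p2 (Tp.sm ω q' * q'⁻¹) ∈ S.Dis := by
      have h5 := mul_mem h2 (inv_mem h1)
      have h6 : r * E.p2 (Tp.sm ω q') * (r * E.p2 q')⁻¹ = E.p2 (Tp.sm ω q' * q'⁻¹) := by
        have h7 := S.B_Q r hr _ (E.p2_memQ (Tp.sm ω q' * q'⁻¹))
        rw [E.p2_mul, ← E.p2_inv] at h7 ⊢
        calc r * E.p2 (Tp.sm ω q') * (r * E.p2 q')⁻¹ = (r * (E.p2 (Tp.sm ω q') * (E.p2 q')⁻¹)) * r⁻¹ := by
              group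
          _ = _ := by rw [h7]; group
      rwa [h6] at h5
    obtain ⟨k, hk⟩ := Env.exists_ofK (u := q) (v := Tp.sm ω q' * q'⁻¹) (by
        simp only [Tp.mul_w, Tp.sm_w, Tp.inv_w]
        rw [hq']
        linear_combination -q.w * e)
    rw [hk, E.p2_mul, E.p2_K]
    exact mul_mem (cb k) h4
  rintro _ ⟨k, hk, s, rfl⟩
  obtain ⟨q, x, r, rfl⟩ := (E.mem_Q k).1 hk
  exact mul_mem (mul_mem (mul_mem (c1 q) (cc x)) (c2 r)) (ca s)

/-- `t ∉ S₀`. -/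
theorem t_not_S0 : E.t ∉ S.S0 := by
  intro h
  obtain ⟨k, hk, s, h1⟩ := S.S0_cent h rfl
  obtain ⟨r, hr, h2⟩ := exists_not_comm S.toWGrown
  apply h2
  rw [h1]
  have h3 := S.Z_Q r hr k hk
  have h4 := S.Z_a r hr s
  exact comm_mul h3 h4

end QGrown

end Cfsg.Agent.StdRank2.UFive
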