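import Cfsg.Agent.StdRank2.UFive.Env

/-!
# The group `N₁` over `Q₁` (type `U₅(q)`)

`N₁ = {n | [n, Ẑ] = 1, [n, Q₁] ≤ Ẑ, [n, t] ∈ Ẑ Q₁}`; `N₁ / Ẑ` is elementary abelian, the elements of `N₁` moving `t`
inside `Ẑ t` are in `Ẑ Q₁`.
-/

set_option autoImplicit false
set_option linter.unusedSectionVars false

namespace Cfsg.Agent.StdRank2.UFive

open Subgroup Cfsg.Agent.StdRank2.UFour

variable {F : Type*} [Field F] [CharP F 2] {B : Bar F} {G : Type*} [Group G]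

section conj

theorem cm (n a b : G) : n * (a * b) * n⁻¹ = (n * a * n⁻¹) * (n * b * n⁻¹) := by group

theorem mc (m n g : G) : (m * n) * g * (m * n)⁻¹ = m * (n * g * n⁻¹) * m⁻¹ := by group

theorem ci (n a : G) : n * a⁻¹ * n⁻¹ = (n * a * n⁻¹)⁻¹ := by group

theorem c1 (n : G) : n * 1 * n⁻¹ = 1 := by group

theorem conj_of_comm {n g : G} (h : n * g = g * n) : n * g * n⁻¹ = g := by rw [h]; group

theorem comm_of_conj {n g : G} (h : n * g * n⁻¹ = g) : n * g = g * n := mul_inv_eq_iff_eq_mul.1 h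

theorem comm_inv {n g : G} (h : n * g = g * n) : n⁻¹ * g = g * n⁻¹ := by
  calc n⁻¹ * g = n⁻¹ * (g * n) * n⁻¹ := by group
    _ = n⁻¹ * (n * g) * n⁻¹ := by rw [h]
    _ = g * n⁻¹ := by group

theorem comm_mul {n g h : G} (h1 : n * g = g * n) (h2 : n * h = h * n) : n * (g * h) = g * h * n := by
  rw [← mul_assoc, h1, mul_assoc, h2, mul_assoc]

end conj

namespace Env

variable (E : Env B G)

theorem tr_K_s (x : F) : B.tr (B.s x) = B.tr x := B.tr_s x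

/-- elements of `Q₁` -/
def q1 (q : Tp B) (x s : F) : G := E.p1 q * E.xc x * E.xa s

theorem p1_one : E.p1 1 = 1 := by
  have := E.p1_mul 1 1
  rw [mul_one] at this
  exact left_eq_mul.1 this

theorem p2_one : E.p2 1 = 1 := by
  have := E.p2_mul 1 1
  rw [mul_one] at this
  exact left_eq_mul.1 this

theorem p1_inv (q : Tp B) : (E.p1 q)⁻¹ = E.p1 q⁻¹ := by
  symm
  apply eq_inv_of_mul_eq_one_left
  rw [← E.p1_mul, inv_mul_cancel, p1_one]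

theorem p2_inv (q : Tp B) : (E.p2 q)⁻¹ = E.p2 q⁻¹ := by
  symm
  apply eq_inv_of_mul_eq_one_left
  rw [← E.p2_mul, inv_mul_cancel, p2_one]

theorem p1_memQ (q : Tp B) : E.p1 q ∈ E.Q := (E.mem_Q _).2 ⟨q, 0, 1, by
  rw [E.toWEnv.xc_zero, E.p2_one, mul_one, mul_one]⟩
theorem p2_memQ (q : Tp B) : E.p2 q ∈ E.Q := (E.mem_Q _).2 ⟨1, 0, q, by
  rw [E.toWEnv.xc_zero, E.p1_one, one_mul, one_mul]⟩

theorem c_1 (x : F) (q : Tp B) : E.xc x * E.p1 q = E.p1 q * E.xc x := E.c_Q x _ (E.p1_memQ q)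
theorem c_2 (x : F) (q : Tp B) : E.xc x * E.p2 q = E.p2 q * E.xc x := E.c_Q x _ (E.p2_memQ q)

theorem a_c' (s x : F) : E.xa s * E.xc x = E.xc x * E.p1 (Tp.ofK (B.tr (s * B.s x))) * E.xa s := by
  have h := E.a_c s x
  rw [← E.p1_K] at h
  rw [E.c_1, ← h]
  group

theorem q1_mul (q : Tp B) (x s : F) (q' : Tp B) (x' s' : F) :
    E.q1 q x s * E.q1 q' x' s' =
      E.q1 (q * q' * Tp.ofK (B.tr (s * B.s x'))) (x + x') (s + s') := by
  unfold q1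
  calc E.p1 q * E.xc x * E.xa s * (E.p1 q' * E.xc x' * E.xa s')
      = E.p1 q * E.xc x * (E.xa s * E.p1 q') * E.xc x' * E.xa s' := by group
    _ = E.p1 q * (E.xc x * E.p1 q') * (E.xa s * E.xc x') * E.xa s' := by rw [E.a_1]; group
    _ = E.p1 q * (E.p1 q' * E.xc x) * (E.xc x' * E.p1 (Tp.ofK (B.tr (s * B.s x'))) * E.xa s) *
        E.xa s' := by rw [E.a_c', E.c_1]
    _ = E.p1 q * E.p1 q' * (E.xc x * E.xc x' * E.p1 (Tp.ofK (B.tr (s * B.s x')))) *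
        (E.xa s * E.xa s') := by group
    _ = E.p1 q * E.p1 q' * (E.xc (x + x') * E.p1 (Tp.ofK (B.tr (s * B.s x')))) *
        (E.xa s * E.xa s') := by rw [E.xc_add]
    _ = _ := by
        rw [E.c_1, ← E.xa_add, ← mul_assoc, E.p1_mul, E.p1_mul]

/-- `Q₁` -/
def Q1 : Subgroup G where
  carrier := {g | ∃ q x s, g = E.q1 q x s}
  mul_mem' := by
    rintro _ _ ⟨q, x, s, rfl⟩ ⟨q', x', s', rfl⟩
    exact ⟨_, _, _, E.q1_mul _ _ _ _ _ _⟩
  one_mem' := ⟨1, 0, 0, by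
    unfold q1; rw [E.p1_one, E.toWEnv.xc_zero, E.toWEnv.xa_zero]; simp⟩
  inv_mem' := by
    rintro _ ⟨q, x, s, rfl⟩
    refine ⟨q⁻¹ * Tp.ofK (B.tr (s * B.s x)), x, s, ?_⟩
    rw [inv_eq_iff_mul_eq_one, q1_mul]
    have e1 : x + x = 0 := Bar.add_self x
    have e2 : s + s = 0 := Bar.add_self s
    rw [e1, e2]
    have e3 : q * (q⁻¹ * Tp.ofK (B.tr (s * B.s x))) * Tp.ofK (B.tr (s * B.s x)) = 1 := by
      have h1 : (Tp.ofK (B.tr (s * B.s x)) : Tp B) * Tp.ofK (B.tr (s * B.s x)) = 1 := by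
        ext
        · simp
        · simp [Bar.add_self]
      calc q * (q⁻¹ * Tp.ofK (B.tr (s * B.s x))) * Tp.ofK (B.tr (s * B.s x))
          = (q * q⁻¹) * (Tp.ofK (B.tr (s * B.s x)) * Tp.ofK (B.tr (s * B.s x))) := by group
        _ = 1 := by rw [h1, mul_inv_cancel, one_mul]
    rw [e3]
    unfold q1; rw [E.p1_one, E.toWEnv.xc_zero, E.toWEnv.xa_zero]; simp

theorem mem_Q1 {g : G} : g ∈ E.Q1 ↔ ∃ q x s, g = E.q1 q x s := Iff.rfl

theorem p1_mem1 (q : Tp B) : E.p1 q ∈ E.Q1 := ⟨q, 0, 0, by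
  unfold q1; rw [E.toWEnv.xc_zero, E.toWEnv.xa_zero]; simp⟩
theorem xc_mem1 (x : F) : E.xc x ∈ E.Q1 := ⟨1, x, 0, by
  unfold q1; rw [E.p1_one, E.toWEnv.xa_zero]; simp⟩
theorem xa_mem1 (s : F) : E.xa s ∈ E.Q1 := ⟨1, 0, s, by
  unfold q1; rw [E.p1_one, E.toWEnv.xc_zero]; simp⟩
theorem xz_mem1 (k : B.K) : E.xz k ∈ E.Q1 := by rw [← E.p1_K]; exact E.p1_mem1 _

theorem q1_conj {n : G} {q : Tp B} {x s : F} :
    n * E.q1 q x s * n⁻¹ = (n * E.p1 q * n⁻¹) * (n * E.xc x * n⁻¹) * (n * E.xa s * n⁻¹) := by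
  unfold q1; group

theorem t_1 (q : Tp B) : E.t * E.p1 q = E.p1 q * E.t := E.t_Q _ (E.p1_memQ q)
theorem t_2 (q : Tp B) : E.t * E.p2 q = E.p2 q * E.t := E.t_Q _ (E.p2_memQ q)

theorem t_Q1 {g : G} (hg : g ∈ E.Q1) : E.t * g = g * E.t := by
  obtain ⟨q, x, s, rfl⟩ := hg
  unfold q1
  exact comm_mul (comm_mul (E.t_1 q) (E.t_c x)) (E.t_a s)

/-- the product with `xz` is `p1` -/
theorem z_p1 (k : B.K) (q : Tp B) : E.xz k * E.p1 q = E.p1 (Tp.ofK k * q) := by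
  rw [E.p1_mul, E.p1_K]

theorem Q1_inj {q : Tp B} {x s : F} (h : E.q1 q x s = 1) : q = 1 ∧ x = 0 ∧ s = 0 := by
  have h1 : E.p1 q * E.xc x * E.p2 1 * E.xa s = 1 := by rw [E.p2_one, mul_one]; exact h
  obtain ⟨h2, h3, -, h4⟩ := E.u_inj _ _ _ _ h1
  exact ⟨h2, h3, h4⟩

theorem tr_ne {x : F} (hx : x ≠ 0) : ∃ s : F, B.tr (s * B.s x) ≠ 0 := by
  obtain ⟨s, hs⟩ := B.tr_form_surj hx 1
  exact ⟨s, by rw [hs]; exact one_ne_zero⟩

theorem xz_inj {k : B.K} (h : E.xz k = 1) : k = 0 := by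
  have h1 : E.q1 (Tp.ofK k) 0 0 = 1 := by
    unfold q1; rw [E.p1_K, E.toWEnv.xc_zero, E.toWEnv.xa_zero]; simpa using h
  have h2 := (E.Q1_inj h1).1
  have h3 := congrArg Tp.c h2
  exact Subtype.ext h3

theorem ofK_sq (k : B.K) : (Tp.ofK k : Tp B) * Tp.ofK k = 1 := by
  ext
  · simp
  · simp [Bar.add_self]

theorem ofK_comm (k : B.K) (q : Tp B) : Tp.ofK k * q = q * Tp.ofK k := by
  ext
  · simp
  · simp [add_comm]

theorem q1_inv (q : Tp B) (x s : F) :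
    (E.q1 q x s)⁻¹ = E.q1 (q⁻¹ * Tp.ofK (B.tr (s * B.s x))) x s := by
  rw [inv_eq_iff_mul_eq_one, q1_mul]
  have e1 : x + x = 0 := Bar.add_self x
  have e2 : s + s = 0 := Bar.add_self s
  rw [e1, e2]
  have e3 : q * (q⁻¹ * Tp.ofK (B.tr (s * B.s x))) * Tp.ofK (B.tr (s * B.s x)) = 1 := by
    calc q * (q⁻¹ * Tp.ofK (B.tr (s * B.s x))) * Tp.ofK (B.tr (s * B.s x))
        = (q * q⁻¹) * (Tp.ofK (B.tr (s * B.s x)) * Tp.ofK (B.tr (s * B.s x))) := by group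
      _ = 1 := by rw [ofK_sq, mul_inv_cancel, one_mul]
  rw [e3]
  unfold q1; rw [E.p1_one, E.toWEnv.xc_zero, E.toWEnv.xa_zero]; simp

theorem q1_injective {q : Tp B} {x s : F} {q' : Tp B} {x' s' : F} (h : E.q1 q x s = E.q1 q' x' s') :
    q = q' ∧ x = x' ∧ s = s' := by
  have h1 : E.q1 q x s * (E.q1 q' x' s')⁻¹ = 1 := by rw [h]; group
  rw [q1_inv, q1_mul] at h1
  obtain ⟨h2, h3, h4⟩ := E.Q1_inj h1
  have h3' := Tp.eq_of h3
  have h4' := Tp.eq_of h4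
  subst h3' h4'
  refine ⟨?_, rfl, rfl⟩
  have h5 : q * (q'⁻¹ * Tp.ofK (B.tr (s * B.s x))) * Tp.ofK (B.tr (s * B.s x)) = q * q'⁻¹ := by
    rw [← mul_assoc, mul_assoc, ofK_sq, mul_one]
  rw [h5] at h2
  exact mul_inv_eq_one.1 h2

theorem exists_ofK {u v : Tp B} (h : u.w = v.w) : ∃ c, u = Tp.ofK c * v := by
  have h1 := u.ok
  have h2 := v.ok
  rw [h] at h1
  refine ⟨⟨u.c + v.c, ?_⟩, ?_⟩
  · rw [Bar.mem_K, map_add]
    have h3 : u.c + B.s u.c = v.c + B.s v.c := by rw [h1, h2]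
    apply Tp.eq_of
    have h4 := Bar.add_self (v.c + B.s v.c)
    linear_combination h3 + h4
  · ext
    · simpa using h
    · simp [add_assoc, Bar.add_self]

/-- commutators of `Q₁` are in `X_z` -/
theorem Q1_comm {g k : G} (hg : g ∈ E.Q1) (hk : k ∈ E.Q1) : ∃ c, k * g = E.xz c * (g * k) := by
  obtain ⟨q, x, a, rfl⟩ := hg
  obtain ⟨q', x', a', rfl⟩ := hk
  rw [q1_mul, q1_mul]
  obtain ⟨c, hc⟩ := exists_ofK (u := q' * q * Tp.ofK (B.tr (a' * B.s x)))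
    (v := q * q' * Tp.ofK (B.tr (a * B.s x'))) (by simp [add_comm])
  refine ⟨c, ?_⟩
  rw [hc, add_comm x' x, add_comm a' a]
  unfold q1
  rw [← E.z_p1]
  simp only [mul_assoc]

/-- squares of `Q₁` are in `X_z` -/
theorem Q1_sq {g : G} (hg : g ∈ E.Q1) : ∃ c, g * g = E.xz c := by
  obtain ⟨q, x, a, rfl⟩ := hg
  rw [q1_mul]
  obtain ⟨c, hc⟩ := exists_ofK (u := q * q * Tp.ofK (B.tr (a * B.s x)))
    (v := 1) (by simp [Bar.add_self])
  refine ⟨c, ?_⟩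
  rw [hc, Bar.add_self, Bar.add_self]
  unfold q1
  rw [mul_one, E.p1_K, E.toWEnv.xc_zero, E.toWEnv.xa_zero, mul_one, mul_one]

/-- `Z(Q₁) = X_z` -/
theorem center_Q1 {g : G} (hg : g ∈ E.Q1) (hc : ∀ k ∈ E.Q1, g * k = k * g) : ∃ k, g = E.xz k := by
  obtain ⟨q, x, s, rfl⟩ := hg
  have e1 : ∀ u, E.xa u = E.q1 1 0 u := fun u => by
    unfold q1; rw [E.p1_one, E.toWEnv.xc_zero]; simp
  have e2 : ∀ u, E.xc u = E.q1 1 u 0 := fun u => by
    unfold q1; rw [E.p1_one, E.toWEnv.xa_zero]; simp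
  have e3 : ∀ r, E.p1 r = E.q1 r 0 0 := fun r => by
    unfold q1; rw [E.toWEnv.xc_zero, E.toWEnv.xa_zero]; simp
  -- the `xc`-component
  have hx : x = 0 := by
    by_contra hx
    obtain ⟨u, hu⟩ := tr_ne (B := B) hx
    have h1 := hc _ (E.xa_mem1 u)
    rw [e1, q1_mul, q1_mul] at h1
    have h2 := congrArg Tp.c (E.q1_injective h1).1
    simp [B.tr_zero] at h2
    refine hu (Subtype.ext ?_)
    rw [Bar.coe_tr, map_mul]
    exact h2
  have hs : s = 0 := by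
    by_contra hs
    obtain ⟨u, hu⟩ := tr_ne (B := B) hs
    have h1 := hc _ (E.xc_mem1 u)
    rw [e2, q1_mul, q1_mul] at h1
    have h2 := congrArg Tp.c (E.q1_injective h1).1
    simp [B.tr_zero] at h2
    apply hu
    have h3 : B.tr (u * B.s s) = B.tr (s * B.s u) := by
      rw [← B.tr_s (s * B.s u), map_mul, B.invol, mul_comm]
    rw [h3]
    refine Subtype.ext ?_
    rw [Bar.coe_tr, map_mul]
    exact h2
  subst hx hs
  have hw : q.w = 0 := by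
    by_contra hw
    obtain ⟨u, hu⟩ := tr_ne (B := B) hw
    obtain ⟨r, hr⟩ : ∃ r : Tp B, r.w = u := by
      obtain ⟨c, hc⟩ := B.tr_surj (B.nm u)
      exact ⟨⟨u, c, congrArg Subtype.val hc⟩, rfl⟩
    have h1 := hc _ (E.p1_mem1 r)
    rw [e3, q1_mul, q1_mul] at h1
    have h2 := congrArg Tp.c (E.q1_injective h1).1
    simp [B.tr_zero] at h2
    apply hu
    rw [← hr]
    apply Subtype.ext
    change r.w * B.s q.w + B.s (r.w * B.s q.w) = 0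
    rw [map_mul, B.invol]
    have h3 : q.c + r.c + r.w * B.s q.w + (r.c + q.c + q.w * B.s r.w) = 0 := by
      rw [h2]; exact Bar.add_self _
    have h4 := Bar.add_self q.c
    have h5 := Bar.add_self r.c
    linear_combination h3 - h4 - h5
  refine ⟨⟨q.c, ?_⟩, ?_⟩
  · have h1 := q.ok
    rw [hw, zero_mul] at h1
    exact (Tp.eq_of h1).symm
  · rw [← E.p1_K]
    unfold q1
    rw [E.toWEnv.xc_zero, E.toWEnv.xa_zero, mul_one, mul_one]
    congr 1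
    ext
    · exact hw
    · rfl

end Env

/-! ### The group `N₁` -/

/-- the hypothesis that `nb` centralises `Ẑ` -/
def NbZ (E : Env B G) (W : WGrown E.toWEnv) : Prop := ∀ g ∈ W.Z, E.nb * g = g * E.nb

namespace NOne

variable {E : Env B G} (W : WGrown E.toWEnv)

theorem Z_Q1 {r g : G} (hr : r ∈ W.Z) (hg : g ∈ E.Q1) : r * g = g * r := by
  obtain ⟨q, x, s, rfl⟩ := hg
  exact comm_mul (comm_mul (W.Z_Q r hr _ (E.p1_memQ q)) (W.Z_Q r hr _ (E.c_mem x))) (W.Z_a r hr s)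

theorem Z_comm {r s : G} (hr : r ∈ W.Z) (hs : s ∈ W.Z) : r * s = s * r := by
  have h1 := W.rootZ.sq _ (W.Z.mul_mem hr hs)
  have h2 := W.rootZ.sq _ hr
  have h3 := W.rootZ.sq _ hs
  calc r * s = r * s * (s * s) * (r * r) := by rw [h2, h3]; group
    _ = r * (s * s) * (s * r) * r := by group
    _ = s * r := by
        rw [h3, mul_one]
        calc r * (s * r) * r = (r * s) * (r * r) := by group
          _ = r * s := by rw [h2, mul_one]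
          _ = (s * s) * (r * s) * (r * r) := by rw [h2, h3]; group
          _ = s * ((s * r) * (s * r)) * r := by group
          _ = s * r := by rw [W.rootZ.sq _ (W.Z.mul_mem hs hr), mul_one]

theorem Z_inv {r : G} (hr : r ∈ W.Z) : r⁻¹ = r := WEnv.inv_of_sq (W.rootZ.sq r hr)

theorem xz_mem (k : B.K) : E.xz k ∈ W.Z := W.rootZ.mem k

theorem t_Z {r : G} (hr : r ∈ W.Z) : ∃ c, E.t * r * E.t⁻¹ = E.xz c * r := by
  obtain ⟨c, hc⟩ := W.rootZ.conj_t r hr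
  refine ⟨c, ?_⟩
  have h1 : r * E.t = E.xz c * E.t * r := by rw [← hc]; group
  have h2 : E.t * E.xz c = E.xz c * E.t := E.t_z c
  have h3 : E.xz c * r = r * E.xz c := Z_comm W (xz_mem W c) hr
  have h4 : E.xz c * E.xz c = 1 := E.toWEnv.xz_sq c
  calc E.t * r * E.t⁻¹ = (E.xz c * E.xz c) * (E.t * r) * E.t⁻¹ := by rw [h4]; group
    _ = E.xz c * (E.xz c * E.t * r) * E.t⁻¹ := by group
    _ = E.xz c * (r * E.t) * E.t⁻¹ := by rw [h1]
    _ = E.xz c * r := by group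

theorem t_Z_mem {r : G} (hr : r ∈ W.Z) : E.t * r * E.t⁻¹ ∈ W.Z := by
  obtain ⟨c, hc⟩ := t_Z W hr
  rw [hc]
  exact W.Z.mul_mem (xz_mem W c) hr

/-- `t` does not centralise `Ẑ`. -/
theorem exists_not_comm : ∃ r ∈ W.Z, r * E.t ≠ E.t * r := by
  obtain ⟨r, hr, h⟩ := W.rootZ.onto 1
  refine ⟨r, hr, fun h1 => ?_⟩
  have h2 : E.xz 1 * E.t = E.t := by rw [← h, h1]; group
  have h3 : E.xz 1 = 1 := mul_eq_right.1 h2
  exact one_ne_zero (E.xz_inj h3)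

/-- `N₁` -/
structure InN (n : G) : Prop where
  z : ∀ r ∈ W.Z, n * r = r * n
  q : ∀ g ∈ E.Q1, ∃ r ∈ W.Z, n * g * n⁻¹ = r * g
  t : ∃ r ∈ W.Z, ∃ g ∈ E.Q1, n * E.t * n⁻¹ = r * g * E.t

variable {W}

theorem InN.mul {m n : G} (hm : InN W m) (hn : InN W n) : InN W (m * n) where
  z r hr := by rw [mul_assoc, hn.z r hr, ← mul_assoc, hm.z r hr, mul_assoc]
  q g hg := by
    obtain ⟨r, hr, h1⟩ := hn.q g hg
    obtain ⟨r', hr', h2⟩ := hm.q g hg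
    refine ⟨r * r', W.Z.mul_mem hr hr', ?_⟩
    rw [mc, h1, cm, h2, conj_of_comm (hm.z r hr), mul_assoc]
  t := by
    obtain ⟨r, hr, g, hg, h1⟩ := hn.t
    obtain ⟨r', hr', g', hg', h2⟩ := hm.t
    obtain ⟨r'', hr'', h3⟩ := hm.q g hg
    refine ⟨r * r'' * r', W.Z.mul_mem (W.Z.mul_mem hr hr'') hr', g * g', E.Q1.mul_mem hg hg', ?_⟩
    rw [mc, h1, cm, cm, h2, h3, conj_of_comm (hm.z r hr)]
    have h4 := Z_Q1 W hr' hg
    calc r * (r'' * g) * (r' * g' * E.t) = r * r'' * (g * r') * g' * E.t := by group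
      _ = r * r'' * (r' * g) * g' * E.t := by rw [h4]
      _ = _ := by group

theorem InN.one : InN W (1 : G) where
  z r hr := by group
  q g hg := ⟨1, W.Z.one_mem, by group⟩
  t := ⟨1, W.Z.one_mem, 1, E.Q1.one_mem, by group⟩

theorem InN.inv {n : G} (hn : InN W n) : InN W n⁻¹ where
  z r hr := comm_inv (hn.z r hr)
  q g hg := by
    obtain ⟨r, hr, h1⟩ := hn.q g hg
    refine ⟨r⁻¹, W.Z.inv_mem hr, ?_⟩
    have h2 := comm_inv (hn.z r hr)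
    have h3 : g = n⁻¹ * r * n * (n⁻¹ * g * n) := by
      calc g = n⁻¹ * (n * g * n⁻¹) * n := by group
        _ = n⁻¹ * (r * g) * n := by rw [h1]
        _ = _ := by group
    have h4 : n⁻¹ * r * n = r := by rw [h2]; group
    rw [h4] at h3
    rw [inv_inv]
    calc n⁻¹ * g * n = r⁻¹ * (r * (n⁻¹ * g * n)) := by group
      _ = r⁻¹ * g := by rw [← h3]
  t := by
    obtain ⟨r, hr, g, hg, h1⟩ := hn.t
    obtain ⟨r', hr', h2⟩ := hn.q g hg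
    have h3 : n⁻¹ * r * n = r := by rw [comm_inv (hn.z r hr)]; group
    have h4 : n⁻¹ * r' * n = r' := by rw [comm_inv (hn.z r' hr')]; group
    have h5 : n⁻¹ * g * n = r'⁻¹ * g := by
      have : g = n⁻¹ * r' * n * (n⁻¹ * g * n) := by
        calc g = n⁻¹ * (n * g * n⁻¹) * n := by group
          _ = n⁻¹ * (r' * g) * n := by rw [h2]
          _ = _ := by group
      rw [h4] at this
      calc n⁻¹ * g * n = r'⁻¹ * (r' * (n⁻¹ * g * n)) := by group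
        _ = r'⁻¹ * g := by rw [← this]
    have h6 : E.t = r * (r'⁻¹ * g) * (n⁻¹ * E.t * n) := by
      calc E.t = n⁻¹ * (n * E.t * n⁻¹) * n := by group
        _ = n⁻¹ * (r * g * E.t) * n := by rw [h1]
        _ = (n⁻¹ * r * n) * (n⁻¹ * g * n) * (n⁻¹ * E.t * n) := by group
        _ = _ := by rw [h3, h5]
    refine ⟨r' * r⁻¹, W.Z.mul_mem hr' (W.Z.inv_mem hr), g⁻¹, E.Q1.inv_mem hg, ?_⟩
    have h7 := Z_Q1 W (W.Z.mul_mem hr' (W.Z.inv_mem hr)) (E.Q1.inv_mem hg)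
    rw [h7, inv_inv]
    calc n⁻¹ * E.t * n = g⁻¹ * r' * r⁻¹ * (r * (r'⁻¹ * g) * (n⁻¹ * E.t * n)) := by group
      _ = g⁻¹ * r' * r⁻¹ * E.t := by rw [← h6]
      _ = _ := by group

variable (W) in
/-- `N₁` as a subgroup -/
def N : Subgroup G where
  carrier := {n | InN W n}
  mul_mem' hm hn := InN.mul hm hn
  one_mem' := InN.one
  inv_mem' hn := InN.inv hn

theorem mem_N {n : G} : n ∈ N W ↔ InN W n := Iff.rfl

/-- **Key lemma.** -/
theorem core {n r : G} (hz : ∀ r ∈ W.Z, n * r = r * n) (hq : ∀ g ∈ E.Q1, ∃ r ∈ W.Z, n * g * n⁻¹ = r * g)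
    (hr : r ∈ W.Z) (ht : n * E.t * n⁻¹ = r * E.t) : ∃ r' ∈ W.Z, ∃ g ∈ E.Q1, n = r' * g := by
  have hr2 := W.rootZ.sq r hr
  -- `r t` is an involution
  have h1 : r * E.t * (r * E.t) = 1 := by
    rw [← ht]
    calc n * E.t * n⁻¹ * (n * E.t * n⁻¹) = n * (E.t * E.t) * n⁻¹ := by group
      _ = 1 := by rw [E.t_sq]; group
  have h2 : r * E.t = E.t * r := by
    have h3 : (r * E.t)⁻¹ = r * E.t := WEnv.inv_of_sq h1
    rw [mul_inv_rev, E.toWEnv.t_inv, Z_inv W hr] at h3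
    exact h3.symm
  obtain ⟨c, hc⟩ := W.rootZ.cent r hr h2
  obtain ⟨g0, hg0, h4⟩ := W.rootZ.onto c
  -- `g0⁻¹ n` centralises `t`
  have h5 : (g0⁻¹ * n) * E.t * (g0⁻¹ * n)⁻¹ = E.t := by
    rw [mc, ht, hc, ← h4]; group
  have h6 := comm_of_conj h5
  have hz' : ∀ r ∈ W.Z, (g0⁻¹ * n) * r = r * (g0⁻¹ * n) := by
    intro r hr
    rw [mul_assoc, hz r hr, ← mul_assoc, Z_comm W (W.Z.inv_mem hg0) hr, mul_assoc]
  have hq' : ∀ g ∈ E.Q1, ∃ z, (g0⁻¹ * n) * g * (g0⁻¹ * n)⁻¹ = E.xz z * g := by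
    intro g hg
    obtain ⟨r1, hr1, e1⟩ := hq g hg
    have e2 : (g0⁻¹ * n) * g * (g0⁻¹ * n)⁻¹ = r1 * g := by
      rw [mc, e1]
      exact conj_of_comm (comm_mul (Z_comm W (W.Z.inv_mem hg0) hr1) (Z_Q1 W (W.Z.inv_mem hg0) hg))
    -- `r1` commutes with `t`
    have e3 : (r1 * g) * E.t = E.t * (r1 * g) := by
      rw [← e2]
      apply comm_of_conj
      have e4 : (g0⁻¹ * n) * g * (g0⁻¹ * n)⁻¹ * E.t * ((g0⁻¹ * n) * g * (g0⁻¹ * n)⁻¹)⁻¹ =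
          (g0⁻¹ * n) * (g * ((g0⁻¹ * n)⁻¹ * E.t * (g0⁻¹ * n)) * g⁻¹) * (g0⁻¹ * n)⁻¹ := by group
      have e5 : (g0⁻¹ * n)⁻¹ * E.t * (g0⁻¹ * n) = E.t := by
        rw [comm_inv h6]; group
      have e6 : g * E.t * g⁻¹ = E.t := conj_of_comm (E.t_Q1 hg).symm
      rw [e4, e5, e6, h5]
    have e7 : r1 * E.t = E.t * r1 := by
      have e8 := E.t_Q1 hg
      calc r1 * E.t = r1 * (g * g⁻¹) * E.t := by group
        _ = r1 * g * (g⁻¹ * E.t) := by group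
        _ = r1 * g * (E.t * g⁻¹) := by rw [comm_inv e8.symm]
        _ = (r1 * g * E.t) * g⁻¹ := by group
        _ = (E.t * (r1 * g)) * g⁻¹ := by rw [e3]
        _ = E.t * r1 := by group
    obtain ⟨z, hz⟩ := W.rootZ.cent r1 hr1 e7
    exact ⟨z, by rw [e2, hz]⟩
  obtain ⟨q, x, s, h7⟩ := E.cent_Q1 (g0⁻¹ * n) h6 (fun x => hz' _ (xz_mem W x))
    (fun x => hq' _ (E.xa_mem1 x)) (fun x => hq' _ (E.xc_mem1 x)) (fun x => hq' _ (E.p1_mem1 x))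
  rcases h7 with h7 | h7
  · exact ⟨g0, hg0, E.q1 q x s, ⟨q, x, s, rfl⟩, by unfold Env.q1; rw [← h7]; group⟩
  · exfalso
    obtain ⟨r1, hr1, h8⟩ := exists_not_comm W
    apply h8
    have h9 := hz' r1 hr1
    have h10 : r1 * E.q1 q x s = E.q1 q x s * r1 := Z_Q1 W hr1 ⟨q, x, s, rfl⟩
    have h11 : g0⁻¹ * n = E.t * E.q1 q x s := h7
    rw [h11] at h9
    calc r1 * E.t = r1 * (E.t * E.q1 q x s) * (E.q1 q x s)⁻¹ := by group
      _ = (E.t * E.q1 q x s * r1) * (E.q1 q x s)⁻¹ := by rw [h9]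
      _ = E.t * (E.q1 q x s * r1) * (E.q1 q x s)⁻¹ := by group
      _ = E.t * (r1 * E.q1 q x s) * (E.q1 q x s)⁻¹ := by rw [h10]
      _ = E.t * r1 := by group

theorem core_cent {n r : G} (hz : ∀ r ∈ W.Z, n * r = r * n) (hq : ∀ g ∈ E.Q1, n * g = g * n)
    (hr : r ∈ W.Z) (ht : n * E.t * n⁻¹ = r * E.t) : n ∈ W.Z := by
  obtain ⟨r', hr', g, hg, h⟩ := core hz
    (fun g hg => ⟨1, W.Z.one_mem, by rw [one_mul]; exact conj_of_comm (hq g hg)⟩) hr ht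
  have h1 : ∀ k ∈ E.Q1, g * k = k * g := by
    intro k hk
    have h2 := hq k hk
    have h3 : g = r'⁻¹ * n := by rw [h]; group
    rw [h3, mul_assoc, h2, ← mul_assoc, Z_Q1 W (W.Z.inv_mem hr') hk, mul_assoc]
  obtain ⟨k, hk⟩ := E.center_Q1 hg h1
  rw [h, hk]
  exact W.Z.mul_mem hr' (xz_mem W k)

/-- `N₁ / Ẑ` is abelian. -/
theorem comm_mem {m n : G} (hm : InN W m) (hn : InN W n) : ∃ r ∈ W.Z, m * n * m⁻¹ = r * n := by
  have hmn := hm.mul hn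
  have hnm := hn.mul hm
  have hc := hmn.mul hnm.inv
  -- commutes with `Q₁`
  have key : ∀ g ∈ E.Q1, (m * n) * g * (m * n)⁻¹ = (n * m) * g * (n * m)⁻¹ := by
    intro g hg
    obtain ⟨r, hr, h1⟩ := hm.q g hg
    obtain ⟨s, hs, h2⟩ := hn.q g hg
    rw [mc, mc, h1, h2, cm, cm, h1, h2, conj_of_comm (hm.z s hs), conj_of_comm (hn.z r hr),
      ← mul_assoc, ← mul_assoc, Z_comm W hr hs]
  have key2 : ∀ g ∈ E.Q1, ((m * n) * (n * m)⁻¹) * g = g * ((m * n) * (n * m)⁻¹) := by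
    intro g hg
    apply comm_of_conj
    obtain ⟨r, hr, h1⟩ := hnm.inv.q g hg
    have h2 : (n * m)⁻¹ * g * ((n * m)⁻¹)⁻¹ = r * g := h1
    rw [mc, h2, cm, key g hg, conj_of_comm (hmn.z r hr)]
    have h3 : (n * m) * (r * g) * (n * m)⁻¹ = g := by rw [← h2]; group
    rw [cm, conj_of_comm (hnm.z r hr)] at h3
    exact h3
  obtain ⟨r, hr, g, hg, h1⟩ := hm.t
  obtain ⟨s, hs, k, hk, h2⟩ := hn.t
  obtain ⟨r', hr', h3⟩ := hm.q k hk
  obtain ⟨s', hs', h4⟩ := hn.q g hg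
  have e1 : (m * n) * E.t * (m * n)⁻¹ = s * r' * r * (k * g) * E.t := by
    rw [mc, h2, cm, cm, h1, h3, conj_of_comm (hm.z s hs)]
    calc s * (r' * k) * (r * g * E.t) = s * r' * (k * r) * g * E.t := by group
      _ = _ := by rw [← Z_Q1 W hr hk]; group
  have e2 : (n * m) * E.t * (n * m)⁻¹ = r * s' * s * (g * k) * E.t := by
    rw [mc, h1, cm, cm, h2, h4, conj_of_comm (hn.z r hr)]
    calc r * (s' * g) * (s * k * E.t) = r * s' * (g * s) * k * E.t := by group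
      _ = _ := by rw [← Z_Q1 W hs hg]; group
  obtain ⟨c, hc'⟩ := E.Q1_comm hg hk
  rw [hc'] at e1
  set d := (m * n) * (n * m)⁻¹ with hd
  have hdz : ∀ r ∈ W.Z, d * r = r * d := hc.z
  have hz1 : s * r' * r ∈ W.Z := W.Z.mul_mem (W.Z.mul_mem hs hr') hr
  have hz2 : r * s' * s ∈ W.Z := W.Z.mul_mem (W.Z.mul_mem hr hs') hs
  have e3 : d * ((n * m) * E.t * (n * m)⁻¹) * d⁻¹ = (m * n) * E.t * (m * n)⁻¹ := by
    rw [hd]; group
  have hgk := E.Q1.mul_mem hg hk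
  rw [e1, e2, cm, cm d (r * s' * s), conj_of_comm (hdz _ hz2), conj_of_comm (key2 _ hgk)] at e3
  have hz3 : (r * s' * s)⁻¹ * (s * r' * r * E.xz c) ∈ W.Z :=
    W.Z.mul_mem (W.Z.inv_mem hz2) (W.Z.mul_mem hz1 (xz_mem W c))
  have e4 : d * E.t * d⁻¹ = (r * s' * s)⁻¹ * (s * r' * r * E.xz c) * E.t := by
    have h5 := Z_Q1 W hz3 (E.Q1.mul_mem hg hk)
    calc d * E.t * d⁻¹ = (g * k)⁻¹ * (r * s' * s)⁻¹ * (r * s' * s * (g * k) * (d * E.t * d⁻¹)) := by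
          group
      _ = (g * k)⁻¹ * (r * s' * s)⁻¹ * (s * r' * r * (E.xz c * (g * k)) * E.t) := by rw [e3]
      _ = (g * k)⁻¹ * (((r * s' * s)⁻¹ * (s * r' * r * E.xz c)) * (g * k)) * E.t := by group
      _ = (g * k)⁻¹ * ((g * k) * ((r * s' * s)⁻¹ * (s * r' * r * E.xz c))) * E.t := by rw [h5]
      _ = _ := by group
  have h6 : d ∈ W.Z := core_cent hdz key2 hz3 e4
  refine ⟨d, h6, ?_⟩
  calc m * n * m⁻¹ = (m * n) * (n * m)⁻¹ * n := by group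
    _ = d * n := by rw [hd]

/-- `N₁ / Ẑ` has exponent 2. -/
theorem sq_mem {n : G} (hn : InN W n) : n * n ∈ W.Z := by
  have h0 := hn.mul hn
  have key : ∀ g ∈ E.Q1, (n * n) * g = g * (n * n) := by
    intro g hg
    apply comm_of_conj
    obtain ⟨r, hr, h1⟩ := hn.q g hg
    rw [mc, h1, cm, h1, conj_of_comm (hn.z r hr), ← mul_assoc, W.rootZ.sq r hr, one_mul]
  obtain ⟨r, hr, g, hg, h1⟩ := hn.t
  obtain ⟨r', hr', h2⟩ := hn.q g hg
  obtain ⟨c, hc⟩ := E.Q1_sq hg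
  have h3 : (n * n) * E.t * (n * n)⁻¹ = (r' * E.xz c) * E.t := by
    rw [mc, h1, cm, cm, h1, h2, conj_of_comm (hn.z r hr)]
    calc r * (r' * g) * (r * g * E.t) = r * r' * (g * r) * g * E.t := by group
      _ = r * r' * (r * g) * g * E.t := by rw [Z_Q1 W hr hg]
      _ = r * (r' * r) * (g * g) * E.t := by group
      _ = r * (r * r') * E.xz c * E.t := by rw [Z_comm W hr' hr, hc]
      _ = (r * r) * r' * E.xz c * E.t := by group
      _ = _ := by rw [W.rootZ.sq r hr, one_mul]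
  exact core_cent h0.z key (W.Z.mul_mem hr' (xz_mem W c)) h3

/-- the elements of `N₁` moving `t` inside `Ẑ t` -/
theorem mem_of_t {n r : G} (hn : InN W n) (hr : r ∈ W.Z) (ht : n * E.t * n⁻¹ = r * E.t) :
    ∃ r' ∈ W.Z, ∃ g ∈ E.Q1, n = r' * g := core hn.z hn.q hr ht

theorem Z_mem {r : G} (hr : r ∈ W.Z) : InN W r where
  z s hs := Z_comm W hr hs
  q g hg := ⟨1, W.Z.one_mem, by rw [one_mul]; exact conj_of_comm (Z_Q1 W hr hg)⟩
  t := by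
    obtain ⟨c, hc⟩ := W.rootZ.conj_t r hr
    exact ⟨E.xz c, xz_mem W c, 1, E.Q1.one_mem, by rw [hc, mul_one]⟩

theorem Q1_mem {g : G} (hg : g ∈ E.Q1) : InN W g where
  z s hs := (Z_Q1 W hs hg).symm
  q k hk := by
    obtain ⟨c, hc⟩ := E.Q1_comm hk hg
    refine ⟨E.xz c, xz_mem W c, ?_⟩
    rw [hc]; group
  t := ⟨1, W.Z.one_mem, 1, E.Q1.one_mem, by
    rw [one_mul, one_mul]; exact conj_of_comm (E.t_Q1 hg).symm⟩

theorem C_mem {g : G} (hg : g ∈ W.C) : InN W g where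
  z s hs := (W.Z_C s hs g hg).symm
  q k hk := by
    obtain ⟨q, x, s, rfl⟩ := hk
    obtain ⟨r, hr, h1⟩ := W.a_C s g hg
    have h2 : g * E.xa s * g⁻¹ = r⁻¹ * E.xa s := by
      have h3 : g * (E.xa s)⁻¹ * g⁻¹ = (E.xa s)⁻¹ * r := by
        calc g * (E.xa s)⁻¹ * g⁻¹ = (E.xa s)⁻¹ * (E.xa s * g * (E.xa s)⁻¹) * g⁻¹ := by group
          _ = (E.xa s)⁻¹ * (r * g) * g⁻¹ := by rw [h1]
          _ = _ := by group
      have h4 : g * E.xa s * g⁻¹ = (g * (E.xa s)⁻¹ * g⁻¹)⁻¹ := by group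
      rw [h4, h3, mul_inv_rev, inv_inv]
    refine ⟨r⁻¹, W.Z.inv_mem hr, ?_⟩
    rw [E.q1_conj, h2, conj_of_comm (W.C_Q g hg _ (E.p1_memQ q)), conj_of_comm (W.C_Q g hg _ (E.c_mem x))]
    have h5 := Z_Q1 W (W.Z.inv_mem hr) (E.Q1.mul_mem (E.p1_mem1 q) (E.xc_mem1 x))
    unfold Env.q1
    calc E.p1 q * E.xc x * (r⁻¹ * E.xa s) = (E.p1 q * E.xc x * r⁻¹) * E.xa s := by group
      _ = r⁻¹ * (E.p1 q * E.xc x) * E.xa s := by rw [h5]
      _ = _ := by group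
  t := by
    obtain ⟨c, hc⟩ := W.rootC.conj_t g hg
    exact ⟨1, W.Z.one_mem, E.xc c, E.xc_mem1 c, by rw [hc, one_mul]⟩

/-- elements normalising everything -/
theorem conj_InN {k n : G} (hn : InN W n) (hZ : ∀ r, r ∈ W.Z ↔ k * r * k⁻¹ ∈ W.Z)
    (hQ : ∀ g, g ∈ E.Q1 ↔ k * g * k⁻¹ ∈ E.Q1) (ht : k * E.t = E.t * k) : InN W (k * n * k⁻¹) where
  z r hr := by
    obtain ⟨r', hr', rfl⟩ : ∃ r' ∈ W.Z, k * r' * k⁻¹ = r := by
      refine ⟨k⁻¹ * r * k, (hZ _).2 ?_, by group⟩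
      have : k * (k⁻¹ * r * k) * k⁻¹ = r := by group
      rwa [this]
    rw [← cm, hn.z r' hr', cm]
  q g hg := by
    obtain ⟨g', hg', rfl⟩ : ∃ r' ∈ E.Q1, k * r' * k⁻¹ = g := by
      refine ⟨k⁻¹ * g * k, (hQ _).2 ?_, by group⟩
      have : k * (k⁻¹ * g * k) * k⁻¹ = g := by group
      rwa [this]
    obtain ⟨r, hr, h1⟩ := hn.q g' hg'
    refine ⟨k * r * k⁻¹, (hZ r).1 hr, ?_⟩
    calc k * n * k⁻¹ * (k * g' * k⁻¹) * (k * n * k⁻¹)⁻¹ = k * (n * g' * n⁻¹) * k⁻¹ := by group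
      _ = k * (r * g') * k⁻¹ := by rw [h1]
      _ = _ := by group
  t := by
    obtain ⟨r, hr, g, hg, h1⟩ := hn.t
    refine ⟨k * r * k⁻¹, (hZ r).1 hr, k * g * k⁻¹, (hQ g).1 hg, ?_⟩
    have h2 : k⁻¹ * E.t * k = E.t := by rw [comm_inv ht]; group
    calc k * n * k⁻¹ * E.t * (k * n * k⁻¹)⁻¹ = k * (n * (k⁻¹ * E.t * k) * n⁻¹) * k⁻¹ := by group
      _ = k * (r * g * E.t) * k⁻¹ := by rw [h2, h1]
      _ = (k * r * k⁻¹) * (k * g * k⁻¹) * (k * E.t * k⁻¹) := by group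
      _ = _ := by rw [conj_of_comm ht]

end NOne

end Cfsg.Agent.StdRank2.UFive
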