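import Cfsg.Agent.StdRank2.UFive.GrowNTwo
import Cfsg.Agent.StdRank2.UFive.NOne
import Cfsg.Agent.StdRank2.UFour.SeedPre
import Cfsg.Agent.StdRank2.UFourIdSh

/-!
# The rank of the Sylow 2-subgroup `U = Q X_a` of `U₅(q)`

Elementary abelian subgroups of `U` have order at most `q⁴ = |F|²`.
-/

set_option autoImplicit false
set_option linter.unusedSectionVars false

namespace Cfsg.Agent.StdRank2.UFive.Rank

open Subgroup Cfsg.Agent.StdRank2.UFour
open Cfsg.Agent.StdRank2.UFour.SeedPre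

variable {F : Type*} [Field F] [CharP F 2] {B : Bar F} {G : Type*} [Group G]
variable (E : Cfsg.Agent.StdRank2.UFive.Env B G)

/-- the squares of `Q`. -/
theorem sq_form (q r : Tp B) (x : F) : E.p1 q * E.xc x * E.p2 r * (E.p1 q * E.xc x * E.p2 r) =
    E.p1 (q * q) * E.xc (r.w * B.s q.w) * E.p2 (r * r) := by
  have h1 : E.p1 q * E.p2 r = E.xc (r.w * B.s q.w) * E.p2 r * E.p1 q := mul_inv_eq_iff_eq_mul.1 (E.one_two q r)
  have h2 : E.p2 r * E.p1 q = E.xc (r.w * B.s q.w) * (E.p1 q * E.p2 r) := by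
    rw [h1, mul_assoc (E.xc _), ← mul_assoc (E.xc _) (E.xc _), E.toWEnv.xc_sq, one_mul]
  have h3 := E.c_1 x q
  have h4 := E.c_2 x r
  rw [E.p1_mul, E.p2_mul]
  calc E.p1 q * E.xc x * E.p2 r * (E.p1 q * E.xc x * E.p2 r)
      = E.p1 q * (E.xc x * E.p2 r) * E.p1 q * E.xc x * E.p2 r := by group
    _ = E.p1 q * E.p2 r * (E.xc x * E.p1 q) * E.xc x * E.p2 r := by rw [h4]; group
    _ = E.p1 q * (E.p2 r * E.p1 q) * (E.xc x * E.xc x) * E.p2 r := by rw [h3]; group
    _ = E.p1 q * E.xc (r.w * B.s q.w) * E.p1 q * E.p2 r * E.p2 r := by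
        rw [h2, E.toWEnv.xc_sq]; group
    _ = E.p1 q * (E.xc (r.w * B.s q.w) * E.p1 q) * E.p2 r * E.p2 r := by group
    _ = _ := by rw [E.c_1]; group

/-- involutions of `Q` lie in `W`. -/
theorem mem_W {g : G} (hg : g ∈ E.Q) (h2 : g * g = 1) : ∃ v, g = E.w v := by
  obtain ⟨q, x, r, rfl⟩ := (E.mem_Q g).1 hg
  rw [sq_form] at h2
  obtain ⟨e1, -, e2, -⟩ := E.u_inj (q * q) (r.w * B.s q.w) (r * r) 0 (by
    rw [E.toWEnv.xa_zero, mul_one]; exact h2)
  have key : ∀ q : Tp B, q * q = 1 → q.w = 0 := by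
    intro q hq
    have h3 := congrArg Tp.c hq
    rw [Tp.mul_c, Tp.one_c, Bar.add_self, zero_add] at h3
    exact B.nm_eq_zero.1 (Subtype.ext h3)
  obtain ⟨k, hk⟩ := QGrown.ofK_of_w (E := E) (key q e1)
  obtain ⟨l, hl⟩ : ∃ k, E.p2 r = E.xb k := by
    obtain ⟨c, hc⟩ := Env.exists_ofK (u := r) (v := 1) (by rw [key r e2, Tp.one_w])
    exact ⟨c, by rw [hc, mul_one, E.p2_K]⟩
  exact ⟨(k, x, l), by rw [hk, hl]; rfl⟩

variable {E}

/-- `s` is determined by the element `q xa(s)` of `U`. -/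
theorem s_eq {q q' : G} {s s' : F} (hq : q ∈ E.Q) (hq' : q' ∈ E.Q) (h : q * E.xa s = q' * E.xa s') : s = s' := by
  have h1 : E.xa (s + s') = q⁻¹ * q' := by
    have h2 : E.xa s = q⁻¹ * q' * E.xa s' := by rw [mul_assoc, ← h]; group
    rw [E.toWEnv.xa_add, h2, mul_assoc, E.toWEnv.xa_sq, mul_one]
  exact Tp.eq_of (a_Q (by rw [h1]; exact mul_mem (inv_mem hq) hq'))

/-- the elements of `W` commuting with `q xa(s)`, `s ≠ 0`. -/
theorem cent_form {q : G} (hq : q ∈ E.Q) {s : F} (hs : s ≠ 0) {v : B.V}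
    (h : E.w v * (q * E.xa s) = q * E.xa s * E.w v) : v.2.2 = 0 ∧ B.tr (s * B.s v.2.1) = 0 := by
  have h1 := E.toWEnv.w_Q v hq
  have h2 : E.xa s * E.w v = E.w v * E.xa s := by
    have h3 : q * (E.xa s * E.w v) = q * (E.w v * E.xa s) := by
      rw [← mul_assoc q, ← h, ← mul_assoc, ← mul_assoc, h1]
    exact mul_left_cancel h3
  have h4 : B.ma s v = v := E.toWEnv.w_injective (by rw [← E.toWEnv.conj_ma, conj_of_comm h2])
  have h5 : v.2.2 = 0 := by
    have := congrArg (fun v : B.V => v.2.1) h4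
    change v.2.1 + s * ((v.2.2 : B.K) : F) = v.2.1 at this
    rcases mul_eq_zero.1 (add_eq_left.1 this) with h6 | h6
    · exact absurd h6 hs
    · exact Subtype.ext h6
  refine ⟨h5, ?_⟩
  have := congrArg (fun v : B.V => v.1) h4
  change v.1 + B.tr (s * B.s v.2.1) + B.nm s * v.2.2 = v.1 at this
  rw [h5, mul_zero, add_zero] at this
  exact add_eq_left.1 this

theorem card_V [Finite F] : Nat.card B.V = Nat.card F ^ 2 := by
  have h := UFourId.card_F B
  rw [Nat.card_prod, Nat.card_prod, h]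
  ring

/-- **elementary abelian subgroups of `U` have order at most `|F|²`**. -/
theorem card_le [Finite F] {D : Subgroup G} (hD : D ≤ UU E.toWEnv) (h2 : ∀ x ∈ D, x * x = 1)
    (hc : ∀ x ∈ D, ∀ y ∈ D, x * y = y * x) : Nat.card D ≤ Nat.card F ^ 2 := by
  classical
  by_cases hQ : ∀ x ∈ D, x ∈ E.Q
  · have hW : ∀ x : D, ∃ v, (x : G) = E.w v := fun x => mem_W E (hQ x x.2) (h2 x x.2)
    choose f hf using hW
    have hinj : Function.Injective f := by
      intro x y hxy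
      exact Subtype.ext (by rw [hf x, hf y, hxy])
    have := Nat.card_le_card_of_injective f hinj
    rwa [card_V] at this
  · push Not at hQ
    obtain ⟨d, hd, hdQ⟩ := hQ
    obtain ⟨q, hq, s, rfl⟩ := mem_UU.1 (hD hd)
    have hs : s ≠ 0 := by
      rintro rfl
      apply hdQ
      rw [E.toWEnv.xa_zero, mul_one]; exact hq
    obtain ⟨e, he⟩ := B.tr_form_surj (b := B.s s) ((map_ne_zero_iff B.s B.s.injective).2 hs) 1
    rw [B.invol] at he
    have hU : ∀ x : D, ∃ s, ∃ q ∈ E.Q, (x : G) = q * E.xa s := by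
      intro x
      obtain ⟨q, hq, s, h⟩ := mem_UU.1 (hD x.2)
      exact ⟨s, q, hq, h⟩
    choose σ ρ hρ hσ using hU
    -- representatives
    have hsec : ∀ s, ∃ y : D, (∃ x, σ x = s) → σ y = s := by
      intro s
      by_cases h : ∃ x, σ x = s
      · obtain ⟨x, hx⟩ := h
        exact ⟨x, fun _ => hx⟩
      · exact ⟨1, fun h' => absurd h' h⟩
    choose rep hrep using hsec
    have hW : ∀ x : D, ∃ v : B.V, (x : G) = E.w v * rep (σ x) ∧ v.2.2 = 0 ∧ B.tr (s * B.s v.2.1) = 0 := by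
      intro x
      have h3 := hrep (σ x) ⟨x, rfl⟩
      have h4 : (x : G) * (rep (σ x) : G)⁻¹ ∈ E.Q := by
        rw [hσ x, hσ (rep (σ x)), h3, mul_inv_rev]
        have : ρ x * E.xa (σ x) * ((E.xa (σ x))⁻¹ * (ρ (rep (σ x)))⁻¹) = ρ x * (ρ (rep (σ x)))⁻¹ := by group
        rw [this]
        exact mul_mem (hρ _) (inv_mem (hρ _))
      have h5 : (x : G) * (rep (σ x) : G)⁻¹ ∈ D := mul_mem x.2 (inv_mem (rep (σ x)).2)
      obtain ⟨v, hv⟩ := mem_W E h4 (h2 _ h5)
      refine ⟨v, by rw [← hv]; group, cent_form hq hs ?_⟩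
      rw [← hv]
      exact hc _ h5 _ hd
    choose v hv hv1 hv2 using hW
    let f : D → F × F := fun x => (σ x, (v x).2.1 + ((v x).1 : F) * B.s e)
    have hinj : Function.Injective f := by
      intro x y hxy
      have h3 : σ x = σ y := congrArg Prod.fst hxy
      have h4 : (v x).2.1 + ((v x).1 : F) * B.s e = (v y).2.1 + ((v y).1 : F) * B.s e := congrArg Prod.snd hxy
      have h5 : ∀ x : D, B.tr (s * B.s ((v x).2.1 + ((v x).1 : F) * B.s e)) = (v x).1 := by
        intro x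
        rw [map_add, mul_add, B.tr_add, hv2, zero_add, map_mul, B.invol, B.s_K,
          show s * (((v x).1 : F) * e) = ((v x).1 : F) * (e * s) by ring, B.tr_K_mul, he, mul_one]
      have h6 : (v x).1 = (v y).1 := by rw [← h5 x, ← h5 y, h4]
      rw [h6] at h4
      have h7 : (v x).2.1 = (v y).2.1 := add_right_cancel h4
      have h8 : v x = v y := Prod.ext h6 (Prod.ext h7 (by rw [hv1, hv1]))
      apply Subtype.ext
      rw [hv x, hv y, h8, h3]
    have := Nat.card_le_card_of_injective f hinj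
    rwa [Nat.card_prod, ← pow_two] at this

end Cfsg.Agent.StdRank2.UFive.Rank
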