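import Cfsg.Agent.StdRank2.UFive.GrowP

/-!
# `QGrown → Grown` (type `U₅(q)`), part 2: `[A, B] ≤ Z C`
-/

set_option autoImplicit false
set_option linter.unusedSectionVars false

namespace Cfsg.Agent.StdRank2.UFive

open Subgroup Cfsg.Agent.StdRank2.UFour

variable {F : Type*} [Field F] [CharP F 2] {B : Bar F} {G : Type*} [Group G]

namespace QGrown

open NOne RootLem

variable {E : Env B G} (S : QGrown E)

theorem w_zero_of_comm {q : Tp B} (h : ∀ r, E.p1 q * E.p1 r = E.p1 r * E.p1 q) : q.w = 0 := by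
  by_contra hne
  obtain ⟨s, hs⟩ := Env.tr_ne (B := B) hne
  obtain ⟨c, hc⟩ := B.tr_surj (B.nm s)
  have h1 := h ⟨s, c, congrArg Subtype.val hc⟩
  rw [← E.p1_mul, ← E.p1_mul] at h1
  have e1 : ∀ q, E.p1 q = E.q1 q 0 0 := fun q => by
    unfold Env.q1; rw [E.toWEnv.xc_zero, E.toWEnv.xa_zero, mul_one, mul_one]
  rw [e1, e1] at h1
  have h2 := congrArg Tp.c (E.q1_injective h1).1
  simp only [Tp.mul_c] at h2
  apply hs
  apply Subtype.ext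
  change s * B.s q.w + B.s (s * B.s q.w) = 0
  rw [map_mul, B.invol]
  have h4 := CharTwo.add_self_eq_zero (q.w * B.s s)
  linear_combination h2 + h4

theorem ofK_of_w {q : Tp B} (h : q.w = 0) : ∃ k, E.p1 q = E.xz k := by
  obtain ⟨k, hk⟩ := Env.exists_ofK (u := q) (v := 1) (by rw [h]; rfl)
  exact ⟨k, by rw [hk, mul_one, E.p1_K]⟩

/-- an element of `P` commuting with `p1` is in `Z`. -/
theorem mem_Z_of_comm_p1 {g : G} (hg : g ∈ S.P) (h : ∀ q, g * E.p1 q = E.p1 q * g) : g ∈ S.Z := by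
  obtain ⟨r, hr, q0, ht⟩ := S.P_t g hg
  have h1 := t_conj ht
  have h2 : ∀ q, (r * E.p1 q0)⁻¹ * E.p1 q = E.p1 q * (r * E.p1 q0)⁻¹ := by
    intro q
    have e1 : (r * E.p1 q0)⁻¹ = (E.t * g * E.t⁻¹) * g⁻¹ := by rw [h1]; group
    rw [e1]
    have e2 : E.t * E.p1 q = E.p1 q * E.t := E.t_1 q
    have c1 : E.t * g * E.t⁻¹ * E.p1 q = E.p1 q * (E.t * g * E.t⁻¹) := by
      calc E.t * g * E.t⁻¹ * E.p1 q = E.t * g * (E.t⁻¹ * E.p1 q) := by group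
        _ = E.t * (g * E.p1 q) * E.t⁻¹ := by rw [comm_inv e2]; group
        _ = (E.t * E.p1 q) * g * E.t⁻¹ := by rw [h]; group
        _ = _ := by rw [e2]; group
    have c2 := comm_inv (h q)
    rw [mul_assoc, c2, ← mul_assoc, c1]; group
  have h3 : ∀ q, E.p1 q0 * E.p1 q = E.p1 q * E.p1 q0 := by
    intro q
    have h4 := comm_inv (h2 q)
    rw [inv_inv] at h4
    have h5 := S.P_z (S.p1_mem q) hr
    calc E.p1 q0 * E.p1 q = r⁻¹ * (r * E.p1 q0 * E.p1 q) := by group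
      _ = r⁻¹ * (E.p1 q * r) * E.p1 q0 := by rw [h4]; group
      _ = _ := by rw [h5]; group
  obtain ⟨k, hk⟩ := ofK_of_w (E := E) (w_zero_of_comm h3)
  rw [hk] at ht
  obtain ⟨r1, hr1, q1, h4⟩ := S.P_cent g hg (r * E.xz k) (S.Z.mul_mem hr (S.xz_mem k)) ht
  have h5 : ∀ q, E.p1 q1 * E.p1 q = E.p1 q * E.p1 q1 := by
    intro q
    have h6 := h q
    rw [h4] at h6
    have h7 := S.P_z (S.p1_mem q) hr1
    calc E.p1 q1 * E.p1 q = r1⁻¹ * (r1 * E.p1 q1 * E.p1 q) := by group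
      _ = r1⁻¹ * (E.p1 q * r1) * E.p1 q1 := by rw [h6]; group
      _ = _ := by rw [h7]; group
  obtain ⟨k', hk'⟩ := ofK_of_w (E := E) (w_zero_of_comm h5)
  rw [h4, hk']
  exact S.Z.mul_mem hr1 (S.xz_mem k')

theorem A_xb {a : G} (ha : a ∈ S.A) (k : B.K) : ∃ r ∈ S.Z, ∃ c ∈ S.C, a * E.xb k * a⁻¹ = r * c * E.xb k := by
  obtain ⟨g, hg, c, hc, h⟩ := S.A_2 a ha (Tp.ofK k)
  rw [E.p2_K] at h
  refine ⟨g, S.mem_Z_of_comm_p1 hg fun q => ?_, c, hc, h⟩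
  have h1 : a * E.xb k * a⁻¹ * (E.xb k)⁻¹ * E.p1 q = E.p1 q * (a * E.xb k * a⁻¹ * (E.xb k)⁻¹) := by
    apply comm_lem (E.b_Q k _ (E.p1_memQ q))
    have h2 := conj_of_comm (S.A_P _ (S.A.inv_mem ha) _ (S.p1_mem q))
    rw [inv_inv] at h2
    rw [h2]
    exact E.b_Q k _ (E.p1_memQ q)
  rw [h] at h1
  have h2 := S.C_Q c hc _ (E.p1_memQ q)
  have h3 : g * c * E.xb k * (E.xb k)⁻¹ = g * c := by group
  rw [h3] at h1
  calc g * E.p1 q = (g * (c * E.p1 q)) * c⁻¹ := by rw [h2]; group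
    _ = (g * c * E.p1 q) * c⁻¹ := by group
    _ = _ := by rw [h1]; group

/-- `v t` an involution, `v ∈ Z C`: then `v ∈ X_z X_c`. -/
theorem ZC_inv {r c : G} (hr : r ∈ S.Z) (hc : c ∈ S.C) (h : r * c * E.t * (r * c * E.t) = 1) :
    ∃ x y, r = E.xz x ∧ c = E.xc y := by
  obtain ⟨x, hx⟩ := S.rootZ.conj_t r hr
  obtain ⟨y, hy⟩ := S.rootC.conj_t c hc
  have e1 := t_conj hx
  have e2 := t_conj hy
  have h1 : r * c * ((E.xz x)⁻¹ * r * ((E.xc y)⁻¹ * c)) = 1 := by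
    rw [← e1, ← e2]
    calc r * c * (E.t * r * E.t⁻¹ * (E.t * c * E.t⁻¹)) = r * c * (E.t * r * c * E.t⁻¹) := by group
      _ = 1 := by rw [← h, t_sq']; group
  have h2 : E.xz x * E.xc y * E.xb 0 = 1 := by
    have c1 : c * (E.xz x)⁻¹ = (E.xz x)⁻¹ * c := (comm_inv (S.Z_C _ (S.xz_mem x) c hc)).symm
    have c2 : c * r = r * c := (S.Z_C r hr c hc).symm
    have c3 : c * (E.xc y)⁻¹ = (E.xc y)⁻¹ * c := (comm_inv (S.C_C (S.xc_mem y) hc)).symm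
    have c4 : r * (E.xz x)⁻¹ = (E.xz x)⁻¹ * r := (comm_inv (S.Z_Z (S.xz_mem x) hr)).symm
    have e3 : r * c * ((E.xz x)⁻¹ * r * ((E.xc y)⁻¹ * c)) = (E.xz x)⁻¹ * (E.xc y)⁻¹ := by
      have c5 : r * (E.xc y)⁻¹ = (E.xc y)⁻¹ * r :=
        (comm_inv (S.Z_C r hr _ (S.xc_mem y)).symm).symm
      calc r * c * ((E.xz x)⁻¹ * r * ((E.xc y)⁻¹ * c))
          = r * (c * (E.xz x)⁻¹) * r * (E.xc y)⁻¹ * c := by group
        _ = r * (E.xz x)⁻¹ * (c * r) * (E.xc y)⁻¹ * c := by rw [c1]; group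
        _ = (r * (E.xz x)⁻¹) * r * (c * (E.xc y)⁻¹) * c := by rw [c2]; group
        _ = (E.xz x)⁻¹ * (r * r) * (E.xc y)⁻¹ * (c * c) := by rw [c4, c3]; group
        _ = _ := by rw [S.Z_sq hr, S.C_sq hc, mul_one, mul_one]
    rw [e3] at h1
    rw [E.xb_zero, mul_one, E.z_c]
    have : ((E.xz x)⁻¹ * (E.xc y)⁻¹)⁻¹ = 1 := by rw [h1, inv_one]
    rw [← this]; group
  obtain ⟨hx0, hy0, -⟩ := E.w_inj _ _ _ h2
  rw [hx0, E.xz_zero, one_mul] at hx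
  rw [hy0, E.xc_zero, one_mul] at hy
  obtain ⟨x', hx'⟩ := S.rootZ.cent r hr (comm_of_conj hx)
  obtain ⟨y', hy'⟩ := S.rootC.cent c hc (comm_of_conj hy)
  exact ⟨x', y', hx', hy'⟩

theorem xc_not_Z {y : F} (h : E.xc y ∈ S.Z) : y = 0 := by
  obtain ⟨x, hx⟩ := S.rootZ.cent _ h (E.t_c y).symm
  have h1 : E.xz x * E.xc y * E.xb 0 = 1 := by
    rw [← hx, ← E.xc_add, Bar.add_self, E.xc_zero, E.xb_zero, mul_one]
  exact (E.w_inj _ _ _ h1).2.1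

/-- `[a, X_b] ≤ Z` only for trivial elements -/
theorem A_xb_triv {a : G} (ha : a ∈ S.A) {z : B.K} {r : G} (hr : r ∈ S.Z)
    (h : a * E.xb z * a⁻¹ = r * E.xb z) : z = 0 ∨ a = 1 := by
  by_cases hz : z = 0
  · exact Or.inl hz
  right
  have hz' : (z : F) ≠ 0 := fun h0 => hz (Subtype.ext h0)
  -- for `xa s`
  have key : ∀ s, (∃ r ∈ S.Z, E.xa s * E.xb z * (E.xa s)⁻¹ = r * E.xb z) → s = 0 := by
    rintro s ⟨r, hr, h1⟩
    rw [E.a_b] at h1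
    have h2 := mul_right_cancel h1
    have h3 : E.xc (s * z) ∈ S.Z := by
      have : E.xc (s * z) = (E.xz (B.nm s * z))⁻¹ * r := by rw [← h2]; group
      rw [this]
      exact S.Z.mul_mem (S.Z.inv_mem (S.xz_mem _)) hr
    exact (mul_eq_zero.1 (S.xc_not_Z h3)).resolve_right hz'
  obtain ⟨s, hs⟩ := S.rootA.conj_t a ha
  have e1 := t_conj hs
  obtain ⟨x, hx⟩ := S.rootZ.conj_t r hr
  have e2 := t_conj hx
  have h1 : E.xa s * E.xb z * (E.xa s)⁻¹ = (r⁻¹ * ((E.xz x)⁻¹ * r)) * E.xb z := by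
    have h3 : (E.xa s)⁻¹ * (r * E.xb z) * E.xa s = (E.xz x)⁻¹ * r * E.xb z := by
      calc (E.xa s)⁻¹ * (r * E.xb z) * E.xa s = ((E.xa s)⁻¹ * a) * E.xb z * ((E.xa s)⁻¹ * a)⁻¹ := by
            rw [← h]; group
        _ = (E.t * a * E.t⁻¹) * E.xb z * (E.t * a * E.t⁻¹)⁻¹ := by rw [e1]
        _ = E.t * (a * (E.t⁻¹ * E.xb z * E.t) * a⁻¹) * E.t⁻¹ := by group
        _ = E.t * (a * E.xb z * a⁻¹) * E.t⁻¹ := by
            have : E.t⁻¹ * E.xb z * E.t = E.xb z := by rw [comm_inv (E.t_b z)]; group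
            rw [this]
        _ = (E.t * r * E.t⁻¹) * (E.t * E.xb z * E.t⁻¹) := by rw [h]; group
        _ = _ := by rw [e2, conj_of_comm (E.t_b z)]
    have h4 : (E.xa s)⁻¹ = E.xa s := WEnv.inv_of_sq (E.xa_sq s)
    have h5 : E.xa s * r = r * E.xa s := (S.Z_a r hr s).symm
    rw [h4] at h3 ⊢
    calc E.xa s * E.xb z * E.xa s = r⁻¹ * (r * E.xa s) * E.xb z * E.xa s := by group
      _ = r⁻¹ * (E.xa s * (r * E.xb z) * E.xa s) := by rw [← h5]; group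
      _ = _ := by rw [h3]; group
  have hs0 := key s ⟨_, S.Z.mul_mem (S.Z.inv_mem hr)
    (S.Z.mul_mem (S.Z.inv_mem (S.xz_mem x)) hr), h1⟩
  rw [hs0, E.xa_zero, one_mul] at hs
  obtain ⟨s', rfl⟩ := S.rootA.cent a ha (comm_of_conj hs)
  rw [key s' ⟨r, hr, h⟩, E.xa_zero]

theorem A_B [Finite G] {a y : G} (ha : a ∈ S.A) (hy : y ∈ S.Bb) :
    ∃ r ∈ S.Z, ∃ c ∈ S.C, a * y * a⁻¹ = r * c * y := by
  have hai := S.A_inv ha
  obtain ⟨s, hs⟩ := S.rootA.conj_t a ha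
  obtain ⟨k, hk⟩ := S.rootB.conj_t y hy
  have hyQ : ∀ g ∈ E.Q, y * g = g * y := S.B_Q y hy
  have haC : ∀ c ∈ S.C, ∃ ζ ∈ S.Z, a * c * a⁻¹ = ζ * c := S.A_C a ha
  have haZ : ∀ r ∈ S.Z, a * r = r * a := fun r hr => (S.Z_A r hr a ha).symm
  have hyZ : ∀ r ∈ S.Z, y * r = r * y := fun r hr => (S.Z_B r hr y hy).symm
  have hyC : ∀ r ∈ S.C, y * r = r * y := fun r hr => (S.C_B r hr y hy).symm
  -- commutation with `Q`
  have c1 : ∀ q, a * y * a⁻¹ * y⁻¹ * E.p1 q = E.p1 q * (a * y * a⁻¹ * y⁻¹) := by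
    intro q
    apply comm_lem (hyQ _ (E.p1_memQ q))
    have h2 := conj_of_comm (S.A_P _ (S.A.inv_mem ha) _ (S.p1_mem q))
    rw [inv_inv] at h2
    rw [h2]
    exact hyQ _ (E.p1_memQ q)
  have c2 : ∀ x, a * y * a⁻¹ * y⁻¹ * E.xc x = E.xc x * (a * y * a⁻¹ * y⁻¹) := by
    intro x
    apply comm_lem (hyQ _ (E.c_mem x))
    obtain ⟨ζ, hζ, h⟩ := S.A_C _ (S.A.inv_mem ha) _ (S.xc_mem x)
    rw [inv_inv] at h
    rw [h]
    exact comm_mul (hyZ ζ hζ) (hyQ _ (E.c_mem x))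
  have c3 : ∀ q, a * y * a⁻¹ * y⁻¹ * E.p2 q = E.p2 q * (a * y * a⁻¹ * y⁻¹) := by
    intro q
    apply comm_lem (hyQ _ (E.p2_memQ q))
    obtain ⟨g, hg, c, hc, h⟩ := S.A_2 _ (S.A.inv_mem ha) q
    rw [inv_inv] at h
    rw [h]
    exact comm_mul (comm_mul (S.P_B hg hy).symm (hyC c hc)) (hyQ _ (E.p2_memQ q))
  have c4 : ∀ r ∈ S.Z, a * y * a⁻¹ * y⁻¹ * r = r * (a * y * a⁻¹ * y⁻¹) := by
    intro r hr
    apply comm_lem (hyZ r hr)
    have h2 := conj_of_comm (S.Z_A r hr _ (S.A.inv_mem ha)).symm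
    rw [inv_inv] at h2
    rw [h2]
    exact hyZ r hr
  -- the displacement
  obtain ⟨r1, hr1, c1', hc1, e1⟩ := S.A_xb ha k
  have e1' : a⁻¹ * E.xb k * a = r1 * c1' * E.xb k := by
    have : a⁻¹ * E.xb k * a = a * E.xb k * a⁻¹ := by rw [hai]
    rw [this, e1]
  obtain ⟨r2, hr2, c2', hc2, h2⟩ := S.a_B s y hy
  have e2 : y * E.xa s * y⁻¹ = r2 * c2' * E.xa s := by
    have e3 : E.xa s * y = r2 * c2' * y * E.xa s := by rw [← h2]; group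
    have e4 : y * E.xa s * y⁻¹ = y⁻¹ * (E.xa s * y) := by
      have := S.B_inv hy
      rw [this]; group
    have e5 : y⁻¹ * (r2 * c2') = r2 * c2' * y⁻¹ :=
      comm_inv (comm_mul (hyZ r2 hr2) (hyC c2' hc2))
    rw [e4, e3]
    calc y⁻¹ * (r2 * c2' * y * E.xa s) = (y⁻¹ * (r2 * c2')) * y * E.xa s := by group
      _ = _ := by rw [e5]; group
  obtain ⟨ζ1, hζ1, e3⟩ := haC _ hc2
  obtain ⟨ζ2, hζ2, e4⟩ := S.a_C s _ hc1
  have e5 : E.xa s * E.xb k * E.xa s = E.xz (B.nm s * k) * E.xc (s * k) * E.xb k := by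
    have h4 : (E.xa s)⁻¹ = E.xa s := WEnv.inv_of_sq (E.xa_sq s)
    have := E.a_b s k
    rwa [h4] at this
  have hbt : y⁻¹ * E.t * y = E.xb k * E.t := by
    have h2 : y⁻¹ * E.t * y = y * E.t * y⁻¹ := by rw [S.B_inv hy]
    rw [h2, hk]
  have hat : a⁻¹ * E.t * a = E.xa s * E.t := by
    have h2 : a⁻¹ * E.t * a = a * E.t * a⁻¹ := by rw [hai]
    rw [h2, hs]
  have hbC : ∀ c ∈ S.C, E.xb k * c = c * E.xb k := fun c hc => (S.C_Q c hc _ (E.b_mem k)).symm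
  have hbZ : ∀ c ∈ S.Z, E.xb k * c = c * E.xb k := fun c hc => (S.Z_Q c hc _ (E.b_mem k)).symm
  have key : ∃ r ∈ S.Z, ∃ c ∈ S.C,
      (a * y * a⁻¹ * y⁻¹) * E.t * (a * y * a⁻¹ * y⁻¹)⁻¹ = r * c * E.t := by
    refine ⟨r2 * ζ1 * r1 * ζ2 * E.xz (B.nm s * k), ?_, c2' * c1' * E.xc (s * k), ?_, ?_⟩
    · exact S.Z.mul_mem (S.Z.mul_mem (S.Z.mul_mem (S.Z.mul_mem hr2 hζ1) hr1) hζ2) (S.xz_mem _)
    · exact S.C.mul_mem (S.C.mul_mem hc2 hc1) (S.xc_mem _)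
    · calc (a * y * a⁻¹ * y⁻¹) * E.t * (a * y * a⁻¹ * y⁻¹)⁻¹
          = a * y * ((a⁻¹ * (y⁻¹ * E.t * y) * a)) * y⁻¹ * a⁻¹ := by group
        _ = a * y * ((a⁻¹ * E.xb k * a) * (a⁻¹ * E.t * a)) * y⁻¹ * a⁻¹ := by rw [hbt]; group
        _ = a * (y * (r1 * c1') * y⁻¹) * (y * E.xb k * y⁻¹) * (y * E.xa s * y⁻¹) * (y * E.t * y⁻¹) * a⁻¹ := by
            rw [e1', hat]; group
        _ = a * (r1 * c1') * E.xb k * (r2 * c2' * E.xa s) * (E.xb k * E.t) * a⁻¹ := by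
            rw [conj_of_comm (comm_mul (hyZ r1 hr1) (hyC c1' hc1)),
              conj_of_comm (hyQ _ (E.b_mem k)), e2, hk]
        _ = (a * (a⁻¹ * E.xb k * a) * a⁻¹) * (a * r2 * a⁻¹) * (a * c2' * a⁻¹) * (a * E.xa s * a⁻¹) *
              (a * E.xb k * a⁻¹) * (a * E.t * a⁻¹) := by rw [e1']; group
        _ = E.xb k * r2 * (ζ1 * c2') * E.xa s * (r1 * c1' * E.xb k) * (E.xa s * E.t) := by
            rw [conj_of_comm (haZ r2 hr2), e3, conj_of_comm (S.A_A' ha (S.xa_mem s)), e1, hs]; group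
        _ = E.xb k * r2 * ζ1 * c2' * (E.xa s * r1) * c1' * E.xb k * E.xa s * E.t := by group
        _ = E.xb k * r2 * ζ1 * c2' * r1 * (E.xa s * c1' * (E.xa s)⁻¹) * (E.xa s * E.xb k * E.xa s) *
              E.t := by rw [← S.Z_a r1 hr1 s]; group
        _ = (E.xb k * (r2 * ζ1)) * c2' * r1 * ζ2 * c1' * (E.xz (B.nm s * k) * E.xc (s * k) * E.xb k) *
              E.t := by rw [e4, e5]; group
        _ = r2 * ζ1 * (E.xb k * c2') * r1 * ζ2 * c1' * (E.xz (B.nm s * k) * E.xc (s * k) * E.xb k) *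
              E.t := by rw [hbZ _ (S.Z.mul_mem hr2 hζ1)]; group
        _ = r2 * ζ1 * c2' * (E.xb k * (r1 * ζ2)) * c1' * (E.xz (B.nm s * k) * E.xc (s * k) * E.xb k) *
              E.t := by rw [hbC _ hc2]; group
        _ = r2 * ζ1 * (c2' * (r1 * ζ2)) * (E.xb k * c1') *
              (E.xz (B.nm s * k) * E.xc (s * k) * E.xb k) * E.t := by
            rw [hbZ _ (S.Z.mul_mem hr1 hζ2)]; group
        _ = r2 * ζ1 * r1 * ζ2 * c2' * c1' * (E.xb k * E.xz (B.nm s * k)) * E.xc (s * k) * E.xb k *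
              E.t := by
            rw [hbC _ hc1, ← S.Z_C _ (S.Z.mul_mem hr1 hζ2) c2' hc2]; group
        _ = r2 * ζ1 * r1 * ζ2 * (c2' * c1' * E.xz (B.nm s * k)) * (E.xb k * E.xc (s * k)) * E.xb k *
              E.t := by rw [hbZ _ (S.xz_mem _)]; group
        _ = r2 * ζ1 * r1 * ζ2 * E.xz (B.nm s * k) * (c2' * c1') * E.xc (s * k) * (E.xb k * E.xb k) *
              E.t := by
            rw [hbC _ (S.xc_mem _), ← S.Z_C _ (S.xz_mem _) _ (S.C.mul_mem hc2 hc1)]; group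
        _ = _ := by rw [E.xb_sq]; group
  set w := a * y * a⁻¹ * y⁻¹ with hw
  obtain ⟨r, hr, c, hc, hwt⟩ := key
  have hinv : r * c * E.t * (r * c * E.t) = 1 := by
    rw [← hwt]
    calc w * E.t * w⁻¹ * (w * E.t * w⁻¹) = w * (E.t * E.t) * w⁻¹ := by group
      _ = 1 := by rw [E.t_sq]; group
  obtain ⟨x', y', rfl, rfl⟩ := S.ZC_inv hr hc hinv
  obtain ⟨r0, hr0, hr0t⟩ := S.rootZ.onto x'
  obtain ⟨c0, hc0, hc0t⟩ := S.rootC.onto y'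
  -- correct `w`
  have hm : (r0 * c0) * E.t * (r0 * c0)⁻¹ = w * E.t * w⁻¹ := by
    rw [hwt, mc, hc0t, cm, conj_of_comm (S.Z_C r0 hr0 _ (S.xc_mem y')), hr0t, ← mul_assoc,
      E.z_c]
  have hQ0 : ∀ g ∈ E.Q, (r0 * c0)⁻¹ * g = g * (r0 * c0)⁻¹ := by
    intro g hg
    apply comm_inv
    have e1 := S.Z_Q r0 hr0 g hg
    have e2 := S.C_Q c0 hc0 g hg
    rw [mul_assoc, e2, ← mul_assoc, e1, mul_assoc]
  have hZ0 : ∀ g ∈ S.Z, (r0 * c0)⁻¹ * g = g * (r0 * c0)⁻¹ := by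
    intro g hg
    apply comm_inv
    have e1 := S.Z_Z hr0 hg
    have e2 := (S.Z_C g hg c0 hc0).symm
    rw [mul_assoc, e2, ← mul_assoc, e1, mul_assoc]
  have ww : ∀ g, (r0 * c0)⁻¹ * g = g * (r0 * c0)⁻¹ → w * g = g * w →
      (r0 * c0)⁻¹ * w * g = g * ((r0 * c0)⁻¹ * w) := by
    intro g h1 h2
    rw [mul_assoc, h2, ← mul_assoc, h1, mul_assoc]
  obtain ⟨v, hv⟩ := S.mem_W (w := (r0 * c0)⁻¹ * w) (by
      apply comm_of_conj
      calc (r0 * c0)⁻¹ * w * E.t * ((r0 * c0)⁻¹ * w)⁻¹ = (r0 * c0)⁻¹ * (w * E.t * w⁻¹) * (r0 * c0) := by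
            group
        _ = E.t := by rw [← hm]; group)
    (fun g hg => ww g (hQ0 g hg) (comm_Q c1 c2 c3 g hg)) (fun g hg => ww g (hZ0 g hg) (c4 g hg))
  -- `w = r c xb z`
  have hw2 : a * y * a⁻¹ = (r0 * E.xz v.1) * (c0 * E.xc v.2.1) * E.xb v.2.2 * y := by
    have h1 : w = r0 * c0 * E.w v := by rw [← hv]; group
    have h2 : a * y * a⁻¹ = w * y := by rw [hw]; group
    rw [h2, h1]
    unfold WEnv.w
    have e1 := S.Z_C _ (S.xz_mem v.1) c0 hc0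
    calc r0 * c0 * (E.xz v.1 * E.xc v.2.1 * E.xb v.2.2) * y
        = r0 * (c0 * E.xz v.1) * E.xc v.2.1 * E.xb v.2.2 * y := by group
      _ = _ := by rw [← e1]; group
  set r3 := r0 * E.xz v.1 with hr3
  set c3' := c0 * E.xc v.2.1 with hc3
  have hr3m : r3 ∈ S.Z := S.Z.mul_mem hr0 (S.xz_mem _)
  have hc3m : c3' ∈ S.C := S.C.mul_mem hc0 (S.xc_mem _)
  clear_value r3 c3'
  obtain ⟨ρ, hρ, e6⟩ := haC _ hc3m
  obtain ⟨r4, hr4, c4', hc4, e7⟩ := S.A_xb ha v.2.2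
  have h8 : a * E.xb v.2.2 * a⁻¹ = ρ * E.xb v.2.2 := by
    have h1 : y = a * (a * y * a⁻¹) * a⁻¹ := by
      calc y = (a * a) * y * (a * a)⁻¹ := by rw [S.A_sq ha]; group
        _ = _ := by group
    rw [hw2] at h1
    have h2 : y = r3 * (ρ * c3') * (a * E.xb v.2.2 * a⁻¹) * (r3 * c3' * E.xb v.2.2 * y) := by
      calc y = a * (r3 * c3' * E.xb v.2.2 * y) * a⁻¹ := h1
        _ = (a * r3 * a⁻¹) * (a * c3' * a⁻¹) * (a * E.xb v.2.2 * a⁻¹) * (a * y * a⁻¹) := by group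
        _ = _ := by rw [conj_of_comm (haZ r3 hr3m), e6, hw2]
    have h3 : (a * E.xb v.2.2 * a⁻¹) = (r3 * (ρ * c3'))⁻¹ * (r3 * c3' * E.xb v.2.2)⁻¹ := by
      have h4 : (r3 * (ρ * c3')) * (a * E.xb v.2.2 * a⁻¹) * (r3 * c3' * E.xb v.2.2) = 1 := by
        have h5 : 1 * y = (r3 * (ρ * c3')) * (a * E.xb v.2.2 * a⁻¹) * (r3 * c3' * E.xb v.2.2) * y := by
          rw [one_mul, mul_assoc _ (r3 * c3' * E.xb v.2.2) y]; exact h2
        exact (mul_right_cancel h5).symm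
      calc a * E.xb v.2.2 * a⁻¹ = (r3 * (ρ * c3'))⁻¹ * ((r3 * (ρ * c3')) * (a * E.xb v.2.2 * a⁻¹) *
            (r3 * c3' * E.xb v.2.2)) * (r3 * c3' * E.xb v.2.2)⁻¹ := by group
        _ = _ := by rw [h4, mul_one]
    rw [h3]
    have i1 := S.Z_inv hr3m
    have i2 := S.C_inv hc3m
    have i3 := S.Z_inv hρ
    have i4 : (E.xb v.2.2)⁻¹ = E.xb v.2.2 := WEnv.inv_of_sq (E.xb_sq _)
    have k1 := S.Z_C r3 hr3m c3' hc3m
    have k2 := S.Z_Z hρ hr3m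
    have k3 : E.xb v.2.2 * c3' = c3' * E.xb v.2.2 := (S.C_Q _ hc3m _ (E.b_mem _)).symm
    have k4 : E.xb v.2.2 * r3 = r3 * E.xb v.2.2 := (S.Z_Q _ hr3m _ (E.b_mem _)).symm
    have k5 := S.Z_C ρ hρ c3' hc3m
    rw [mul_inv_rev, mul_inv_rev, mul_inv_rev, mul_inv_rev, i1, i2, i3, i4]
    calc c3' * ρ * r3 * (E.xb v.2.2 * (c3' * r3))
        = c3' * ρ * r3 * (E.xb v.2.2 * c3') * r3 := by group
      _ = c3' * ρ * (r3 * c3') * (E.xb v.2.2 * r3) := by rw [k3]; group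
      _ = c3' * (ρ * c3') * (r3 * r3) * E.xb v.2.2 := by rw [k1, k4]; group
      _ = (c3' * c3') * ρ * (r3 * r3) * E.xb v.2.2 := by rw [k5]; group
      _ = _ := by rw [S.C_sq hc3m, S.Z_sq hr3m, one_mul, mul_one]
  rcases S.A_xb_triv ha hρ h8 with h9 | h9
  · exact ⟨r3, hr3m, c3', hc3m, by rw [hw2, h9, E.xb_zero, mul_one]⟩
  · exact ⟨1, S.Z.one_mem, 1, S.C.one_mem, by rw [h9]; group⟩

end QGrown

end Cfsg.Agent.StdRank2.UFive
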