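import Cfsg.Agent.StdRank2.UFive.GrowR

/-!
# `QGrown → Grown` (type `U₅(q)`), part 5: `[A, R] ≤ PC`, conclusion
-/

set_option autoImplicit false
set_option linter.unusedSectionVars false

namespace Cfsg.Agent.StdRank2.UFive

open Subgroup Cfsg.Agent.StdRank2.UFour

variable {F : Type*} [Field F] [CharP F 2] {B : Bar F} {G : Type*} [Group G]

namespace QGrown

open NOne RootLem

variable {E : Env B G} (S : QGrown E)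

/-- `PC` -/
def PC : Subgroup G where
  carrier := {g | ∃ p ∈ S.P, ∃ c ∈ S.C, g = p * c}
  one_mem' := ⟨1, one_mem _, 1, one_mem _, by group⟩
  mul_mem' := by
    rintro _ _ ⟨p, hp, c, hc, rfl⟩ ⟨p', hp', c', hc', rfl⟩
    refine ⟨p * p', S.P.mul_mem hp hp', c * c', S.C.mul_mem hc hc', ?_⟩
    have e1 := S.C_P c hc p' hp'
    calc p * c * (p' * c') = p * (c * p') * c' := by group
      _ = _ := by rw [e1]; group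
  inv_mem' := by
    rintro _ ⟨p, hp, c, hc, rfl⟩
    refine ⟨p⁻¹, S.P.inv_mem hp, c⁻¹, S.C.inv_mem hc, ?_⟩
    rw [mul_inv_rev]
    exact S.C_P _ (S.C.inv_mem hc) _ (S.P.inv_mem hp)

theorem P_PC {g : G} (hg : g ∈ S.P) : g ∈ S.PC := ⟨g, hg, 1, one_mem _, by group⟩
theorem C_PC {g : G} (hg : g ∈ S.C) : g ∈ S.PC := ⟨1, one_mem _, g, hg, by group⟩

theorem A_PC {a y : G} (ha : a ∈ S.A) (hy : y ∈ S.PC) : a * y * a⁻¹ ∈ S.PC := by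
  obtain ⟨p, hp, c, hc, rfl⟩ := hy
  obtain ⟨r, hr, h⟩ := S.A_C a ha c hc
  rw [cm, conj_of_comm (S.A_P a ha p hp), h]
  exact S.PC.mul_mem (S.P_PC hp) (S.PC.mul_mem (S.P_PC (S.Z_le hr)) (S.C_PC hc))

theorem T_PC {k y : G} (hk : k ∈ E.T) (hy : y ∈ S.PC) : k * y * k⁻¹ ∈ S.PC := by
  obtain ⟨p, hp, c, hc, rfl⟩ := hy
  rw [cm]
  exact S.PC.mul_mem (S.P_PC (S.P_T k hk p hp)) (S.C_PC (S.rootC.conj_T k hk c hc))

theorem C_R {c g : G} (hc : c ∈ S.C) (hg : g ∈ S.R) : c * g = g * c := by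
  apply na_comm (E := E)
  exact S.C_P _ (S.na_C c hc) _ (S.mem_R.1 hg)

/-- displacements of elements of `R` -/
theorem R_t {g : G} (hg : g ∈ S.R) : ∃ b ∈ S.Bb, ∃ q, g * E.t * g⁻¹ = b * E.p2 q * E.t := by
  obtain ⟨r, hr, q, h⟩ := S.P_t _ (S.mem_R.1 hg)
  refine ⟨_, S.na_Z r hr, q, ?_⟩
  have h1 : E.na * (g * E.t * g⁻¹) * E.na⁻¹ = r * E.p1 q * E.t := by
    rw [← h, cm, cm, ci, conj_of_comm E.t_na.symm]
  calc g * E.t * g⁻¹ = E.na * (E.na * (g * E.t * g⁻¹) * E.na⁻¹) * E.na⁻¹ := (na_na _).symm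
    _ = (E.na * r * E.na⁻¹) * (E.na * E.p1 q * E.na⁻¹) * (E.na * E.t * E.na⁻¹) := by rw [h1]; group
    _ = _ := by rw [E.na_1, conj_of_comm E.t_na.symm]

theorem R_onto (w : F) : ∃ g ∈ S.R, ∃ b ∈ S.Bb, ∃ q : Tp B, q.w = w ∧ g * E.t * g⁻¹ = b * E.p2 q * E.t := by
  obtain ⟨p, hp, r, hr, q, hq, h⟩ := S.P_onto w
  refine ⟨_, S.na_P hp, _, S.na_Z r hr, q, hq, ?_⟩
  calc (E.na * p * E.na⁻¹) * E.t * (E.na * p * E.na⁻¹)⁻¹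
      = (E.na * p * E.na⁻¹) * (E.na * E.t * E.na⁻¹) * (E.na * p * E.na⁻¹)⁻¹ := by
        rw [conj_of_comm E.t_na.symm]
    _ = E.na * (p * E.t * p⁻¹) * E.na⁻¹ := by group
    _ = (E.na * r * E.na⁻¹) * (E.na * E.p1 q * E.na⁻¹) * (E.na * E.t * E.na⁻¹) := by rw [h]; group
    _ = _ := by rw [E.na_1, conj_of_comm E.t_na.symm]

/-- `R` acts on `p1` by translations -/
theorem R_1 {g : G} (hg : g ∈ S.R) (q : Tp B) : ∃ c ∈ S.C, g * E.p1 q * g⁻¹ = c * E.p1 q := by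
  obtain ⟨c, hc, h⟩ := S.P_2 _ (S.mem_R.1 hg) q
  refine ⟨_, S.na_C c hc, ?_⟩
  calc g * E.p1 q * g⁻¹ = E.na * ((E.na * g * E.na⁻¹) * (E.na * E.p1 q * E.na⁻¹) *
        (E.na * g * E.na⁻¹)⁻¹) * E.na⁻¹ := by
        rw [← ci, ← cm, ← cm, na_na]
    _ = _ := by rw [E.na_1, h, cm, E.na_2]

theorem Q_R {g : G} (hg : g ∈ E.Q) : ∃ p ∈ S.P, ∃ c ∈ S.C, ∃ k ∈ S.R, g = p * c * k := by
  obtain ⟨q, x, q', rfl⟩ := (E.mem_Q g).1 hg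
  exact ⟨_, S.p1_mem q, _, S.xc_mem x, _, S.p2_R q', rfl⟩

theorem Wt_R {g : G} (hg : g ∈ S.Wt) : ∃ p ∈ S.P, ∃ c ∈ S.C, ∃ k ∈ S.R, g = p * c * k := by
  obtain ⟨r, hr, c, hc, b, hb, rfl⟩ := hg
  exact ⟨_, S.Z_le hr, c, hc, _, S.B_le_R hb, rfl⟩

theorem PCR_mul [Finite G] {g g' : G} (h : ∃ p ∈ S.P, ∃ c ∈ S.C, ∃ k ∈ S.R, g = p * c * k)
    (h' : ∃ p ∈ S.P, ∃ c ∈ S.C, ∃ k ∈ S.R, g' = p * c * k) :
    ∃ p ∈ S.P, ∃ c ∈ S.C, ∃ k ∈ S.R, g * g' = p * c * k := by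
  obtain ⟨p, hp, c, hc, k, hk, rfl⟩ := h
  obtain ⟨p', hp', c', hc', k', hk', rfl⟩ := h'
  obtain ⟨c2, hc2, h2⟩ := S.P_R (S.P.inv_mem hp') hk
  refine ⟨p * p', S.P.mul_mem hp hp', c * c2 * c', S.C.mul_mem (S.C.mul_mem hc hc2) hc', k * k',
    S.R.mul_mem hk hk', ?_⟩
  have e1 : k * p' = p' * (c2 * k) := by
    rw [← h2]; group
  have e2 := S.C_P c hc p' hp'
  have e3 := (S.C_R hc' hk).symm
  calc p * c * k * (p' * c' * k') = p * c * (k * p') * c' * k' := by group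
    _ = p * (c * p') * c2 * (k * c') * k' := by rw [e1]; group
    _ = _ := by rw [e2, e3]; group

/-- `N₂ = P C R`. -/
theorem N2_le [Finite G] {n : G} (hn : S.InN2 n) : ∃ p ∈ S.P, ∃ c ∈ S.C, ∃ g ∈ S.R, n = p * c * g := by
  obtain ⟨ω, hω, g0, hg0, h1⟩ := hn.t
  obtain ⟨q, x, q', rfl⟩ := (E.mem_Q g0).1 hg0
  obtain ⟨p, hp, r, hr, q1, hq1, hpt⟩ := S.P_onto q.w
  obtain ⟨g, hg, b, hb, q2, hq2, hgt⟩ := S.R_onto q'.w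
  obtain ⟨k1, hk1⟩ := Env.exists_ofK hq1
  obtain ⟨k2, hk2⟩ := Env.exists_ofK hq2
  have hN : S.InN2 (p * g) := (S.P_InN2 hp).mul (S.R_InN2 hg)
  -- the displacement of `p g`
  have h2 : ∃ η ∈ S.Wt, (p * g) * E.t * (p * g)⁻¹ = η * (E.p1 q * E.xc x * E.p2 q') * E.t := by
    obtain ⟨c1, hc1, h3⟩ := S.P_2 p hp q2
    obtain ⟨v, hv⟩ := Q_mul_comm (E := E) (E.p2_memQ q') (E.p1_memQ q)
    have e1 : E.p1 q1 = E.xz k1 * E.p1 q := by rw [hk1, E.p1_mul, E.p1_K]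
    have e2 : E.p2 q2 = E.xb k2 * E.p2 q' := by rw [hk2, E.p2_mul, E.p2_K]
    have hW1 : b * c1 * E.xb k2 ∈ S.Wt :=
      S.Wt.mul_mem (S.Wt.mul_mem (S.B_le_Wt hb) (S.C_le_Wt hc1)) (S.B_le_Wt (S.xb_mem k2))
    have hW2 : r * E.xz k1 ∈ S.Wt := S.Wt.mul_mem (S.Z_le_Wt hr) (S.Z_le_Wt (S.xz_mem k1))
    refine ⟨b * c1 * E.xb k2 * (r * E.xz k1) * E.w v * E.xc x,
      S.Wt.mul_mem (S.Wt.mul_mem (S.Wt.mul_mem hW1 hW2) (S.w_mem_Wt v)) (S.C_le_Wt (S.xc_mem x)), ?_⟩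
    have e3 := S.Wt_Q hW2 (E.p2_memQ q')
    have e4 := E.c_1 x q
    calc (p * g) * E.t * (p * g)⁻¹ = p * (g * E.t * g⁻¹) * p⁻¹ := by group
      _ = (p * b * p⁻¹) * (p * E.p2 q2 * p⁻¹) * (p * E.t * p⁻¹) := by rw [hgt]; group
      _ = b * (c1 * E.p2 q2) * (r * E.p1 q1 * E.t) := by rw [conj_of_comm (S.P_B hp hb), h3, hpt]
      _ = b * c1 * E.xb k2 * (E.p2 q' * (r * E.xz k1)) * E.p1 q * E.t := by rw [e1, e2]; group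
      _ = b * c1 * E.xb k2 * (r * E.xz k1) * (E.p2 q' * E.p1 q) * E.t := by rw [← e3]; group
      _ = b * c1 * E.xb k2 * (r * E.xz k1) * E.w v * (E.p1 q * (E.xc x * E.xc x)) * E.p2 q' * E.t := by
          rw [hv, E.xc_sq]; group
      _ = b * c1 * E.xb k2 * (r * E.xz k1) * E.w v * ((E.xc x * E.p1 q) * E.xc x) * E.p2 q' * E.t := by
          rw [e4]; group
      _ = _ := by group
  obtain ⟨η, hη, h2⟩ := h2
  have h3 : ((p * g)⁻¹ * n) * E.t * ((p * g)⁻¹ * n)⁻¹ = (ω * η⁻¹) * E.t := by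
    have hW := S.Wt.mul_mem hω (S.Wt.inv_mem hη)
    calc ((p * g)⁻¹ * n) * E.t * ((p * g)⁻¹ * n)⁻¹ = (p * g)⁻¹ * (n * E.t * n⁻¹) * (p * g) := by group
      _ = (p * g)⁻¹ * ((ω * η⁻¹) * (η * (E.p1 q * E.xc x * E.p2 q') * E.t)) * (p * g) := by
          rw [h1]; group
      _ = ((p * g)⁻¹ * (ω * η⁻¹)) * (p * g) * E.t := by rw [← h2]; group
      _ = _ := by rw [hN.inv.w _ hW]; group
  have hM : S.InN2 ((p * g)⁻¹ * n) := hN.inv.mul hn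
  obtain ⟨θ, hθ, k, hk, h4⟩ := core2 hM.w hM.q (S.Wt.mul_mem hω (S.Wt.inv_mem hη)) h3
  have h5 : n = p * (g * (θ * k)) := by rw [← h4]; group
  rw [h5]
  refine S.PCR_mul ⟨p, hp, 1, one_mem _, 1, one_mem _, by group⟩
    (S.PCR_mul ⟨1, one_mem _, 1, one_mem _, g, hg, by group⟩ (S.PCR_mul (S.Wt_R hθ) (S.Q_R hk)))

/-- `N₂ = (PC) R` -/
theorem N2_le' [Finite G] {n : G} (hn : S.InN2 n) : ∃ y ∈ S.PC, ∃ g ∈ S.R, n = y * g := by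
  obtain ⟨p, hp, c, hc, g, hg, rfl⟩ := S.N2_le hn
  exact ⟨p * c, ⟨p, hp, c, hc, rfl⟩, g, hg, rfl⟩

theorem PC_N2 [Finite G] {y : G} (hy : y ∈ S.PC) : S.InN2 y := by
  obtain ⟨p, hp, c, hc, rfl⟩ := hy
  refine (S.P_InN2 hp).mul ⟨?_, ?_, ?_⟩
  · exact S.comm_Wt (fun r hr => (S.Z_C r hr c hc).symm) (fun r hr => S.C_C hc hr) (fun r hr => S.C_B c hc r hr)
  · exact fun g hg => ⟨1, S.Wt.one_mem, by rw [one_mul, conj_of_comm (S.C_Q c hc g hg)]⟩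
  · obtain ⟨x, hx⟩ := S.rootC.conj_t c hc
    exact ⟨_, S.C_le_Wt (S.xc_mem x), 1, E.Q.one_mem, by rw [hx, mul_one]⟩

/-- the torus argument: `a = [h₁, a']` -/
theorem A_R_aux [Finite G] {a' g : G} (ha' : a' ∈ S.A) (hg : g ∈ S.R) (h : S.InN2 (a'⁻¹ * g * a')) :
    ∃ y ∈ S.PC, (E.hh S.l 1 * a' * (E.hh S.l 1)⁻¹ * a'⁻¹) * g * (E.hh S.l 1 * a' * (E.hh S.l 1)⁻¹ * a'⁻¹)⁻¹ =
      y * g := by
  obtain ⟨y1, hy1, g1, hg1, h1⟩ := S.N2_le' h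
  set k := E.hh S.l 1 with hk
  have hT : k ∈ E.T := E.hh_mem _ _
  have hkg : k * g = g * k := S.h1_R hg
  have hkg1 : k⁻¹ * g1 = g1 * k⁻¹ := comm_inv (S.h1_R hg1)
  have hy2 : k⁻¹ * y1 * k ∈ S.PC := by
    have := S.T_PC (E.T.inv_mem hT) hy1
    rwa [inv_inv] at this
  have h2 : k⁻¹ * (a'⁻¹ * g * a') * k = (k⁻¹ * y1 * k * y1⁻¹) * (a'⁻¹ * g * a') := by
    calc k⁻¹ * (a'⁻¹ * g * a') * k = k⁻¹ * y1 * k * (k⁻¹ * g1) * k := by rw [h1]; group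
      _ = k⁻¹ * y1 * k * y1⁻¹ * (y1 * g1) := by rw [hkg1]; group
      _ = _ := by rw [h1]
  have h3 : a' * (k⁻¹ * y1 * k * y1⁻¹) * a'⁻¹ ∈ S.PC :=
    S.A_PC ha' (S.PC.mul_mem hy2 (S.PC.inv_mem hy1))
  refine ⟨_, S.T_PC hT h3, ?_⟩
  calc (k * a' * k⁻¹ * a'⁻¹) * g * (k * a' * k⁻¹ * a'⁻¹)⁻¹
      = k * a' * (k⁻¹ * (a'⁻¹ * g * a') * k) * a'⁻¹ * k⁻¹ := by group
    _ = k * (a' * (k⁻¹ * y1 * k * y1⁻¹) * a'⁻¹) * k⁻¹ * (k * g * k⁻¹) := by rw [h2]; group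
    _ = _ := by rw [conj_of_comm hkg]

theorem h1_a (s : F) : E.hh S.l 1 * E.xa s * (E.hh S.l 1)⁻¹ = E.xa ((S.l : F) * s) := by
  rw [E.hh_a]
  congr 1
  rw [Units.val_one, inv_one, mul_one]

/-- `[X_a, R] ≤ PC` -/
theorem xa_R [Finite G] (s : F) {g : G} (hg : g ∈ S.R) :
    ∃ y ∈ S.PC, E.xa s * g * (E.xa s)⁻¹ = y * g := by
  have hl : (S.l : F) + 1 ≠ 0 := fun h => S.l_ne (Tp.eq_of h)
  obtain ⟨y, hy, h⟩ := S.A_R_aux (S.xa_mem (s / ((S.l : F) + 1))) hg (by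
    have := S.xa_InN2 (S.R_InN2 hg) (s / ((S.l : F) + 1))
    rwa [xa_inv] at this ⊢)
  refine ⟨y, hy, ?_⟩
  have e : E.hh S.l 1 * E.xa (s / ((S.l : F) + 1)) * (E.hh S.l 1)⁻¹ * (E.xa (s / ((S.l : F) + 1)))⁻¹ =
      E.xa s := by
    rw [S.h1_a, xa_inv, ← E.xa_add]
    congr 1
    field_simp
  rwa [e] at h

/-- `a R a⁻¹ ≤ N₂` -/
theorem A_R_N2 [Finite G] {a g : G} (ha : a ∈ S.A) (hg : g ∈ S.R) : S.InN2 (a * g * a⁻¹) := by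
  have hgN := S.R_InN2 hg
  have hai := S.A_inv ha
  have hw : ∀ ω ∈ S.Wt, a * ω * a⁻¹ ∈ S.Wt := by
    rintro _ ⟨r, hr, c, hc, b, hb, rfl⟩
    obtain ⟨r1, hr1, h1⟩ := S.A_C a ha c hc
    obtain ⟨r2, hr2, c2, hc2, h2⟩ := S.A_B ha hb
    rw [cm, cm, conj_of_comm (S.Z_A r hr a ha).symm, h1, h2]
    exact S.Wt.mul_mem (S.Wt.mul_mem (S.Z_le_Wt hr) (S.Wt.mul_mem (S.Z_le_Wt hr1) (S.C_le_Wt hc)))
      (S.Wt.mul_mem (S.Wt.mul_mem (S.Z_le_Wt hr2) (S.C_le_Wt hc2)) (S.B_le_Wt hb))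
  have hw' : ∀ ω ∈ S.Wt, a⁻¹ * ω * a ∈ S.Wt := by
    intro ω hω
    have := hw ω hω
    rwa [hai] at this ⊢
  have cw : ∀ ω ∈ S.Wt, a * g * a⁻¹ * ω = ω * (a * g * a⁻¹) := by
    intro ω hω
    have h1 := hgN.w _ (hw' ω hω)
    calc a * g * a⁻¹ * ω = a * (g * (a⁻¹ * ω * a)) * a⁻¹ := by group
      _ = _ := by rw [h1]; group
  -- `Q`
  have q1 : ∀ q, ∃ ω ∈ S.Wt, (a * g * a⁻¹) * E.p1 q * (a * g * a⁻¹)⁻¹ = ω * E.p1 q := by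
    intro q
    obtain ⟨c, hc, h⟩ := S.R_1 hg q
    have h1 := S.A_P a ha _ (S.p1_mem q)
    refine ⟨_, hw c (S.C_le_Wt hc), ?_⟩
    calc (a * g * a⁻¹) * E.p1 q * (a * g * a⁻¹)⁻¹ = a * (g * (a⁻¹ * E.p1 q) * a * g⁻¹) * a⁻¹ := by group
      _ = a * (g * E.p1 q * g⁻¹) * a⁻¹ := by rw [comm_inv h1]; group
      _ = (a * c * a⁻¹) * (a * E.p1 q * a⁻¹) := by rw [h]; group
      _ = _ := by rw [conj_of_comm h1]
  have q2 : ∀ q, ∃ ω ∈ S.Wt, (a * g * a⁻¹) * E.p2 q * (a * g * a⁻¹)⁻¹ = ω * E.p2 q := by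
    intro q
    obtain ⟨p, hp, c, hc, h⟩ := S.A_2 _ (S.A.inv_mem ha) q
    rw [inv_inv] at h
    obtain ⟨c1, hc1, h1⟩ := comm_mem2 hgN (S.P_InN2 hp)
    obtain ⟨b, hb, h2⟩ := hgN.q _ (E.p2_memQ q)
    have h3 : g * (p * c * E.p2 q) * g⁻¹ = (c1 * b) * (p * c * E.p2 q) := by
      rw [cm, cm, h1, h2, conj_of_comm (S.C_R hc hg).symm]
      have e1 := (S.PC_N2 (S.PC.mul_mem (S.P_PC hp) (S.C_PC hc))).w b hb
      calc c1 * p * c * (b * E.p2 q) = c1 * (p * c * b) * E.p2 q := by group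
        _ = _ := by rw [e1]; group
    refine ⟨_, hw _ (S.Wt.mul_mem hc1 hb), ?_⟩
    calc (a * g * a⁻¹) * E.p2 q * (a * g * a⁻¹)⁻¹ = a * (g * (a⁻¹ * E.p2 q * a) * g⁻¹) * a⁻¹ := by group
      _ = a * (c1 * b) * (a⁻¹ * E.p2 q * a) * a⁻¹ := by rw [h, h3]; group
      _ = _ := by group
  have cq : ∀ k ∈ E.Q, ∃ ω ∈ S.Wt, (a * g * a⁻¹) * k * (a * g * a⁻¹)⁻¹ = ω * k := by
    intro k hk
    obtain ⟨q, x, q', rfl⟩ := (E.mem_Q k).1 hk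
    obtain ⟨ω, hω, h1⟩ := q1 q
    obtain ⟨η, hη, h2⟩ := q2 q'
    refine ⟨ω * η, S.Wt.mul_mem hω hη, ?_⟩
    rw [cm _ _ (E.p2 q'), cm _ _ (E.xc x), h1, h2, conj_of_comm (cw _ (S.C_le_Wt (S.xc_mem x)))]
    have e1 := S.Wt_Q hη (E.Q.mul_mem (E.p1_memQ q) (E.c_mem x))
    calc ω * E.p1 q * E.xc x * (η * E.p2 q') = ω * ((E.p1 q * E.xc x) * η) * E.p2 q' := by group
      _ = _ := by rw [← e1]; group
  -- the displacement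
  obtain ⟨s, hs⟩ := S.rootA.conj_t a ha
  obtain ⟨b, hb, q, hgt⟩ := S.R_t hg
  obtain ⟨y, hy, h1⟩ := S.xa_R s hg
  have h2 : g * E.xa s * g⁻¹ = y⁻¹ * E.xa s := by
    have : E.xa s * g = y * g * E.xa s := by rw [← h1]; group
    calc g * E.xa s * g⁻¹ = y⁻¹ * (y * g * E.xa s) * g⁻¹ := by group
      _ = _ := by rw [← this]; group
  obtain ⟨p3, hp3, c3, hc3, h3⟩ := S.A_2 a ha q
  have hat : a⁻¹ * E.t * a = E.xa s * E.t := by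
    rw [← hs, hai]
  have h4 : (a * g * a⁻¹) * E.t * (a * g * a⁻¹)⁻¹ =
      (a * y⁻¹ * a⁻¹) * (E.xa s * ((a * b * a⁻¹) * (p3 * c3 * E.p2 q)) * (E.xa s)⁻¹) * E.t := by
    calc (a * g * a⁻¹) * E.t * (a * g * a⁻¹)⁻¹ = a * (g * (a⁻¹ * E.t * a) * g⁻¹) * a⁻¹ := by group
      _ = a * ((g * E.xa s * g⁻¹) * (g * E.t * g⁻¹)) * a⁻¹ := by rw [hat]; group
      _ = (a * y⁻¹ * a⁻¹) * (a * E.xa s * a⁻¹) * (a * b * a⁻¹) * (a * E.p2 q * a⁻¹) *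
            (a * E.t * a⁻¹) := by rw [h2, hgt]; group
      _ = (a * y⁻¹ * a⁻¹) * E.xa s * (a * b * a⁻¹) * (p3 * c3 * E.p2 q) * (E.xa s * E.t) := by
          rw [conj_of_comm (S.A_A' ha (S.xa_mem s)), h3, hs]
      _ = _ := by rw [xa_inv]; group
  have hN1 : S.InN2 ((a * b * a⁻¹) * (p3 * c3 * E.p2 q)) := by
    refine InN2.mul ?_ (InN2.mul (S.PC_N2 (S.PC.mul_mem (S.P_PC hp3) (S.C_PC hc3))) (S.R_InN2 (S.p2_R q)))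
    obtain ⟨r, hr, c, hc, h5⟩ := S.A_B ha hb
    rw [h5]
    exact (S.PC_N2 (S.PC.mul_mem (S.P_PC (S.Z_le hr)) (S.C_PC hc))).mul (S.R_InN2 (S.B_le_R hb))
  have hN2 := (S.PC_N2 (S.A_PC ha (S.PC.inv_mem hy))).mul (S.xa_InN2 hN1 s)
  obtain ⟨η, hη, k, hk, h5⟩ := mem_of_inv hN2 (by
    rw [← h4]
    calc (a * g * a⁻¹) * E.t * (a * g * a⁻¹)⁻¹ * ((a * g * a⁻¹) * E.t * (a * g * a⁻¹)⁻¹)
        = (a * g * a⁻¹) * (E.t * E.t) * (a * g * a⁻¹)⁻¹ := by group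
      _ = 1 := by rw [E.t_sq]; group)
  exact ⟨cw, cq, η, hη, k, hk, by rw [h4, h5]⟩

/-- `A = [A, h₁]` -/
theorem su_A [Finite G] {a : G} (ha : a ∈ S.A) :
    ∃ a' ∈ S.A, a = E.hh S.l 1 * a' * (E.hh S.l 1)⁻¹ * a'⁻¹ := by
  have key : ∀ c : F, E.xa ((S.l : F) * c) = E.xa c → E.xa c = 1 := by
    intro c hc
    rw [S.l_fix (QL.xa_injective hc), E.xa_zero]
  obtain ⟨b, hb, h⟩ := RootLem.su S.rootA (E.hh_mem S.l 1) (fun c hc => key c (by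
    rw [← S.h1_a, conj_of_comm hc])) (fun c hc => key c (by
      have := mul_right_cancel hc
      rwa [S.h1_a] at this)) ha
  refine ⟨b, hb, ?_⟩
  have h2 := S.rootA.conj_T _ (E.hh_mem S.l 1) b hb
  rw [h]
  exact S.A_A' (S.A.inv_mem hb) h2

theorem A_R [Finite G] {a g : G} (ha : a ∈ S.A) (hg : g ∈ S.R) :
    ∃ p ∈ S.P, ∃ c ∈ S.C, a * g * a⁻¹ = p * c * g := by
  obtain ⟨a', ha', rfl⟩ := S.su_A ha
  obtain ⟨y, ⟨p, hp, c, hc, rfl⟩, h⟩ := S.A_R_aux ha' hg (by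
    have := S.A_R_N2 (S.A.inv_mem ha') hg
    rwa [inv_inv] at this)
  exact ⟨p, hp, c, hc, h⟩

/-- **L4.** -/
def grown [Finite G] : Grown E where
  toQGrown := S
  R := S.R
  mem_R _ := Iff.rfl
  P_B _ hg _ hk := S.P_B hg hk
  A_B _ ha _ hk := S.A_B ha hk
  P_R _ hg _ hk := S.P_R hg hk
  A_R _ ha _ hk := S.A_R ha hk

end QGrown

end Cfsg.Agent.StdRank2.UFive
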