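import Cfsg.Agent.StdRank2.UFive.QLevel

/-!
# `QGrown → Grown` (type `U₅(q)`), part 1: `[P, B] = 1`, `[A, B] ≤ Z C`
-/

set_option autoImplicit false
set_option linter.unusedSectionVars false

namespace Cfsg.Agent.StdRank2.UFive

open Subgroup Cfsg.Agent.StdRank2.UFour

variable {F : Type*} [Field F] [CharP F 2] {B : Bar F} {G : Type*} [Group G]

namespace QGrown

open NOne RootLem

variable {E : Env B G} (S : QGrown E)

/-! ### Generalities -/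

/-- if `y` commutes with `x` and with `p⁻¹ x p` then `[p, y]` commutes with `x`. -/
theorem comm_lem {p y x : G} (h1 : y * x = x * y) (h2 : y * (p⁻¹ * x * p) = p⁻¹ * x * p * y) :
    p * y * p⁻¹ * y⁻¹ * x = x * (p * y * p⁻¹ * y⁻¹) := by
  have h3 := comm_inv h1
  calc p * y * p⁻¹ * y⁻¹ * x = p * y * p⁻¹ * (y⁻¹ * x) := by group
    _ = p * (y * (p⁻¹ * x * p)) * p⁻¹ * y⁻¹ := by rw [h3]; group
    _ = _ := by rw [h2]; group

theorem Z_sq {r : G} (hr : r ∈ S.Z) : r * r = 1 := S.rootZ.sq r hr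
theorem C_sq {r : G} (hr : r ∈ S.C) : r * r = 1 := S.rootC.sq r hr
theorem B_sq {r : G} (hr : r ∈ S.Bb) : r * r = 1 := S.rootB.sq r hr
theorem A_sq {r : G} (hr : r ∈ S.A) : r * r = 1 := S.rootA.sq r hr
theorem A_inv {r : G} (hr : r ∈ S.A) : r⁻¹ = r := WEnv.inv_of_sq (S.A_sq hr)
theorem B_inv {r : G} (hr : r ∈ S.Bb) : r⁻¹ = r := WEnv.inv_of_sq (S.B_sq hr)
theorem C_inv {r : G} (hr : r ∈ S.C) : r⁻¹ = r := WEnv.inv_of_sq (S.C_sq hr)
theorem Z_inv {r : G} (hr : r ∈ S.Z) : r⁻¹ = r := WEnv.inv_of_sq (S.Z_sq hr)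

theorem xz_mem (k : B.K) : E.xz k ∈ S.Z := S.rootZ.mem k
theorem xc_mem (k : F) : E.xc k ∈ S.C := S.rootC.mem k
theorem xb_mem (k : B.K) : E.xb k ∈ S.Bb := S.rootB.mem k
theorem xa_mem (k : F) : E.xa k ∈ S.A := S.rootA.mem k

theorem P_z {p : G} (hp : p ∈ S.P) {r : G} (hr : r ∈ S.Z) : p * r = r * p := (S.Z_P r hr p hp).symm
theorem P_c {p : G} (hp : p ∈ S.P) {r : G} (hr : r ∈ S.C) : p * r = r * p := (S.C_P r hr p hp).symm
theorem P_a {p : G} (hp : p ∈ S.P) {r : G} (hr : r ∈ S.A) : p * r = r * p := (S.A_P r hr p hp).symm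

theorem t_sq' : E.t⁻¹ = E.t := E.toWEnv.t_inv

/-- conjugation of `t` by `p⁻¹` -/
theorem inv_t {p u : G} (h : p * E.t * p⁻¹ = u * E.t) : p⁻¹ * E.t * p = (p⁻¹ * u⁻¹ * p) * E.t := by
  have e : E.t = p⁻¹ * (u * E.t) * p := by rw [← h]; group
  calc p⁻¹ * E.t * p = p⁻¹ * u⁻¹ * (u * E.t) * p := by group
    _ = (p⁻¹ * u⁻¹ * p) * (p⁻¹ * (u * E.t) * p) := by group
    _ = _ := by rw [← e]

/-- conjugation of `p` by `t` -/
theorem t_conj {p u : G} (h : p * E.t * p⁻¹ = u * E.t) : E.t * p * E.t⁻¹ = u⁻¹ * p := by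
  have e : p * E.t = u * E.t * p := by rw [← h]; group
  calc E.t * p * E.t⁻¹ = u⁻¹ * (u * E.t * p) * E.t⁻¹ := by group
    _ = u⁻¹ * (p * E.t) * E.t⁻¹ := by rw [e]
    _ = _ := by group

/-- no element centralising `Ẑ` is in `t W`. -/
theorem not_t {w v : G} (hw : ∀ r ∈ S.Z, w * r = r * w) (hv : ∀ r ∈ S.Z, v * r = r * v)
    (h : w = E.t * v) : False := by
  obtain ⟨r, hr, hrt⟩ := exists_not_comm S.toWGrown
  apply hrt
  have h1 := hw r hr
  have h2 := hv r hr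
  rw [h] at h1
  have h3 : E.t * r * v = r * E.t * v := by
    calc E.t * r * v = E.t * (r * v) := by group
      _ = E.t * v * r := by rw [← h2]; group
      _ = r * (E.t * v) := h1
      _ = _ := by group
  exact (mul_right_cancel h3).symm

theorem w_Z (v : B.V) {r : G} (hr : r ∈ S.Z) : E.w v * r = r * E.w v :=
  (S.Z_Q r hr _ (E.w_mem_Q v)).symm
theorem w_C (v : B.V) {r : G} (hr : r ∈ S.C) : E.w v * r = r * E.w v :=
  (S.C_Q r hr _ (E.w_mem_Q v)).symm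
theorem w_B (v : B.V) {r : G} (hr : r ∈ S.Bb) : E.w v * r = r * E.w v :=
  (S.B_Q r hr _ (E.w_mem_Q v)).symm

theorem Z_Z {r s : G} (hr : r ∈ S.Z) (hs : s ∈ S.Z) : r * s = s * r := RootLem.comm S.rootZ hr hs
theorem C_C {r s : G} (hr : r ∈ S.C) (hs : s ∈ S.C) : r * s = s * r := RootLem.comm S.rootC hr hs
theorem B_B {r s : G} (hr : r ∈ S.Bb) (hs : s ∈ S.Bb) : r * s = s * r := RootLem.comm S.rootB hr hs
theorem A_A' {r s : G} (hr : r ∈ S.A) (hs : s ∈ S.A) : r * s = s * r := RootLem.comm S.rootA hr hs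

/-- An element commuting with `t` and `Q` and centralising `Ẑ` is in `W`. -/
theorem mem_W {w : G} (ht : w * E.t = E.t * w) (hQ : ∀ g ∈ E.Q, w * g = g * w)
    (hZ : ∀ r ∈ S.Z, w * r = r * w) : ∃ v, w = E.w v := by
  obtain ⟨v, h | h⟩ := E.cent_w ht hQ
  · exact ⟨v, h⟩
  · exact (S.not_t hZ (fun r hr => S.w_Z v hr) h).elim

/-- commuting with generators of `Q` -/
theorem comm_Q {w : G} (h1 : ∀ q, w * E.p1 q = E.p1 q * w) (hc : ∀ x, w * E.xc x = E.xc x * w)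
    (h2 : ∀ q, w * E.p2 q = E.p2 q * w) : ∀ g ∈ E.Q, w * g = g * w := by
  intro g hg
  obtain ⟨q, x, r, rfl⟩ := (E.mem_Q g).1 hg
  exact comm_mul (comm_mul (h1 q) (hc x)) (h2 r)

/-- the only elements of `W` commuting with `X_a` are in `Z`. -/
theorem w_of_comm_a {v : B.V} (h : ∀ s, E.xa s * E.w v = E.w v * E.xa s) : E.w v = E.xz v.1 := by
  have h1 : ∀ s, B.ma s v = v := fun s =>
    E.toWEnv.w_injective (by rw [← E.conj_ma, conj_of_comm (h s)])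
  have h3 : v.2.2 = 0 := by
    have := congrArg (fun v : B.V => v.2.1) (h1 1)
    change v.2.1 + 1 * ((v.2.2 : B.K) : F) = v.2.1 at this
    rw [one_mul] at this
    exact Subtype.ext (add_eq_left.1 this)
  have h2 : v.2.1 = 0 := by
    by_contra hne
    obtain ⟨s, hs⟩ := Env.tr_ne (B := B) hne
    have := congrArg (fun v : B.V => v.1) (h1 s)
    change v.1 + B.tr (s * B.s v.2.1) + B.nm s * v.2.2 = v.1 at this
    rw [h3, mul_zero, add_zero] at this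
    exact hs (add_eq_left.1 this)
  unfold WEnv.w
  rw [h2, h3, E.xc_zero, E.xb_zero, mul_one, mul_one]

/-! ### `[P, B] = 1` -/

theorem P_xb {p : G} (hp : p ∈ S.P) (k : B.K) : p * E.xb k = E.xb k * p := by
  obtain ⟨c, hc, h⟩ := S.P_2 p hp (Tp.ofK k)
  rw [E.p2_K] at h
  obtain ⟨r, hr, q, ht⟩ := S.P_t p hp
  have hu1 : (r * E.p1 q)⁻¹ * E.xb k = E.xb k * (r * E.p1 q)⁻¹ := by
    apply comm_inv
    have e1 := S.Z_Q r hr _ (E.b_mem k)
    have e2 := E.b_Q k _ (E.p1_memQ q)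
    rw [mul_assoc, ← e2, ← mul_assoc, e1, mul_assoc]
  have hu2 : (r * E.p1 q)⁻¹ * c = c * (r * E.p1 q)⁻¹ := by
    apply comm_inv
    have e1 := S.Z_C r hr _ hc
    have e2 := S.C_Q c hc _ (E.p1_memQ q)
    rw [mul_assoc, ← e2, ← mul_assoc, e1, mul_assoc]
  have ht2 := t_conj ht
  have hct : c * E.t = E.t * c := by
    have h1 : E.t * (p * E.xb k * p⁻¹) * E.t⁻¹ = c * E.xb k := by
      calc E.t * (p * E.xb k * p⁻¹) * E.t⁻¹
          = (E.t * p * E.t⁻¹) * (E.t * E.xb k * E.t⁻¹) * (E.t * p * E.t⁻¹)⁻¹ := by group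
        _ = (r * E.p1 q)⁻¹ * (p * E.xb k * p⁻¹) * (r * E.p1 q) := by
            rw [ht2, conj_of_comm (E.t_b k)]; group
        _ = ((r * E.p1 q)⁻¹ * c) * E.xb k * (r * E.p1 q) := by rw [h]; group
        _ = c * ((r * E.p1 q)⁻¹ * E.xb k) * (r * E.p1 q) := by rw [hu2]; group
        _ = _ := by rw [hu1]; group
    rw [h] at h1
    have h2 : E.t * (c * E.xb k) * E.t⁻¹ = (E.t * c * E.t⁻¹) * E.xb k := by
      calc E.t * (c * E.xb k) * E.t⁻¹ = (E.t * c * E.t⁻¹) * (E.t * E.xb k * E.t⁻¹) := by group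
        _ = _ := by rw [conj_of_comm (E.t_b k)]
    rw [h2] at h1
    exact (comm_of_conj (mul_right_cancel h1)).symm
  obtain ⟨δ, rfl⟩ := S.rootC.cent c hc hct
  have hδ : δ = 0 := by
    by_contra hne
    obtain ⟨s, hs⟩ := Env.tr_ne (B := B) hne
    apply hs
    apply Env.xz_inj (E := E)
    have e1 := S.P_a hp (S.xa_mem s)
    have e2 := E.a_b s k
    have e3 := E.a_c s δ
    have e4 := S.P_z hp (S.xz_mem (B.nm s * k))
    have e5 := S.P_c hp (S.xc_mem (s * k))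
    have h1 : p * (E.xa s * E.xb k * (E.xa s)⁻¹) * p⁻¹ =
        E.xz (B.tr (s * B.s δ)) * E.xc δ * (E.xz (B.nm s * k) * E.xc (s * k) * E.xb k) := by
      calc p * (E.xa s * E.xb k * (E.xa s)⁻¹) * p⁻¹
          = (p * E.xa s * p⁻¹) * (p * E.xb k * p⁻¹) * (p * E.xa s * p⁻¹)⁻¹ := by group
        _ = E.xa s * (E.xc δ * E.xb k) * (E.xa s)⁻¹ := by rw [conj_of_comm e1, h]
        _ = (E.xa s * E.xc δ * (E.xa s)⁻¹) * (E.xa s * E.xb k * (E.xa s)⁻¹) := by group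
        _ = _ := by rw [e2, e3]
    have h2 : p * (E.xa s * E.xb k * (E.xa s)⁻¹) * p⁻¹ =
        E.xz (B.nm s * k) * E.xc (s * k) * (E.xc δ * E.xb k) := by
      rw [e2]
      calc p * (E.xz (B.nm s * k) * E.xc (s * k) * E.xb k) * p⁻¹
          = (p * E.xz (B.nm s * k) * p⁻¹) * (p * E.xc (s * k) * p⁻¹) * (p * E.xb k * p⁻¹) := by group
        _ = _ := by rw [conj_of_comm e4, conj_of_comm e5, h]
    rw [h2] at h1
    have h3 : E.xz (B.nm s * k) * E.xc (s * k) * (E.xc δ * E.xb k) =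
        E.xc δ * (E.xz (B.nm s * k) * E.xc (s * k) * E.xb k) := by
      have e6 := E.z_c (B.nm s * k) δ
      have e7 : E.xc (s * k) * E.xc δ = E.xc δ * E.xc (s * k) := by
        rw [← E.xc_add, ← E.xc_add, add_comm]
      calc E.xz (B.nm s * k) * E.xc (s * k) * (E.xc δ * E.xb k)
          = E.xz (B.nm s * k) * (E.xc (s * k) * E.xc δ) * E.xb k := by group
        _ = (E.xz (B.nm s * k) * E.xc δ) * E.xc (s * k) * E.xb k := by rw [e7]; group
        _ = _ := by rw [e6]; group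
    rw [h3, mul_assoc (E.xz _) (E.xc δ)] at h1
    exact right_eq_mul.1 h1
  rw [hδ, E.xc_zero, one_mul] at h
  exact comm_of_conj h

/-- `h₀` on the root groups -/
theorem su_B [Finite G] (hl : ∀ x : F, (S.l : F) * x = x → x = 0) {y : G} (hy : y ∈ S.Bb) :
    ∃ b ∈ S.Bb, y = b⁻¹ * (E.hh 1 S.l * b * (E.hh 1 S.l)⁻¹) := by
  have key : ∀ c : B.K, E.xb (B.nm (S.l : F) * c) = E.xb c → E.xb c = 1 := by
    intro c hc
    have h1 : B.nm (S.l : F) * c = c := by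
      have h2 : E.w (0, 0, B.nm (S.l : F) * c) = E.w (0, 0, c) := by rw [E.w_b, E.w_b, hc]
      have h3 := congrArg (fun v : B.V => v.2.2) (E.toWEnv.w_injective h2)
      exact h3
    have h2 : (S.l : F) * ((S.l : F) * c) = c := by
      have := congrArg Subtype.val h1
      change (S.l : F) * B.s (S.l : F) * (c : F) = c at this
      rw [S.l_K] at this
      linear_combination this
    have h3 : (S.l : F) * (c + (S.l : F) * c) = c + (S.l : F) * c := by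
      rw [mul_add, h2, add_comm]
    have h4 := hl _ h3
    have h5 := hl _ (Tp.eq_of (by rw [add_comm]; exact h4))
    have h6 : c = 0 := Subtype.ext h5
    rw [h6, E.xb_zero]
  refine RootLem.su S.rootB (E.hh_mem _ _) (fun c hc => ?_) (fun c hc => ?_) hy
  · apply key
    have := E.hh_b 1 S.l c
    rw [← this, conj_of_comm hc]
  · apply key
    have := mul_right_cancel hc
    rw [E.hh_b] at this
    exact this

theorem l_fix {x : F} (h : (S.l : F) * x = x) : x = 0 := by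
  by_contra hx
  exact S.l_ne (mul_right_cancel₀ hx (h.trans (one_mul x).symm))

theorem P_B [Finite G] {p y : G} (hp : p ∈ S.P) (hy : y ∈ S.Bb) : p * y = y * p := by
  -- `[p, y] ∈ Z`
  have main : ∀ y ∈ S.Bb, ∃ k, p * y * p⁻¹ = E.xz k * y := by
    intro y hy
    obtain ⟨k, hk⟩ := S.rootB.conj_t y hy
    obtain ⟨r, hr, q, hpt⟩ := S.P_t p hp
    have hyQ : ∀ g ∈ E.Q, y * g = g * y := S.B_Q y hy
    set u := r * E.p1 q with hu
    -- commutation of `[p, y]` with `Q`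
    have c1 : ∀ q, p * y * p⁻¹ * y⁻¹ * E.p1 q = E.p1 q * (p * y * p⁻¹ * y⁻¹) := by
      intro q
      apply comm_lem (hyQ _ (E.p1_memQ q))
      obtain ⟨ζ, hζ, h⟩ := S.P_comm _ (S.P.inv_mem hp) _ (S.p1_mem q)
      rw [inv_inv] at h
      rw [h]
      exact comm_mul (S.Z_B ζ hζ y hy).symm (hyQ _ (E.p1_memQ q))
    have c2 : ∀ x, p * y * p⁻¹ * y⁻¹ * E.xc x = E.xc x * (p * y * p⁻¹ * y⁻¹) := by
      intro x
      apply comm_lem (hyQ _ (E.c_mem x))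
      have h := S.P_c (S.P.inv_mem hp) (S.xc_mem x)
      have h2 := conj_of_comm h
      rw [inv_inv] at h2
      rw [h2]
      exact hyQ _ (E.c_mem x)
    have c3 : ∀ q, p * y * p⁻¹ * y⁻¹ * E.p2 q = E.p2 q * (p * y * p⁻¹ * y⁻¹) := by
      intro q
      apply comm_lem (hyQ _ (E.p2_memQ q))
      obtain ⟨c, hc, h⟩ := S.P_2 _ (S.P.inv_mem hp) q
      rw [inv_inv] at h
      rw [h]
      exact comm_mul (S.C_B c hc y hy).symm (hyQ _ (E.p2_memQ q))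
    have c4 : ∀ r ∈ S.Z, p * y * p⁻¹ * y⁻¹ * r = r * (p * y * p⁻¹ * y⁻¹) := by
      intro r hr
      apply comm_lem (S.Z_B r hr y hy).symm
      have h2 := conj_of_comm (S.P_z (S.P.inv_mem hp) hr)
      rw [inv_inv] at h2
      rw [h2]
      exact (S.Z_B r hr y hy).symm
    -- `y` commutes with `p⁻¹ u⁻¹ p`
    have hup : ∃ ζ ∈ S.Z, p⁻¹ * u⁻¹ * p = ζ * (E.p1 q)⁻¹ := by
      obtain ⟨ζ, hζ, h⟩ := S.P_comm _ (S.P.inv_mem hp) _ (S.P.inv_mem (S.p1_mem q))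
      rw [inv_inv] at h
      refine ⟨ζ * r⁻¹, S.Z.mul_mem hζ (S.Z.inv_mem hr), ?_⟩
      have h2 := conj_of_comm (S.P_z (S.P.inv_mem hp) (S.Z.inv_mem hr))
      rw [inv_inv] at h2
      have h3 := S.P_z (S.P.inv_mem (S.p1_mem q)) (S.Z.inv_mem hr)
      calc p⁻¹ * u⁻¹ * p = (p⁻¹ * (E.p1 q)⁻¹ * p) * (p⁻¹ * r⁻¹ * p) := by rw [hu]; group
        _ = ζ * ((E.p1 q)⁻¹ * r⁻¹) := by rw [h, h2]; group
        _ = _ := by rw [h3]; group
    obtain ⟨ζ, hζ, hζ2⟩ := hup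
    have hyu : y * (p⁻¹ * u⁻¹ * p) = p⁻¹ * u⁻¹ * p * y := by
      rw [hζ2]
      exact comm_mul (S.Z_B ζ hζ y hy).symm (hyQ _ (E.Q.inv_mem (E.p1_memQ q)))
    have hbu : E.xb k * (p⁻¹ * u⁻¹ * p) = p⁻¹ * u⁻¹ * p * E.xb k := by
      rw [hζ2]
      exact comm_mul (S.Z_Q ζ hζ _ (E.b_mem k)).symm (E.b_Q k _ (E.Q.inv_mem (E.p1_memQ q)))
    have c5 : p * y * p⁻¹ * y⁻¹ * E.t = E.t * (p * y * p⁻¹ * y⁻¹) := by
      apply comm_of_conj
      have e1 : y⁻¹ * E.t * y = E.xb k * E.t := by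
        have h1 := S.B_inv hy
        have h2 : y⁻¹ * E.t * y = y * E.t * y⁻¹ := by rw [h1]
        rw [h2, hk]
      have e2 := inv_t (E := E) hpt
      have e3 := conj_of_comm (S.P_xb (S.P.inv_mem hp) k)
      rw [inv_inv] at e3
      calc p * y * p⁻¹ * y⁻¹ * E.t * (p * y * p⁻¹ * y⁻¹)⁻¹
          = p * y * (p⁻¹ * (y⁻¹ * E.t * y) * p) * y⁻¹ * p⁻¹ := by group
        _ = p * y * ((p⁻¹ * E.xb k * p) * (p⁻¹ * E.t * p)) * y⁻¹ * p⁻¹ := by rw [e1]; group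
        _ = p * y * (E.xb k * ((p⁻¹ * u⁻¹ * p) * E.t)) * y⁻¹ * p⁻¹ := by rw [e2, e3]
        _ = p * ((y * E.xb k * y⁻¹) * (y * (p⁻¹ * u⁻¹ * p)) * y⁻¹ * (y * E.t * y⁻¹)) * p⁻¹ := by group
        _ = p * (E.xb k * (p⁻¹ * u⁻¹ * p) * (E.xb k * E.t)) * p⁻¹ := by
            rw [conj_of_comm (hyQ _ (E.b_mem k)), hyu, hk]; group
        _ = p * ((p⁻¹ * u⁻¹ * p) * (E.xb k * E.xb k) * E.t) * p⁻¹ := by rw [hbu]; group
        _ = p * ((p⁻¹ * u⁻¹ * p) * E.t) * p⁻¹ := by rw [E.xb_sq, mul_one]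
        _ = p * (p⁻¹ * E.t * p) * p⁻¹ := by rw [e2]
        _ = E.t := by group
    obtain ⟨v, hv⟩ := S.mem_W c5 (comm_Q c1 c2 c3) c4
    -- commutation with `X_a`
    have c6 : ∀ s, E.xa s * E.w v = E.w v * E.xa s := by
      intro s
      obtain ⟨r', hr', c', hc', h⟩ := S.a_B s y hy
      have e1 : y⁻¹ * E.xa s * y = r' * c' * E.xa s := by
        have e2 : E.xa s * y = r' * c' * y * E.xa s := by rw [← h]; group
        have e3 : y⁻¹ * (r' * c') = r' * c' * y⁻¹ :=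
          comm_inv (comm_mul (S.Z_B r' hr' y hy).symm (S.C_B c' hc' y hy).symm)
        calc y⁻¹ * E.xa s * y = y⁻¹ * (E.xa s * y) := by group
          _ = (y⁻¹ * (r' * c')) * y * E.xa s := by rw [e2]; group
          _ = _ := by rw [e3]; group
      have e4 : p⁻¹ * (r' * c' * E.xa s) * p = r' * c' * E.xa s := by
        have h1 : p⁻¹ * (r' * c' * E.xa s) = r' * c' * E.xa s * p⁻¹ :=
          comm_mul (comm_mul (S.P_z (S.P.inv_mem hp) hr') (S.P_c (S.P.inv_mem hp) hc'))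
            (S.P_a (S.P.inv_mem hp) (S.xa_mem s))
        rw [h1]; group
      have e5 : (p * y * p⁻¹ * y⁻¹) * E.xa s * (p * y * p⁻¹ * y⁻¹)⁻¹ = E.xa s := by
        calc (p * y * p⁻¹ * y⁻¹) * E.xa s * (p * y * p⁻¹ * y⁻¹)⁻¹
            = p * y * (p⁻¹ * (y⁻¹ * E.xa s * y) * p) * y⁻¹ * p⁻¹ := by group
          _ = p * (y * (y⁻¹ * E.xa s * y) * y⁻¹) * p⁻¹ := by rw [e1, e4]; group
          _ = p * E.xa s * p⁻¹ := by group
          _ = E.xa s := conj_of_comm (S.P_a hp (S.xa_mem s))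
      rw [← hv]
      exact (comm_of_conj e5).symm
    refine ⟨v.1, ?_⟩
    rw [← w_of_comm_a c6, ← hv]; group
  -- kill
  obtain ⟨b, hb, rfl⟩ := S.su_B (fun x hx => S.l_fix hx) hy
  obtain ⟨k, hk⟩ := main b hb
  have h0 := S.P_h p hp
  have hz : E.hh 1 S.l * E.xz k * (E.hh 1 S.l)⁻¹ = E.xz k := by
    rw [E.hh_z, Units.val_one, B.nm_one, one_mul]
  have hbk : b * E.xz k = E.xz k * b := (S.Z_B _ (S.xz_mem k) b hb).symm
  apply comm_of_conj
  have e0 : p * E.hh 1 S.l = E.hh 1 S.l * p := h0.symm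
  have e0' : (E.hh 1 S.l)⁻¹ * p⁻¹ = p⁻¹ * (E.hh 1 S.l)⁻¹ := by
    rw [← mul_inv_rev, e0, mul_inv_rev]
  calc p * (b⁻¹ * (E.hh 1 S.l * b * (E.hh 1 S.l)⁻¹)) * p⁻¹
      = (p * b * p⁻¹)⁻¹ * ((p * E.hh 1 S.l) * b * ((E.hh 1 S.l)⁻¹ * p⁻¹)) := by group
    _ = (p * b * p⁻¹)⁻¹ * (E.hh 1 S.l * (p * b * p⁻¹) * (E.hh 1 S.l)⁻¹) := by rw [e0, e0']; group
    _ = (E.xz k * b)⁻¹ * ((E.hh 1 S.l * E.xz k * (E.hh 1 S.l)⁻¹) *
          (E.hh 1 S.l * b * (E.hh 1 S.l)⁻¹)) := by rw [hk]; group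
    _ = b⁻¹ * (E.hh 1 S.l * b * (E.hh 1 S.l)⁻¹) := by rw [hz]; group

end QGrown

end Cfsg.Agent.StdRank2.UFive
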