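import Cfsg.Agent.StdRank2.UFive.GrowNTwo

/-!
# `QGrown → Grown` (type `U₅(q)`), part 4: `R = P^na`, `[P, R] ≤ C`, `[A, R] ≤ PC`
-/

set_option autoImplicit false
set_option linter.unusedSectionVars false

namespace Cfsg.Agent.StdRank2.UFive

open Subgroup Cfsg.Agent.StdRank2.UFour

variable {F : Type*} [Field F] [CharP F 2] {B : Bar F} {G : Type*} [Group G]

namespace QGrown

open NOne RootLem

variable {E : Env B G} (S : QGrown E)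

theorem na_inv : E.na⁻¹ = E.na := WEnv.inv_of_sq E.na_sq

theorem na_na (g : G) : E.na * (E.na * g * E.na⁻¹) * E.na⁻¹ = g := by
  have e : E.na * (E.na * g * E.na⁻¹) * E.na⁻¹ = (E.na * E.na) * g * (E.na * E.na)⁻¹ := by group
  rw [e, E.na_sq]; group

/-- `R = P^na`. -/
def R : Subgroup G := S.P.comap (MulAut.conj E.na).toMonoidHom

theorem mem_R {g : G} : g ∈ S.R ↔ E.na * g * E.na⁻¹ ∈ S.P := Iff.rfl

theorem na_P {g : G} (hg : g ∈ S.P) : E.na * g * E.na⁻¹ ∈ S.R := by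
  rw [S.mem_R, na_na]; exact hg

theorem p2_R (q : Tp B) : E.p2 q ∈ S.R := by
  rw [S.mem_R, E.na_2]; exact S.p1_mem q

theorem B_le_R {g : G} (hg : g ∈ S.Bb) : g ∈ S.R := S.mem_R.2 (S.Z_le (S.na_B g hg))

/-- transport of commutation by `na` -/
theorem na_comm {g k : G} (h : (E.na * g * E.na⁻¹) * (E.na * k * E.na⁻¹) =
    (E.na * k * E.na⁻¹) * (E.na * g * E.na⁻¹)) : g * k = k * g := by
  have h1 : E.na * (g * k) * E.na⁻¹ = E.na * (k * g) * E.na⁻¹ := by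
    rw [cm, h, ← cm]
  exact mul_left_cancel (mul_right_cancel h1)

theorem na_Wt {ω : G} (hω : ω ∈ S.Wt) : E.na * ω * E.na⁻¹ ∈ S.Wt := by
  obtain ⟨r, hr, c, hc, b, hb, rfl⟩ := hω
  rw [cm, cm]
  exact S.Wt.mul_mem (S.Wt.mul_mem (S.B_le_Wt (S.na_Z r hr)) (S.C_le_Wt (S.na_C c hc)))
    (S.Z_le_Wt (S.na_B b hb))

theorem na_InN2 {n : G} (hn : S.InN2 n) : S.InN2 (E.na * n * E.na⁻¹) := by
  refine hn.conj (fun ω hω => S.na_Wt hω) (fun ω hω => ?_) E.na_Q E.t_na.symm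
  have := S.na_Wt hω
  rwa [na_inv] at this ⊢

theorem xa_Wt {ω : G} (hω : ω ∈ S.Wt) (s : F) : E.xa s * ω * (E.xa s)⁻¹ ∈ S.Wt := by
  obtain ⟨r, hr, c, hc, b, hb, rfl⟩ := hω
  obtain ⟨r1, hr1, h1⟩ := S.a_C s c hc
  obtain ⟨r2, hr2, c2, hc2, h2⟩ := S.a_B s b hb
  rw [cm, cm, conj_of_comm (S.Z_a r hr s).symm, h1, h2]
  exact S.Wt.mul_mem (S.Wt.mul_mem (S.Z_le_Wt hr) (S.Wt.mul_mem (S.Z_le_Wt hr1) (S.C_le_Wt hc)))
    (S.Wt.mul_mem (S.Wt.mul_mem (S.Z_le_Wt hr2) (S.C_le_Wt hc2)) (S.B_le_Wt hb))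

theorem xa_inv (s : F) : (E.xa s)⁻¹ = E.xa s := WEnv.inv_of_sq (E.xa_sq s)

theorem xa_InN2 {n : G} (hn : S.InN2 n) (s : F) : S.InN2 (E.xa s * n * (E.xa s)⁻¹) := by
  refine hn.conj (fun ω hω => S.xa_Wt hω s) (fun ω hω => ?_)
    (fun g => ⟨E.xa_Q s g, fun h => ?_⟩) (E.t_a s).symm
  · have := S.xa_Wt hω s
    rwa [xa_inv] at this ⊢
  · have h1 := E.xa_Q s _ h
    have e : E.xa s * (E.xa s * g * (E.xa s)⁻¹) * (E.xa s)⁻¹ = (E.xa s * E.xa s) * g * (E.xa s * E.xa s)⁻¹ := by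
      group
    rw [e, E.xa_sq] at h1
    simpa using h1

theorem P_InN2 [Finite G] {p : G} (hp : p ∈ S.P) : S.InN2 p where
  w := S.comm_Wt (fun r hr => S.P_z hp hr) (fun r hr => S.P_c hp hr) (fun r hr => S.P_B hp hr)
  q g hg := by
    obtain ⟨q, x, q', rfl⟩ := (E.mem_Q g).1 hg
    obtain ⟨r, hr, h1⟩ := S.P_comm p hp _ (S.p1_mem q)
    obtain ⟨c, hc, h2⟩ := S.P_2 p hp q'
    refine ⟨r * c, S.Wt.mul_mem (S.Z_le_Wt hr) (S.C_le_Wt hc), ?_⟩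
    rw [cm, cm, h1, h2, conj_of_comm (S.P_c hp (S.xc_mem x))]
    have e1 := S.C_Q c hc _ (E.Q.mul_mem (E.p1_memQ q) (E.c_mem x))
    calc r * E.p1 q * E.xc x * (c * E.p2 q') = r * ((E.p1 q * E.xc x) * c) * E.p2 q' := by group
      _ = _ := by rw [← e1]; group
  t := by
    obtain ⟨r, hr, q, h⟩ := S.P_t p hp
    exact ⟨r, S.Z_le_Wt hr, _, E.p1_memQ q, h⟩

theorem R_InN2 [Finite G] {g : G} (hg : g ∈ S.R) : S.InN2 g := by
  have h := S.na_InN2 (S.P_InN2 (S.mem_R.1 hg))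
  rwa [na_na] at h

/-! ### the action of the torus -/

theorem na_hh' (α β : Fˣ) (g : G) : E.na * (E.hh α β * g * (E.hh α β)⁻¹) * E.na⁻¹ =
    E.hh β α * (E.na * g * E.na⁻¹) * (E.hh β α)⁻¹ := by
  rw [← E.na_hh α β]; group

theorem T_R {k g : G} (hk : k ∈ E.T) (hg : g ∈ S.R) : k * g * k⁻¹ ∈ S.R := by
  rw [S.mem_R]
  have e : E.na * (k * g * k⁻¹) * E.na⁻¹ =
      (E.na * k * E.na⁻¹) * (E.na * g * E.na⁻¹) * (E.na * k * E.na⁻¹)⁻¹ := by group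
  rw [e]
  exact S.P_T _ ((E.na_T k).1 hk) _ hg

/-- `h₁` centralises `R`. -/
theorem h1_R {g : G} (hg : g ∈ S.R) : E.hh S.l 1 * g = g * E.hh S.l 1 := by
  apply na_comm (E := E)
  rw [E.na_hh]
  exact S.P_h _ hg

theorem h1_p1 (q : Tp B) : E.hh S.l 1 * E.p1 q * (E.hh S.l 1)⁻¹ = E.p1 (Tp.sm (S.l : F) q) := by
  rw [E.hh_1]
  congr 2
  have h1 : (S.l : F) ≠ 0 := S.l.ne_zero
  rw [S.l_K, Units.val_one, map_one]
  field_simp

/-- equal products `Z p1` have equal first coordinates -/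
theorem Z_p1_w {r r' : G} {q q' : Tp B} (hr : r ∈ S.Z) (hr' : r' ∈ S.Z)
    (h : r * E.p1 q = r' * E.p1 q') : q.w = q'.w := by
  have h1 : r'⁻¹ * r = E.p1 (q' * q⁻¹) := by
    rw [E.p1_mul, ← E.p1_inv]
    calc r'⁻¹ * r = r'⁻¹ * (r * E.p1 q) * (E.p1 q)⁻¹ := by group
      _ = _ := by rw [h]; group
  have h2 : (q' * q⁻¹).w = 0 := by
    apply w_zero_of_comm (E := E)
    intro q
    rw [← h1]
    exact S.Z_Q _ (S.Z.mul_mem (S.Z.inv_mem hr') hr) _ (E.p1_memQ q)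
  rw [Tp.mul_w, Tp.inv_w] at h2
  exact (Tp.eq_of h2).symm

theorem P_fix {p : G} (hp : p ∈ S.P) (h : E.hh S.l 1 * p = p * E.hh S.l 1) : p = 1 := by
  have fixw : ∀ q : Tp B, (Tp.sm (S.l : F) q).w = q.w → q.w = 0 := fun q hq => S.l_fix hq
  have hT := E.hh_mem S.l 1
  -- step 1: `p t p⁻¹ ∈ Z t`
  obtain ⟨r, hr, q, ht⟩ := S.P_t p hp
  have h1 : r * E.p1 q = (E.hh S.l 1 * r * (E.hh S.l 1)⁻¹) * E.p1 (Tp.sm (S.l : F) q) := by
    apply mul_right_cancel (b := E.t)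
    rw [← ht, ← h1_p1, ← cm]
    have e : E.hh S.l 1 * (r * E.p1 q) * (E.hh S.l 1)⁻¹ * E.t =
        E.hh S.l 1 * (r * E.p1 q * E.t) * (E.hh S.l 1)⁻¹ := by
      rw [cm _ _ E.t, conj_of_comm (E.T_t _ hT).symm]
    rw [e, ← ht]
    calc p * E.t * p⁻¹ = p * (E.hh S.l 1 * E.t * (E.hh S.l 1)⁻¹) * p⁻¹ := by
          rw [conj_of_comm (E.T_t _ hT).symm]
      _ = (p * E.hh S.l 1) * E.t * (p * E.hh S.l 1)⁻¹ := by group
      _ = _ := by rw [← h]; group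
  have h2 := fixw q (S.Z_p1_w hr (S.rootZ.conj_T _ hT r hr) h1).symm
  obtain ⟨k, hk⟩ := ofK_of_w (E := E) h2
  rw [hk] at ht
  obtain ⟨r1, hr1, q1, h3⟩ := S.P_cent p hp _ (S.Z.mul_mem hr (S.xz_mem k)) ht
  -- step 2: `p ∈ Z`
  have h4 : r1 * E.p1 q1 = (E.hh S.l 1 * r1 * (E.hh S.l 1)⁻¹) * E.p1 (Tp.sm (S.l : F) q1) := by
    rw [← h1_p1, ← cm, ← h3, conj_of_comm h]
  have h5 := fixw q1 (S.Z_p1_w hr1 (S.rootZ.conj_T _ hT r1 hr1) h4).symm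
  obtain ⟨k1, hk1⟩ := ofK_of_w (E := E) h5
  have hpZ : p ∈ S.Z := by rw [h3, hk1]; exact S.Z.mul_mem hr1 (S.xz_mem k1)
  -- step 3
  have key : ∀ c : B.K, E.xz (B.nm (S.l : F) * c) = E.xz c → c = 0 := by
    intro c hc
    have h1 : B.nm (S.l : F) * c = c := by
      have h2 : E.w (B.nm (S.l : F) * c, 0, 0) = E.w (c, 0, 0) := by rw [E.w_z, E.w_z, hc]
      exact congrArg (fun v : B.V => v.1) (E.toWEnv.w_injective h2)
    have h2 : (S.l : F) * ((S.l : F) * c) = c := by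
      have := congrArg Subtype.val h1
      change (S.l : F) * B.s (S.l : F) * (c : F) = c at this
      rw [S.l_K] at this
      linear_combination this
    have h3 : (S.l : F) * (c + (S.l : F) * c) = c + (S.l : F) * c := by
      rw [mul_add, h2, add_comm]
    have h5 := S.l_fix (Tp.eq_of (by rw [add_comm]; exact S.l_fix h3))
    exact Subtype.ext h5
  obtain ⟨c, hc⟩ := S.rootZ.conj_t p hpZ
  have h6 : E.xz (B.nm (S.l : F) * c) = E.xz c := by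
    rw [← E.hh_z S.l 1]
    apply mul_right_cancel (b := E.t)
    have e : E.hh S.l 1 * E.xz c * (E.hh S.l 1)⁻¹ * E.t = E.hh S.l 1 * (E.xz c * E.t) * (E.hh S.l 1)⁻¹ := by
      rw [cm _ _ E.t, conj_of_comm (E.T_t _ hT).symm]
    rw [e, ← hc]
    symm
    calc p * E.t * p⁻¹ = p * (E.hh S.l 1 * E.t * (E.hh S.l 1)⁻¹) * p⁻¹ := by
          rw [conj_of_comm (E.T_t _ hT).symm]
      _ = (p * E.hh S.l 1) * E.t * (p * E.hh S.l 1)⁻¹ := by group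
      _ = _ := by rw [← h]; group
  rw [key c h6, E.xz_zero, one_mul] at hc
  obtain ⟨x, rfl⟩ := S.rootZ.cent p hpZ (comm_of_conj hc)
  rw [key x (by rw [← E.hh_z S.l 1, conj_of_comm h]), E.xz_zero]

theorem R_fix {g : G} (hg : g ∈ S.R) (h : E.hh 1 S.l * g = g * E.hh 1 S.l) : g = 1 := by
  have h1 := S.P_fix (S.mem_R.1 hg) (by
    rw [← E.na_hh 1 S.l]
    calc E.na * E.hh 1 S.l * E.na⁻¹ * (E.na * g * E.na⁻¹) = E.na * (E.hh 1 S.l * g) * E.na⁻¹ := by group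
      _ = _ := by rw [h]; group)
  calc g = E.na⁻¹ * (E.na * g * E.na⁻¹) * E.na := by group
    _ = 1 := by rw [h1]; group

/-- commutators with a fixed point free element -/
theorem su_of_fix [Finite G] (R : Subgroup G) {h : G} (hR : ∀ y ∈ R, h * y * h⁻¹ ∈ R)
    (fix : ∀ y ∈ R, h * y = y * h → y = 1) {g : G} (hg : g ∈ R) : ∃ y ∈ R, g = y⁻¹ * (h * y * h⁻¹) := by
  let f : R → R := fun y => ⟨(y : G)⁻¹ * (h * y * h⁻¹), R.mul_mem (R.inv_mem y.2) (hR _ y.2)⟩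
  have hinj : Function.Injective f := by
    intro y z hyz
    have h1 : (y : G)⁻¹ * (h * y * h⁻¹) = (z : G)⁻¹ * (h * z * h⁻¹) := congrArg Subtype.val hyz
    have h2 : (z : G) * (y : G)⁻¹ = 1 := by
      apply fix _ (R.mul_mem z.2 (R.inv_mem y.2))
      have h3 : (z : G) * (y : G)⁻¹ = h * (z * (y : G)⁻¹) * h⁻¹ := by
        calc (z : G) * (y : G)⁻¹ = z * ((y : G)⁻¹ * (h * y * h⁻¹)) * (h * (y : G)⁻¹ * h⁻¹) := by group
          _ = _ := by rw [h1]; group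
      calc h * ((z : G) * (y : G)⁻¹) = (h * (z * (y : G)⁻¹) * h⁻¹) * h := by group
        _ = _ := by rw [← h3]
    exact Subtype.ext (mul_inv_eq_one.1 h2).symm
  obtain ⟨y, hy⟩ := (Finite.injective_iff_surjective.1 hinj) ⟨g, hg⟩
  exact ⟨y, y.2, (congrArg Subtype.val hy).symm⟩

theorem su_R [Finite G] {g : G} (hg : g ∈ S.R) :
    ∃ y ∈ S.R, g = y⁻¹ * (E.hh 1 S.l * y * (E.hh 1 S.l)⁻¹) :=
  su_of_fix S.R (fun _ hy => S.T_R (E.hh_mem _ _) hy) (fun _ hy h => S.R_fix hy h) hg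

/-- `[P, R] ≤ C B` -/
theorem P_R_CB [Finite G] {p g : G} (hp : p ∈ S.P) (hg : g ∈ S.R) :
    ∃ c ∈ S.C, ∃ b ∈ S.Bb, p * g * p⁻¹ = c * b * g := by
  obtain ⟨y, hy, rfl⟩ := S.su_R hg
  set h := E.hh 1 S.l with hh
  have hT : h ∈ E.T := E.hh_mem _ _
  obtain ⟨_, ⟨r, hr, c, hc, b, hb, rfl⟩, h1⟩ := comm_mem2 (S.P_InN2 hp) (S.R_InN2 hy)
  have hr' : h * r = r * h := S.P_h r (S.Z_le hr)
  have hph : h * p = p * h := S.P_h p hp
  have h2 : p * (h * y * h⁻¹) * p⁻¹ = h * (r * c * b * y) * h⁻¹ := by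
    rw [← h1]
    calc p * (h * y * h⁻¹) * p⁻¹ = (p * h) * y * (p * h)⁻¹ := by group
      _ = _ := by rw [← hph]; group
  refine ⟨c⁻¹ * (h * c * h⁻¹), S.C.mul_mem (S.C.inv_mem hc) (S.rootC.conj_T h hT c hc),
    b⁻¹ * (h * b * h⁻¹), S.Bb.mul_mem (S.Bb.inv_mem hb) (S.rootB.conj_T h hT b hb), ?_⟩
  have h3 : p * (y⁻¹ * (h * y * h⁻¹)) * p⁻¹ =
      y⁻¹ * ((r * c * b)⁻¹ * (h * (r * c * b) * h⁻¹)) * (h * y * h⁻¹) := by
    calc p * (y⁻¹ * (h * y * h⁻¹)) * p⁻¹ = (p * y * p⁻¹)⁻¹ * (p * (h * y * h⁻¹) * p⁻¹) := by group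
      _ = _ := by rw [h1, h2]; group
  have hc' := S.rootC.conj_T h hT c hc
  have hb' := S.rootB.conj_T h hT b hb
  have h4 : (r * c * b)⁻¹ * (h * (r * c * b) * h⁻¹) = c⁻¹ * (h * c * h⁻¹) * (b⁻¹ * (h * b * h⁻¹)) := by
    rw [cm, cm, conj_of_comm hr']
    have e1 := S.Z_B r hr b hb
    have e2 := S.Z_C r hr c hc
    have e3 : b⁻¹ * (c⁻¹ * (h * c * h⁻¹)) = c⁻¹ * (h * c * h⁻¹) * b⁻¹ :=
      (S.C_B _ (S.C.mul_mem (S.C.inv_mem hc) hc') _ (S.Bb.inv_mem hb)).symm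
    calc (r * c * b)⁻¹ * (r * (h * c * h⁻¹) * (h * b * h⁻¹))
        = (b⁻¹ * (c⁻¹ * (h * c * h⁻¹))) * (h * b * h⁻¹) := by group
      _ = _ := by rw [e3]; group
  have h5 : c⁻¹ * (h * c * h⁻¹) * (b⁻¹ * (h * b * h⁻¹)) ∈ S.Wt :=
    S.Wt.mul_mem (S.C_le_Wt (S.C.mul_mem (S.C.inv_mem hc) hc')) (S.B_le_Wt (S.Bb.mul_mem (S.Bb.inv_mem hb) hb'))
  have h6 := (S.R_InN2 (S.R.inv_mem hy)).w _ h5
  rw [h3, h4, h6]
  group

/-- `[P, R] ≤ C` -/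
theorem P_R [Finite G] {p g : G} (hp : p ∈ S.P) (hg : g ∈ S.R) : ∃ c ∈ S.C, p * g * p⁻¹ = c * g := by
  obtain ⟨c, hc, b, hb, h1⟩ := S.P_R_CB hp hg
  obtain ⟨c', hc', b', hb', h2⟩ := S.P_R_CB (S.mem_R.1 hg) (S.na_P hp)
  have h3 : g * p * g⁻¹ = (E.na * c' * E.na⁻¹) * (E.na * b' * E.na⁻¹) * p := by
    calc g * p * g⁻¹ = (E.na * (E.na * g * E.na⁻¹) * E.na⁻¹) * (E.na * (E.na * p * E.na⁻¹) * E.na⁻¹) *
          (E.na * (E.na * g * E.na⁻¹) * E.na⁻¹)⁻¹ := by rw [na_na, na_na]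
      _ = E.na * ((E.na * g * E.na⁻¹) * (E.na * p * E.na⁻¹) * (E.na * g * E.na⁻¹)⁻¹) * E.na⁻¹ := by group
      _ = (E.na * c' * E.na⁻¹) * (E.na * b' * E.na⁻¹) * (E.na * (E.na * p * E.na⁻¹) * E.na⁻¹) := by
          rw [h2]; group
      _ = _ := by rw [na_na]
  have hc2 := S.na_C c' hc'
  have hb2 := S.na_B b' hb'
  set c2 := E.na * c' * E.na⁻¹ with hc2d
  set r2 := E.na * b' * E.na⁻¹ with hr2d
  have h4 : r2 * (c2 * c) * b = 1 := by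
    have e1 : c * b = p * g * p⁻¹ * g⁻¹ := by rw [h1]; group
    have e2 : c2 * r2 = g * p * g⁻¹ * p⁻¹ := by rw [h3]; group
    have e3 := S.Z_C r2 hb2 c2 hc2
    calc r2 * (c2 * c) * b = (r2 * c2) * (c * b) := by group
      _ = (g * p * g⁻¹ * p⁻¹) * (p * g * p⁻¹ * g⁻¹) := by rw [e3, e1, e2]
      _ = 1 := by group
  have h5 := (S.Wt_inj hb2 (S.C.mul_mem hc2 hc) hb h4).2.2
  exact ⟨c, hc, by rw [h1, h5, mul_one]⟩

end QGrown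

end Cfsg.Agent.StdRank2.UFive
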