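import Cfsg.Agent.StdRank2.UFive.QLevel

/-!
# The group `P̂ = C_{N₁}(h₀)` and the theorem `WGrown → QGrown` (type `U₅(q)`)
-/

set_option autoImplicit false
set_option linter.unusedSectionVars false

namespace Cfsg.Agent.StdRank2.UFive

open Subgroup Cfsg.Agent.StdRank2.UFour

variable {F : Type*} [Field F] [CharP F 2] {B : Bar F} {G : Type*} [Group G]

namespace QL

open NOne RootLem

variable {E : Env B G} (W : WGrown E.toWEnv)

/-- averaging -/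
def av (h n : G) : ℕ → G
  | 0 => 1
  | k + 1 => n * (h * av h n k * h⁻¹)

theorem av_succ (h n : G) (k : ℕ) : av h n (k + 1) = av h n k * (h ^ k * n * (h ^ k)⁻¹) := by
  induction k with
  | zero => simp [av]
  | succ k ih =>
    have e1 : av h n (k + 1 + 1) = n * (h * av h n (k + 1) * h⁻¹) := rfl
    have e2 : av h n (k + 1) = n * (h * av h n k * h⁻¹) := rfl
    rw [e1, ih, pow_succ']
    rw [e2] at ih
    calc n * (h * (av h n k * (h ^ k * n * (h ^ k)⁻¹)) * h⁻¹)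
        = (n * (h * av h n k * h⁻¹)) * (h * h ^ k * n * (h * h ^ k)⁻¹) := by group
      _ = _ := by rw [ih]

theorem av_conj {h n : G} {m : ℕ} (hm : h ^ m = 1) : h * av h n m * h⁻¹ = n⁻¹ * av h n m * n := by
  have h1 := av_succ h n m
  rw [hm] at h1
  have h2 : av h n (m + 1) = n * (h * av h n m * h⁻¹) := rfl
  have h3 : h * av h n m * h⁻¹ = n⁻¹ * av h n (m + 1) := by rw [h2]; group
  rw [h3, h1]; group

/-- `P̂` -/
def P : Subgroup G := N W ⊓ centralizer {h0 E}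

theorem mem_P {n : G} : n ∈ P W ↔ InN W n ∧ n * h0 E = h0 E * n := by
  unfold P
  rw [mem_inf, mem_centralizer_singleton_iff, mem_N]

variable {W}

theorem Zp_mem {r : G} (hr : r ∈ W.Z) : r ∈ P W := (mem_P W).2 ⟨Z_mem hr, (h0_Z W hr).symm⟩

theorem p1_mem (q : Tp B) : E.p1 q ∈ P W := (mem_P W).2 ⟨Q1_mem (E.p1_mem1 q), (h0_1 E q).symm⟩

/-- an element of `Q₁` commuting with `h₀` is in `p1` -/
theorem of_h0 {g : G} (hg : g ∈ E.Q1) (hh : g * h0 E = h0 E * g) : ∃ q, g = E.p1 q := by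
  obtain ⟨q, x, s, rfl⟩ := hg
  have h1 := conj_of_comm hh.symm
  rw [E.q1_conj, h0_a, h0_c, conj_of_comm (h0_1 E q)] at h1
  obtain ⟨-, h2, h3⟩ := E.q1_injective h1
  rw [l_mul_ne E h2, linv_mul_ne E h3]
  exact ⟨q, by unfold Env.q1; rw [E.toWEnv.xc_zero, E.toWEnv.xa_zero, mul_one, mul_one]⟩

theorem P_t {g : G} (hg : g ∈ P W) : ∃ r ∈ W.Z, ∃ q, g * E.t * g⁻¹ = r * E.p1 q * E.t := by
  obtain ⟨h1, h2⟩ := (mem_P W).1 hg
  obtain ⟨r, hr, k, hk, h3⟩ := h1.t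
  have ht : h0 E * E.t = E.t * h0 E := (E.T_t _ (h0_T E)).symm
  have e1 : k = r⁻¹ * (g * E.t * g⁻¹) * E.t⁻¹ := by rw [h3]; group
  have hZ := h0_Z W (W.Z.inv_mem hr)
  have h4 : h0 E * k = k * h0 E := by
    rw [e1]
    exact comm_mul (comm_mul hZ (comm_mul (comm_mul h2.symm ht) (comm_inv h2).symm))
      (comm_inv ht.symm).symm
  obtain ⟨q, hq⟩ := of_h0 hk h4.symm
  exact ⟨r, hr, q, by rw [h3, hq]⟩

theorem P_cent {g r : G} (hg : g ∈ P W) (hr : r ∈ W.Z) (h : g * E.t * g⁻¹ = r * E.t) :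
    ∃ r ∈ W.Z, ∃ q, g = r * E.p1 q := by
  obtain ⟨h1, h2⟩ := (mem_P W).1 hg
  obtain ⟨r', hr', k, hk, h3⟩ := mem_of_t h1 hr h
  have e1 : k = r'⁻¹ * g := by rw [h3]; group
  have h4 : h0 E * k = k * h0 E := by
    rw [e1]
    exact comm_mul (h0_Z W (W.Z.inv_mem hr')) h2.symm
  obtain ⟨q, hq⟩ := of_h0 hk h4.symm
  exact ⟨r', hr', q, by rw [h3, hq]⟩

/-- the average of an element of `N₁` is in `P̂` -/
theorem av_mem {n : G} (hn : InN W n) {m : ℕ} (hm : Odd m) (hpow : h0 E ^ m = 1) :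
    av (h0 E) n m ∈ P W := by
  have hN : ∀ k, InN W (av (h0 E) n k) := by
    intro k
    induction k with
    | zero => exact InN.one
    | succ k ih => exact hn.mul (T_N W (h0_T E) ih)
  refine (mem_P W).2 ⟨hN m, ?_⟩
  have h1 := av_conj (h := h0 E) (n := n) hpow
  obtain ⟨r, hr, h2⟩ := comm_mem hn.inv (hN m)
  have h3 : n⁻¹ * av (h0 E) n m * n = r * av (h0 E) n m := by
    rw [← h2]; group
  rw [h3] at h1
  set p := av (h0 E) n m
  have h4 : ∀ k : ℕ, h0 E ^ k * p * (h0 E ^ k)⁻¹ = r ^ k * p := by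
    intro k
    induction k with
    | zero => simp
    | succ k ih =>
      calc h0 E ^ (k + 1) * p * (h0 E ^ (k + 1))⁻¹ = h0 E * (h0 E ^ k * p * (h0 E ^ k)⁻¹) * (h0 E)⁻¹ := by
            rw [pow_succ']; group
        _ = (h0 E * r ^ k * (h0 E)⁻¹) * (h0 E * p * (h0 E)⁻¹) := by rw [ih]; group
        _ = r ^ k * (r * p) := by rw [h1, conj_of_comm (h0_Z W (W.Z.pow_mem hr k))]
        _ = r ^ (k + 1) * p := by rw [pow_succ, mul_assoc]
  have h5 := h4 m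
  rw [hpow, pow_odd W.rootZ hr hm] at h5
  have h6 : r = 1 := by
    have : r * p = p := by rw [← h5]; group
    exact mul_eq_right.1 this
  rw [h6, one_mul] at h1
  exact (comm_of_conj h1).symm

theorem av_t {n : G} {q : Tp B} {r : G} (hr : r ∈ W.Z) (h : n * E.t * n⁻¹ = r * E.p1 q * E.t)
    (hn : InN W n) (k : ℕ) : ∃ r ∈ W.Z, av (h0 E) n k * E.t * (av (h0 E) n k)⁻¹ =
      r * E.p1 (q ^ k) * E.t := by
  induction k with
  | zero => exact ⟨1, W.Z.one_mem, by simp [av, E.p1_one]⟩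
  | succ k ih =>
    obtain ⟨s, hs, h1⟩ := ih
    obtain ⟨s', hs', h2⟩ := hn.q _ (E.p1_mem1 (q ^ k))
    refine ⟨s * s' * r, W.Z.mul_mem (W.Z.mul_mem hs hs') hr, ?_⟩
    have ht : h0 E * E.t = E.t * h0 E := (E.T_t _ (h0_T E)).symm
    have e1 : (h0 E * av (h0 E) n k * (h0 E)⁻¹) * E.t * (h0 E * av (h0 E) n k * (h0 E)⁻¹)⁻¹ =
        s * E.p1 (q ^ k) * E.t := by
      have e2 : (h0 E)⁻¹ * E.t * h0 E = E.t := by rw [comm_inv ht]; group
      calc (h0 E * av (h0 E) n k * (h0 E)⁻¹) * E.t * (h0 E * av (h0 E) n k * (h0 E)⁻¹)⁻¹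
          = h0 E * (av (h0 E) n k * ((h0 E)⁻¹ * E.t * h0 E) * (av (h0 E) n k)⁻¹) * (h0 E)⁻¹ := by group
        _ = (h0 E * s * (h0 E)⁻¹) * (h0 E * E.p1 (q ^ k) * (h0 E)⁻¹) * (h0 E * E.t * (h0 E)⁻¹) := by
            rw [e2, h1]; group
        _ = _ := by
            rw [conj_of_comm (h0_Z W hs), conj_of_comm (h0_1 E _), conj_of_comm ht]
    have e0 : av (h0 E) n (k + 1) = n * (h0 E * av (h0 E) n k * (h0 E)⁻¹) := rfl
    rw [e0, mc, e1, cm, cm, h, h2, conj_of_comm (hn.z s hs), pow_succ, E.p1_mul]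
    have h3 : r * E.p1 (q ^ k) = E.p1 (q ^ k) * r := Z_Q1 W hr (E.p1_mem1 _)
    calc s * (s' * E.p1 (q ^ k)) * (r * E.p1 q * E.t)
        = s * s' * (E.p1 (q ^ k) * r) * E.p1 q * E.t := by group
      _ = _ := by rw [← h3]; group

theorem pow_w (q : Tp B) {m : ℕ} (hm : Odd m) : (q ^ m).w = q.w := by
  obtain ⟨k, rfl⟩ := hm
  have h : ∀ k : ℕ, (q ^ (2 * k)).w = 0 := by
    intro k
    induction k with
    | zero => simp
    | succ k ih =>
      have e : 2 * (k + 1) = 2 * k + 1 + 1 := by ring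
      rw [e, pow_succ, pow_succ, Tp.mul_w, Tp.mul_w, ih, zero_add, Bar.add_self]
  rw [pow_succ, Tp.mul_w, h, zero_add]

theorem P_onto (hnb : NbZ E W) (w : F) : ∃ g ∈ P W, ∃ r ∈ W.Z, ∃ q, q.w = w ∧
    g * E.t * g⁻¹ = r * E.p1 q * E.t := by
  obtain ⟨q, hq⟩ : ∃ r : Tp B, r.w = w := by
    obtain ⟨c, hc⟩ := B.tr_surj (B.nm w)
    exact ⟨⟨w, c, congrArg Subtype.val hc⟩, rfl⟩
  obtain ⟨n, hn, r, hr, h1⟩ := disp_1 hnb q
  obtain ⟨m, hm, hpow⟩ := E.T_odd _ (h0_T E)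
  obtain ⟨s, hs, h2⟩ := av_t hr h1 hn m
  exact ⟨_, av_mem hn hm hpow, s, hs, q ^ m, by rw [pow_w q hm, hq], h2⟩

/-! ### Commutation -/

theorem C_P [Finite G] {c g : G} (hc : c ∈ W.C) (hg : g ∈ P W) : c * g = g * c := by
  obtain ⟨h1, h2⟩ := (mem_P W).1 hg
  obtain ⟨b, hb, hk⟩ := su W.rootC (h0_T E) (fun x h => by
      have h3 := conj_of_comm h
      rw [h0_c] at h3
      rw [l_mul_ne E (xc_injective h3), E.toWEnv.xc_zero]) (fun x h => by
      rw [h0_c] at h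
      rw [l_mul_ne E (xc_injective (mul_right_cancel h)), E.toWEnv.xc_zero]) hc
  obtain ⟨r, hr, h3⟩ := comm_mem (C_mem hb) h1
  have h4 : (h0 E * b * (h0 E)⁻¹) * g * (h0 E * b * (h0 E)⁻¹)⁻¹ = r * g := by
    have e : (h0 E)⁻¹ * g * h0 E = g := by rw [comm_inv h2.symm]; group
    calc (h0 E * b * (h0 E)⁻¹) * g * (h0 E * b * (h0 E)⁻¹)⁻¹
        = h0 E * (b * ((h0 E)⁻¹ * g * h0 E) * b⁻¹) * (h0 E)⁻¹ := by group
      _ = (h0 E * r * (h0 E)⁻¹) * (h0 E * g * (h0 E)⁻¹) := by rw [e, h3]; group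
      _ = _ := by rw [conj_of_comm (h0_Z W hr), conj_of_comm h2.symm]
  apply comm_of_conj
  rw [hk]
  have e1 : (b⁻¹ * (h0 E * b * (h0 E)⁻¹)) * g * (b⁻¹ * (h0 E * b * (h0 E)⁻¹))⁻¹ =
      b⁻¹ * ((h0 E * b * (h0 E)⁻¹) * g * (h0 E * b * (h0 E)⁻¹)⁻¹) * b := by group
  rw [e1, h4, ← h3]; group

theorem A_P [Finite G] (hnb : NbZ E W) {a g : G} (ha : a ∈ A W) (hg : g ∈ P W) : a * g = g * a := by
  obtain ⟨h1, h2⟩ := (mem_P W).1 hg
  obtain ⟨b, hb, hk⟩ := su (rootA W) (h0_T E) (fun x h => by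
      have h3 := conj_of_comm h
      rw [h0_a] at h3
      rw [linv_mul_ne E (xa_injective h3), E.toWEnv.xa_zero]) (fun x h => by
      rw [h0_a] at h
      rw [linv_mul_ne E (xa_injective (mul_right_cancel h)), E.toWEnv.xa_zero]) ha
  obtain ⟨r, hr, h3⟩ := comm_mem (A_N W hnb hb) h1
  have h4 : (h0 E * b * (h0 E)⁻¹) * g * (h0 E * b * (h0 E)⁻¹)⁻¹ = r * g := by
    have e : (h0 E)⁻¹ * g * h0 E = g := by rw [comm_inv h2.symm]; group
    calc (h0 E * b * (h0 E)⁻¹) * g * (h0 E * b * (h0 E)⁻¹)⁻¹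
        = h0 E * (b * ((h0 E)⁻¹ * g * h0 E) * b⁻¹) * (h0 E)⁻¹ := by group
      _ = (h0 E * r * (h0 E)⁻¹) * (h0 E * g * (h0 E)⁻¹) := by rw [e, h3]; group
      _ = _ := by rw [conj_of_comm (h0_Z W hr), conj_of_comm h2.symm]
  apply comm_of_conj
  rw [hk]
  have e1 : (b⁻¹ * (h0 E * b * (h0 E)⁻¹)) * g * (b⁻¹ * (h0 E * b * (h0 E)⁻¹))⁻¹ =
      b⁻¹ * ((h0 E * b * (h0 E)⁻¹) * g * (h0 E * b * (h0 E)⁻¹)⁻¹) * b := by group
  rw [e1, h4, ← h3]; group

theorem P_T {k g : G} (hk : k ∈ E.T) (hg : g ∈ P W) : k * g * k⁻¹ ∈ P W := by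
  obtain ⟨h1, h2⟩ := (mem_P W).1 hg
  refine (mem_P W).2 ⟨T_N W hk h1, ?_⟩
  have h3 : k * h0 E = h0 E * k := E.T_comm k hk _ (h0_T E)
  have h4 := comm_mul (comm_mul h3.symm h2.symm) (comm_inv h3).symm
  exact h4.symm

theorem nb_h0 : E.nb * h0 E * E.nb⁻¹ = (h0 E)⁻¹ := by
  have h1 := E.nb_hh 1 (l E) (l E)⁻¹ (by rw [l_K, Units.inv_mul])
  have h2 := E.hh_mul 1 (l E) 1 (l E)⁻¹
  rw [mul_one, mul_inv_cancel] at h2
  have h3 := E.hh_mul 1 1 1 1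
  rw [mul_one] at h3
  have h4 : E.hh 1 1 = 1 := left_eq_mul.1 h3
  rw [h4] at h2
  unfold h0
  rw [h1]
  exact (inv_eq_of_mul_eq_one_right h2.symm).symm

theorem P_nb (hnb : NbZ E W) {g : G} (hg : g ∈ P W) : E.nb * g * E.nb⁻¹ ∈ P W := by
  obtain ⟨h1, h2⟩ := (mem_P W).1 hg
  refine (mem_P W).2 ⟨nb_N W hnb h1, ?_⟩
  have h3 : h0 E = E.nb * (h0 E)⁻¹ * E.nb⁻¹ := by
    rw [ci, nb_h0, inv_inv]
  rw [h3]
  have h4 := (comm_inv h2.symm)
  calc E.nb * g * E.nb⁻¹ * (E.nb * (h0 E)⁻¹ * E.nb⁻¹) = E.nb * (g * (h0 E)⁻¹) * E.nb⁻¹ := by group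
    _ = E.nb * ((h0 E)⁻¹ * g) * E.nb⁻¹ := by rw [h4]
    _ = _ := by group

/-- scaling differences cover `Tp` -/
theorem sm_surj [Finite F] (q : Tp B) : ∃ r : Tp B, q = r⁻¹ * Tp.sm (l E : F) r := by
  have hf : Function.Injective (fun r : Tp B => r⁻¹ * Tp.sm (l E : F) r) := by
    intro r s hrs
    have h1 : r⁻¹ * Tp.sm (l E : F) r = s⁻¹ * Tp.sm (l E : F) s := hrs
    have hsm : ∀ r s : Tp B, Tp.sm (l E : F) (r * s) = Tp.sm (l E : F) r * Tp.sm (l E : F) s := by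
      intro r s
      ext
      · simp [mul_add]
      · simp only [Tp.sm_c, Tp.mul_c, Tp.sm_w, map_mul]; ring
    have hsi : ∀ r : Tp B, Tp.sm (l E : F) r⁻¹ = (Tp.sm (l E : F) r)⁻¹ := by
      intro r
      rw [eq_inv_iff_mul_eq_one, ← hsm, inv_mul_cancel]
      ext <;> simp
    have h2 : Tp.sm (l E : F) (s * r⁻¹) = s * r⁻¹ := by
      rw [hsm, hsi]
      calc Tp.sm (l E : F) s * (Tp.sm (l E : F) r)⁻¹
          = s * (s⁻¹ * Tp.sm (l E : F) s) * (r⁻¹ * Tp.sm (l E : F) r)⁻¹ * r⁻¹ := by group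
        _ = s * r⁻¹ := by rw [← h1]; group
    have h3 : s * r⁻¹ = 1 := by
      have e1 := congrArg Tp.w h2
      have e2 := congrArg Tp.c h2
      rw [Tp.sm_w] at e1
      rw [Tp.sm_c, l_K] at e2
      ext
      · exact l_mul_ne E e1
      · rw [mul_assoc] at e2
        by_contra hc
        have h4 : (l E : F) * (l E : F) = 1 := by
          rw [← mul_assoc] at e2
          exact mul_right_cancel₀ hc (e2.trans (one_mul _).symm)
        apply l_ne E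
        have h5 : ((l E : F) + 1) * ((l E : F) + 1) = 0 := by
          have := Bar.add_self (l E : F)
          have h6 := Bar.add_self (1 : F)
          linear_combination h4 + this + h6
        have h6 := mul_self_eq_zero.1 h5
        exact Tp.eq_of h6
    exact (mul_inv_eq_one.1 h3).symm
  have : Finite (Tp B) := by
    apply Finite.of_injective (fun r : Tp B => (r.w, r.c))
    intro r s h
    ext
    · exact congrArg Prod.fst h
    · exact congrArg Prod.snd h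
  obtain ⟨r, hr⟩ := (Finite.injective_iff_surjective.1 hf) q
  exact ⟨r, hr.symm⟩

end QL

end Cfsg.Agent.StdRank2.UFive
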