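import Cfsg.Agent.StdRank2.UFive.NOne

/-!
# The `Q₁`-level: from `WGrown` to `QGrown` (type `U₅(q)`)
-/

set_option autoImplicit false
set_option linter.unusedSectionVars false

namespace Cfsg.Agent.StdRank2.UFive

open Subgroup Cfsg.Agent.StdRank2.UFour

variable {F : Type*} [Field F] [CharP F 2] {B : Bar F} {G : Type*} [Group G]

/-! ### General lemmas on grown root groups -/

namespace RootLem

variable {E : WEnv B G} {M : Type*} {x : M → G} {R : Subgroup G}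

theorem comm (h : Root E x R) {r s : G} (hr : r ∈ R) (hs : s ∈ R) : r * s = s * r := by
  have h1 : (r * s)⁻¹ = r * s := WEnv.inv_of_sq (h.sq _ (R.mul_mem hr hs))
  rw [mul_inv_rev, WEnv.inv_of_sq (h.sq _ hs), WEnv.inv_of_sq (h.sq _ hr)] at h1
  exact h1.symm

theorem pow_odd (h : Root E x R) {r : G} (hr : r ∈ R) {m : ℕ} (hm : Odd m) : r ^ m = r := by
  obtain ⟨k, rfl⟩ := hm
  rw [pow_succ, pow_mul, pow_two, h.sq r hr, one_pow, one_mul]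

/-- (CO): an element of the torus centralising the root group centralises the grown root group. -/
theorem co (h : Root E x R) {g : G} (hg : g ∈ E.T) (hx : ∀ c, g * x c = x c * g) {k : G} (hk : k ∈ R) :
    g * k = k * g := by
  obtain ⟨c, hc⟩ := h.conj_t k hk
  have h1 := h.conj_T g hg k hk
  have h2 : (k⁻¹ * (g * k * g⁻¹)) * E.t = E.t * (k⁻¹ * (g * k * g⁻¹)) := by
    apply comm_of_conj
    have e1 : g⁻¹ * E.t * g = E.t := by
      rw [comm_inv (E.T_t g hg).symm]; group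
    calc k⁻¹ * (g * k * g⁻¹) * E.t * (k⁻¹ * (g * k * g⁻¹))⁻¹
        = k⁻¹ * (g * (k * (g⁻¹ * E.t * g) * k⁻¹) * g⁻¹) * k := by group
      _ = k⁻¹ * (g * (x c * E.t) * g⁻¹) * k := by rw [e1, hc]
      _ = k⁻¹ * ((g * x c * g⁻¹) * (g * E.t * g⁻¹)) * k := by group
      _ = k⁻¹ * (x c * E.t) * k := by
          rw [conj_of_comm (hx c), conj_of_comm (E.T_t g hg).symm]
      _ = k⁻¹ * (k * E.t * k⁻¹) * k := by rw [hc]
      _ = E.t := by group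
  obtain ⟨d, hd⟩ := h.cent _ (R.mul_mem (R.inv_mem hk) h1) h2
  have h3 : g * k * g⁻¹ = k * x d := by rw [← hd]; group
  have h4 : ∀ m : ℕ, g ^ m * k * (g ^ m)⁻¹ = k * x d ^ m := by
    intro m
    induction m with
    | zero => simp
    | succ m ih =>
      calc g ^ (m + 1) * k * (g ^ (m + 1))⁻¹ = g * (g ^ m * k * (g ^ m)⁻¹) * g⁻¹ := by
            rw [pow_succ']; group
        _ = g * (k * x d ^ m) * g⁻¹ := by rw [ih]
        _ = (g * k * g⁻¹) * (g * x d ^ m * g⁻¹) := by group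
        _ = k * x d * x d ^ m := by
            rw [h3, conj_of_comm]
            have : Commute g (x d) := hx d
            exact (this.pow_right m).eq
        _ = k * x d ^ (m + 1) := by rw [pow_succ']; group
  obtain ⟨m, hm, hgm⟩ := E.T_odd g hg
  have h5 := h4 m
  rw [hgm, pow_odd h (h.mem d) hm] at h5
  have h6 : x d = 1 := by
    have : k * x d = k := by rw [← h5]; group
    exact mul_eq_left.1 this
  rw [h6, mul_one] at h3
  exact comm_of_conj h3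

/-- (SU): a fixed point free element of the torus: commutators cover the grown root group. -/
theorem su [Finite G] (h : Root E x R) {g : G} (hg : g ∈ E.T)
    (hx : ∀ c, g * x c = x c * g → x c = 1)
    (hx2 : ∀ c, (g * x c * g⁻¹) * E.t = x c * E.t → x c = 1) {k : G} (hk : k ∈ R) :
    ∃ b ∈ R, k = b⁻¹ * (g * b * g⁻¹) := by
  have fix : ∀ k ∈ R, g * k = k * g → k = 1 := by
    intro k hk hgk
    obtain ⟨c, hc⟩ := h.conj_t k hk
    have e1 : g⁻¹ * E.t * g = E.t := by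
      rw [comm_inv (E.T_t g hg).symm]; group
    have e2 : (g * x c * g⁻¹) * E.t = x c * E.t := by
      calc (g * x c * g⁻¹) * E.t = g * (x c * (g⁻¹ * E.t * g)) * g⁻¹ := by group
        _ = g * (k * E.t * k⁻¹) * g⁻¹ := by rw [e1, ← hc]
        _ = (g * k) * E.t * (g * k)⁻¹ := by group
        _ = (k * g) * E.t * (k * g)⁻¹ := by rw [hgk]
        _ = k * (g * E.t * g⁻¹) * k⁻¹ := by group
        _ = k * E.t * k⁻¹ := by rw [conj_of_comm (E.T_t g hg).symm]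
        _ = _ := hc
    have e3 := hx2 c e2
    rw [e3, one_mul] at hc
    obtain ⟨d, hd⟩ := h.cent k hk (comm_of_conj hc)
    rw [hd]
    apply hx d
    rw [← hd]; exact hgk
  let f : R → R := fun b => ⟨(b : G)⁻¹ * (g * b * g⁻¹), R.mul_mem (R.inv_mem b.2) (h.conj_T g hg b b.2)⟩
  have hf : Function.Injective f := by
    intro a b hab
    have h1 : (a : G)⁻¹ * (g * a * g⁻¹) = (b : G)⁻¹ * (g * b * g⁻¹) := congrArg Subtype.val hab
    have h2 : g * ((b : G) * (a : G)⁻¹) = (b : G) * (a : G)⁻¹ * g := by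
      apply comm_of_conj
      have e1 : (b : G) * (a : G)⁻¹ = (a : G)⁻¹ * b := comm h b.2 (R.inv_mem a.2)
      calc g * ((b : G) * (a : G)⁻¹) * g⁻¹ = (g * b * g⁻¹) * (g * a * g⁻¹)⁻¹ := by group
        _ = (b : G) * ((b : G)⁻¹ * (g * b * g⁻¹)) * ((a : G) * ((a : G)⁻¹ * (g * a * g⁻¹)))⁻¹ := by group
        _ = (b : G) * ((b : G)⁻¹ * (g * b * g⁻¹)) * ((a : G) * ((b : G)⁻¹ * (g * b * g⁻¹)))⁻¹ := by
            rw [h1]
        _ = (b : G) * (a : G)⁻¹ := by group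
    have h3 := fix _ (R.mul_mem b.2 (R.inv_mem a.2)) h2
    exact Subtype.ext (mul_inv_eq_one.1 h3).symm
  obtain ⟨b, hb⟩ := (Finite.injective_iff_surjective.1 hf) ⟨k, hk⟩
  exact ⟨b, b.2, (congrArg Subtype.val hb).symm⟩

end RootLem

namespace QL

open NOne RootLem

variable (E : Env B G)

/-- the scalar -/
def l : Fˣ := Units.map (B.K.subtype : B.K →* F) E.lam

theorem coe_l : ((l E : Fˣ) : F) = ((E.lam : B.K) : F) := rfl

theorem l_K : B.s (l E : F) = l E := by rw [coe_l]; exact B.s_K _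

theorem l_ne : (l E : F) ≠ 1 := by
  rw [coe_l]
  intro h
  exact E.lam_ne (Subtype.ext h)

theorem l_mul_ne {x : F} (h : (l E : F) * x = x) : x = 0 := by
  by_contra hx
  exact l_ne E (mul_right_cancel₀ hx (h.trans (one_mul x).symm))

theorem l_ne0 : (l E : F) ≠ 0 := (l E).ne_zero

theorem linv_mul_ne {x : F} (h : (l E : F)⁻¹ * x = x) : x = 0 := by
  apply l_mul_ne E
  calc (l E : F) * x = (l E : F) * ((l E : F)⁻¹ * x) := by rw [h]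
    _ = x := by rw [← mul_assoc, mul_inv_cancel₀ (l_ne0 E), one_mul]

/-- `h₀ = h(1, λ)` -/
def h0 : G := E.hh 1 (l E)

theorem h0_T : h0 E ∈ E.T := E.hh_mem _ _

theorem h0_a (x : F) : h0 E * E.xa x * (h0 E)⁻¹ = E.xa ((l E : F)⁻¹ * x) := by
  unfold h0
  rw [E.hh_a]
  congr 1
  rw [Units.val_one, one_mul]

theorem h0_c (x : F) : h0 E * E.xc x * (h0 E)⁻¹ = E.xc ((l E : F) * x) := by
  unfold h0
  rw [E.hh_c, l_K]
  congr 1
  rw [Units.val_one, one_mul]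

theorem h0_z (x : B.K) : h0 E * E.xz x = E.xz x * h0 E := by
  apply comm_of_conj
  unfold h0
  rw [E.hh_z]
  congr 1
  rw [Units.val_one, B.nm_one, one_mul]

theorem h0_1 (q : Tp B) : h0 E * E.p1 q = E.p1 q * h0 E := by
  apply comm_of_conj
  unfold h0
  rw [E.hh_1]
  congr 1
  rw [Units.val_one, map_one, l_K]
  have e : (1 : F) * 1 * (l E : F) * 1⁻¹ * (l E : F)⁻¹ = 1 := by
    rw [inv_one, one_mul, one_mul, mul_one, mul_inv_cancel₀ (l_ne0 E)]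
  rw [e]
  ext <;> simp

theorem h0_2 (q : Tp B) : h0 E * E.p2 q * (h0 E)⁻¹ = E.p2 (Tp.sm (l E : F) q) := by
  unfold h0
  rw [E.hh_2]
  congr 2
  rw [Units.val_one, map_one, l_K, inv_one, mul_one, mul_one, mul_assoc,
    mul_inv_cancel₀ (l_ne0 E), mul_one]

/-- `h₂ = h(λ, λ)` -/
def h2 : G := E.hh (l E) (l E)

theorem h2_T : h2 E ∈ E.T := E.hh_mem _ _

theorem h2_a (x : F) : h2 E * E.xa x = E.xa x * h2 E := by
  apply comm_of_conj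
  unfold h2
  rw [E.hh_a]
  congr 1
  rw [mul_inv_cancel₀ (l_ne0 E), one_mul]

theorem h2_2 (q : Tp B) : h2 E * E.p2 q * (h2 E)⁻¹ = E.p2 (Tp.sm (l E : F) q) := by
  unfold h2
  rw [E.hh_2]
  congr 2
  rw [l_K]
  field_simp [l_ne0 E]

variable {E} (W : WGrown E.toWEnv)

theorem h0_Z {r : G} (hr : r ∈ W.Z) : h0 E * r = r * h0 E := co W.rootZ (h0_T E) (h0_z E) hr

theorem xa_inj {x : F} (h : E.xa x = 1) : x = 0 := by
  have h1 : E.q1 1 0 x = 1 := by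
    unfold Env.q1; rw [E.p1_one, E.toWEnv.xc_zero]; simpa using h
  exact (E.Q1_inj h1).2.2

theorem xc_inj {x : F} (h : E.xc x = 1) : x = 0 := by
  have h1 : E.q1 1 x 0 = 1 := by
    unfold Env.q1; rw [E.p1_one, E.toWEnv.xa_zero]; simpa using h
  exact (E.Q1_inj h1).2.1

theorem xa_injective {x y : F} (h : E.xa x = E.xa y) : x = y := by
  apply Tp.eq_of
  apply xa_inj (E := E)
  rw [E.xa_add, h, E.toWEnv.xa_sq]

theorem xc_injective {x y : F} (h : E.xc x = E.xc y) : x = y := by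
  apply Tp.eq_of
  apply xc_inj (E := E)
  rw [E.xc_add, h, E.toWEnv.xc_sq]

/-- `Â = nb Ĉ nb⁻¹` -/
def A : Subgroup G := W.C.comap (MulAut.conj E.nb).toMonoidHom

theorem mem_A {g : G} : g ∈ A W ↔ E.nb * g * E.nb⁻¹ ∈ W.C := Iff.rfl

theorem nb_inv : E.nb⁻¹ = E.nb := WEnv.inv_of_sq E.nb_sq

theorem nb_nb (g : G) : E.nb * (E.nb * g * E.nb⁻¹) * E.nb⁻¹ = g := by
  have e : E.nb * (E.nb * g * E.nb⁻¹) * E.nb⁻¹ = (E.nb * E.nb) * g * (E.nb * E.nb)⁻¹ := by group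
  rw [e, E.nb_sq]; group

theorem mem_C {g : G} : g ∈ W.C ↔ E.nb * g * E.nb⁻¹ ∈ A W := by
  rw [mem_A, nb_nb]

/-- conjugates of `T` by `nb` -/
theorem nb_T' {k : G} (hk : k ∈ E.T) : ∃ k' ∈ E.T, ∀ g, E.nb * (k' * g * k'⁻¹) * E.nb⁻¹ = k * (E.nb * g * E.nb⁻¹) * k⁻¹ := by
  refine ⟨E.nb⁻¹ * k * E.nb, ?_, fun g => by group⟩
  rw [nb_inv]
  have h1 := (E.nb_T k).1 hk
  rwa [nb_inv] at h1

theorem rootA : Root E.toWEnv E.xa (A W) where
  mem x := by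
    rw [mem_A, E.nb_a]; exact W.rootC.mem x
  sq g hg := by
    have h1 := W.rootC.sq _ ((mem_A W).1 hg)
    have h2 : E.nb * (g * g) * E.nb⁻¹ = 1 := by rw [← h1]; group
    calc g * g = E.nb⁻¹ * (E.nb * (g * g) * E.nb⁻¹) * E.nb := by group
      _ = 1 := by rw [h2]; group
  conj_t g hg := by
    obtain ⟨c, hc⟩ := W.rootC.conj_t _ ((mem_A W).1 hg)
    refine ⟨c, ?_⟩
    have h1 : E.nb⁻¹ * E.t * E.nb = E.t := by rw [comm_inv E.t_nb.symm]; group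
    have h2 : g * E.t * g⁻¹ = E.nb⁻¹ * (E.nb * g * E.nb⁻¹ * (E.nb * E.t * E.nb⁻¹) *
      (E.nb * g * E.nb⁻¹)⁻¹) * E.nb := by group
    rw [h2, conj_of_comm E.t_nb.symm, hc]
    calc E.nb⁻¹ * (E.xc c * E.t) * E.nb = (E.nb⁻¹ * E.xc c * E.nb) * (E.nb⁻¹ * E.t * E.nb) := by group
      _ = E.xa c * E.t := by
          rw [h1]
          congr 1
          have := E.nb_c c
          rw [nb_inv] at this ⊢
          exact this
  onto c := by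
    obtain ⟨g, hg, h⟩ := W.rootC.onto c
    refine ⟨E.nb * g * E.nb⁻¹, (mem_C W).1 hg, ?_⟩
    have h1 : E.nb⁻¹ * E.t * E.nb = E.t := by rw [comm_inv E.t_nb.symm]; group
    calc E.nb * g * E.nb⁻¹ * E.t * (E.nb * g * E.nb⁻¹)⁻¹
        = E.nb * (g * (E.nb⁻¹ * E.t * E.nb) * g⁻¹) * E.nb⁻¹ := by group
      _ = (E.nb * E.xc c * E.nb⁻¹) * (E.nb * E.t * E.nb⁻¹) := by rw [h1, h]; group
      _ = _ := by rw [E.nb_c, conj_of_comm E.t_nb.symm]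
  cent g hg hgt := by
    have h1 : (E.nb * g * E.nb⁻¹) * E.t = E.t * (E.nb * g * E.nb⁻¹) := by
      have h2 : E.nb * E.t * E.nb⁻¹ = E.t := conj_of_comm E.t_nb.symm
      calc (E.nb * g * E.nb⁻¹) * E.t = (E.nb * g * E.nb⁻¹) * (E.nb * E.t * E.nb⁻¹) := by rw [h2]
        _ = E.nb * (g * E.t) * E.nb⁻¹ := by group
        _ = E.nb * (E.t * g) * E.nb⁻¹ := by rw [hgt]
        _ = (E.nb * E.t * E.nb⁻¹) * (E.nb * g * E.nb⁻¹) := by group
        _ = _ := by rw [h2]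
    obtain ⟨c, hc⟩ := W.rootC.cent _ ((mem_A W).1 hg) h1
    refine ⟨c, ?_⟩
    rw [← nb_nb (E := E) g, hc, E.nb_c]
  conj_T k hk g hg := by
    have h1 := W.rootC.conj_T _ ((E.nb_T k).1 hk) _ ((mem_A W).1 hg)
    rw [mem_A]
    have e : E.nb * (k * g * k⁻¹) * E.nb⁻¹ =
      E.nb * k * E.nb⁻¹ * (E.nb * g * E.nb⁻¹) * (E.nb * k * E.nb⁻¹)⁻¹ := by group
    rw [e]
    exact h1

/-! ### Normalisers of `N₁` -/

theorem nbQ (g : G) : g ∈ E.Q1 ↔ E.nb * g * E.nb⁻¹ ∈ E.Q1 := by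
  have key : ∀ g ∈ E.Q1, E.nb * g * E.nb⁻¹ ∈ E.Q1 := by
    rintro _ ⟨q, x, s, rfl⟩
    rw [E.q1_conj, E.nb_1, E.nb_c, E.nb_a]
    exact E.Q1.mul_mem (E.Q1.mul_mem (E.p1_mem1 _) (E.xa_mem1 _)) (E.xc_mem1 _)
  exact ⟨key g, fun h => by have := key _ h; rwa [nb_nb] at this⟩

variable (hnb : NbZ E W)

theorem nbZ (hnb : NbZ E W) (r : G) : r ∈ W.Z ↔ E.nb * r * E.nb⁻¹ ∈ W.Z := by
  constructor
  · intro h; rwa [conj_of_comm (hnb r h)]
  · intro h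
    have h1 := hnb _ h
    have h2 : E.nb * (E.nb * r * E.nb⁻¹) * E.nb⁻¹ = E.nb * r * E.nb⁻¹ := conj_of_comm h1
    rw [nb_nb] at h2
    rwa [h2]

theorem TQ {k : G} (hk : k ∈ E.T) (g : G) : g ∈ E.Q1 ↔ k * g * k⁻¹ ∈ E.Q1 := by
  have key : ∀ k ∈ E.T, ∀ g ∈ E.Q1, k * g * k⁻¹ ∈ E.Q1 := by
    rintro k hk _ ⟨q, x, s, rfl⟩
    obtain ⟨μ, ν, h1, h2, -, -⟩ := E.T_act k hk
    obtain ⟨ω, ω', h3, -⟩ := E.T_act' k hk
    rw [E.q1_conj, h3, h2, h1]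
    exact E.Q1.mul_mem (E.Q1.mul_mem (E.p1_mem1 _) (E.xc_mem1 _)) (E.xa_mem1 _)
  refine ⟨key k hk g, fun h => ?_⟩
  have := key k⁻¹ (E.T.inv_mem hk) _ h
  have e : k⁻¹ * (k * g * k⁻¹) * k⁻¹⁻¹ = g := by group
  rwa [e] at this

theorem TZ {k : G} (hk : k ∈ E.T) (r : G) : r ∈ W.Z ↔ k * r * k⁻¹ ∈ W.Z := by
  refine ⟨W.rootZ.conj_T k hk r, fun h => ?_⟩
  have := W.rootZ.conj_T k⁻¹ (E.T.inv_mem hk) _ h
  have e : k⁻¹ * (k * r * k⁻¹) * k⁻¹⁻¹ = r := by group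
  rwa [e] at this

/-- conjugation of `xa` by `p2` -/
theorem p2_a (q : Tp B) (s : F) : ∃ c, E.p2 q * E.xa s * (E.p2 q)⁻¹ =
    E.xa s * (E.p1 (Tp.sm (B.s s) q) * E.xc c) := by
  refine ⟨s * B.s q.c, ?_⟩
  have h := E.a_2 s q
  have h1 : E.xa s * E.p2 q * (E.xa s)⁻¹ * (E.p2 q)⁻¹ = E.p1 (Tp.sm (B.s s) q) * E.xc (s * B.s q.c) := by
    rw [h]; group
  have h2 : (E.xa s)⁻¹ = E.xa s := WEnv.inv_of_sq (E.toWEnv.xa_sq s)
  rw [h2] at h1
  rw [← h1]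
  calc E.p2 q * E.xa s * (E.p2 q)⁻¹ = (E.xa s * E.xa s) * E.p2 q * E.xa s * (E.p2 q)⁻¹ := by
        rw [E.toWEnv.xa_sq, one_mul]
    _ = _ := by group

theorem p2_1 (q r : Tp B) : ∃ c, E.p2 q * E.p1 r * (E.p2 q)⁻¹ = E.p1 r * E.xc c := by
  refine ⟨q.w * B.s r.w, ?_⟩
  have h := E.one_two r⁻¹ q
  rw [← E.p1_inv, inv_inv] at h
  calc E.p2 q * E.p1 r * (E.p2 q)⁻¹ = E.p1 r * ((E.p1 r)⁻¹ * E.p2 q * E.p1 r) * (E.p2 q)⁻¹ := by group
    _ = E.p1 r * (E.xc (q.w * B.s r.w) * E.p2 q) * (E.p2 q)⁻¹ := by rw [h, Tp.inv_w]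
    _ = _ := by group

theorem p2Q (q : Tp B) (g : G) : g ∈ E.Q1 ↔ E.p2 q * g * (E.p2 q)⁻¹ ∈ E.Q1 := by
  have key : ∀ q, ∀ g ∈ E.Q1, E.p2 q * g * (E.p2 q)⁻¹ ∈ E.Q1 := by
    rintro q _ ⟨r, x, s, rfl⟩
    obtain ⟨c, hc⟩ := p2_a (E := E) q s
    obtain ⟨d, hd⟩ := p2_1 (E := E) q r
    rw [E.q1_conj, hc, hd, conj_of_comm (E.c_2 x q).symm]
    exact E.Q1.mul_mem (E.Q1.mul_mem (E.Q1.mul_mem (E.p1_mem1 _) (E.xc_mem1 _)) (E.xc_mem1 _))
      (E.Q1.mul_mem (E.xa_mem1 _) (E.Q1.mul_mem (E.p1_mem1 _) (E.xc_mem1 _)))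
  refine ⟨key q g, fun h => ?_⟩
  have := key q⁻¹ _ h
  rw [← E.p2_inv] at this
  have e : (E.p2 q)⁻¹ * (E.p2 q * g * (E.p2 q)⁻¹) * (E.p2 q)⁻¹⁻¹ = g := by group
  rwa [e] at this

theorem p2Z (q : Tp B) (r : G) : r ∈ W.Z ↔ E.p2 q * r * (E.p2 q)⁻¹ ∈ W.Z := by
  have key : ∀ q, ∀ r ∈ W.Z, E.p2 q * r * (E.p2 q)⁻¹ = r := fun q r hr =>
    conj_of_comm (W.Z_Q r hr _ (E.p2_memQ q)).symm
  refine ⟨fun h => by rwa [key q r h], fun h => ?_⟩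
  have h1 := key q⁻¹ _ h
  rw [← E.p2_inv] at h1
  have e : (E.p2 q)⁻¹ * (E.p2 q * r * (E.p2 q)⁻¹) * (E.p2 q)⁻¹⁻¹ = r := by group
  rw [e] at h1
  rwa [h1]

theorem nb_N (hnb : NbZ E W) {n : G} (hn : InN W n) : InN W (E.nb * n * E.nb⁻¹) :=
  conj_InN hn (nbZ W hnb) nbQ E.t_nb.symm

theorem T_N {k n : G} (hk : k ∈ E.T) (hn : InN W n) : InN W (k * n * k⁻¹) :=
  conj_InN hn (TZ W hk) (TQ hk) (E.T_t k hk).symm

theorem p2_N (q : Tp B) {n : G} (hn : InN W n) : InN W (E.p2 q * n * (E.p2 q)⁻¹) :=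
  conj_InN hn (p2Z W q) (p2Q q) (E.t_2 q).symm

theorem A_N (hnb : NbZ E W) {a : G} (ha : a ∈ A W) : InN W a := by
  have h1 := nb_N W hnb (C_mem ((mem_A W).1 ha))
  rwa [nb_nb] at h1

/-! ### `N₁ → Q₁` is onto -/

/-- `g` is the displacement of an element of `N₁` -/
def Disp (g : G) : Prop := ∃ n, InN W n ∧ ∃ r ∈ W.Z, n * E.t * n⁻¹ = r * g * E.t

variable {W}

theorem Disp.mul {g k : G} (hg : Disp W g) (hk : Disp W k) (hk1 : k ∈ E.Q1) : Disp W (k * g) := by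
  obtain ⟨m, hm, r, hr, h1⟩ := hg
  obtain ⟨n, hn, s, hs, h2⟩ := hk
  obtain ⟨s', hs', h3⟩ := hm.q k hk1
  refine ⟨m * n, hm.mul hn, s * s' * r, W.Z.mul_mem (W.Z.mul_mem hs hs') hr, ?_⟩
  rw [mc, h2, cm, cm, h3, conj_of_comm (hm.z s hs), h1]
  calc s * (s' * k) * (r * g * E.t) = s * s' * (k * r) * g * E.t := by group
    _ = _ := by rw [← Z_Q1 W hr hk1]; group

theorem disp_c (x : F) : Disp W (E.xc x) := by
  obtain ⟨n, hn, h⟩ := W.rootC.onto x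
  exact ⟨n, C_mem hn, 1, W.Z.one_mem, by rw [h, one_mul]⟩

theorem disp_a (hnb : NbZ E W) (x : F) : Disp W (E.xa x) := by
  obtain ⟨n, hn, h⟩ := (rootA W).onto x
  exact ⟨n, A_N W hnb hn, 1, W.Z.one_mem, by rw [h, one_mul]⟩

theorem disp_1 (hnb : NbZ E W) (q : Tp B) : Disp W (E.p1 q) := by
  obtain ⟨n, hn, h⟩ := (rootA W).onto 1
  obtain ⟨c, hc⟩ := p2_a (E := E) q 1
  have e1 : Tp.sm (B.s 1) q = q := by rw [map_one]; ext <;> simp
  rw [e1] at hc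
  have h1 : Disp W (E.xa 1 * (E.p1 q * E.xc c)) := by
    refine ⟨E.p2 q * n * (E.p2 q)⁻¹, p2_N W q (A_N W hnb hn), 1, W.Z.one_mem, ?_⟩
    have e2 : (E.p2 q)⁻¹ * E.t * E.p2 q = E.t := by rw [comm_inv (E.t_2 q).symm]; group
    calc E.p2 q * n * (E.p2 q)⁻¹ * E.t * (E.p2 q * n * (E.p2 q)⁻¹)⁻¹
        = E.p2 q * (n * ((E.p2 q)⁻¹ * E.t * E.p2 q) * n⁻¹) * (E.p2 q)⁻¹ := by group
      _ = (E.p2 q * E.xa 1 * (E.p2 q)⁻¹) * (E.p2 q * E.t * (E.p2 q)⁻¹) := by rw [e2, h]; group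
      _ = _ := by rw [hc, conj_of_comm (E.t_2 q).symm, one_mul]
  have h2 := h1.mul (disp_a hnb 1) (E.xa_mem1 1)
  have h3 := (disp_c (W := W) c).mul h2 (E.Q1.mul_mem (E.xa_mem1 1)
    (E.Q1.mul_mem (E.xa_mem1 1) (E.Q1.mul_mem (E.p1_mem1 _) (E.xc_mem1 _))))
  have e3 : E.xa 1 * (E.xa 1 * (E.p1 q * E.xc c)) * E.xc c = E.p1 q := by
    calc E.xa 1 * (E.xa 1 * (E.p1 q * E.xc c)) * E.xc c
        = (E.xa 1 * E.xa 1) * E.p1 q * (E.xc c * E.xc c) := by group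
      _ = E.p1 q := by rw [E.toWEnv.xa_sq, E.toWEnv.xc_sq, one_mul, mul_one]
  rwa [e3] at h3

end QL

end Cfsg.Agent.StdRank2.UFive
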