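import Cfsg.Agent.StdRank2.UFive.QGrow

/-!
# `WGrown → QGrown` (type `U₅(q)`)
-/

set_option autoImplicit false
set_option linter.unusedSectionVars false

namespace Cfsg.Agent.StdRank2.UFive

open Subgroup Cfsg.Agent.StdRank2.UFour

variable {F : Type*} [Field F] [CharP F 2] {B : Bar F} {G : Type*} [Group G]

namespace QL

open NOne RootLem

variable {E : Env B G} {W : WGrown E.toWEnv}

theorem P_q1 {g : G} (hg : g ∈ P W) (q : Tp B) : ∃ r ∈ W.Z, g * E.p1 q * g⁻¹ = r * E.p1 q :=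
  ((mem_P W).1 hg).1.q _ (E.p1_mem1 q)

theorem P_Z {g r : G} (hg : g ∈ P W) (hr : r ∈ W.Z) : g * r = r * g := ((mem_P W).1 hg).1.z r hr

theorem t_inv_conj {g r : G} {q : Tp B} (hg : g ∈ P W) (hr : r ∈ W.Z)
    (h : g * E.t * g⁻¹ = r * E.p1 q * E.t) : ∃ r' ∈ W.Z, g⁻¹ * E.t * g = r' * E.p1 q⁻¹ * E.t := by
  obtain ⟨s, hs, h1⟩ := ((mem_P W).1 hg).1.inv.q _ (E.p1_mem1 q)
  rw [inv_inv] at h1
  have h2 : g⁻¹ * r * g = r := by
    have := comm_inv (P_Z hg hr)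
    rw [this]; group
  have h3 : E.t = r * (s * E.p1 q) * (g⁻¹ * E.t * g) := by
    calc E.t = g⁻¹ * (g * E.t * g⁻¹) * g := by group
      _ = g⁻¹ * (r * E.p1 q * E.t) * g := by rw [h]
      _ = (g⁻¹ * r * g) * (g⁻¹ * E.p1 q * g) * (g⁻¹ * E.t * g) := by group
      _ = _ := by rw [h1, h2]
  refine ⟨s⁻¹ * r⁻¹, W.Z.mul_mem (W.Z.inv_mem hs) (W.Z.inv_mem hr), ?_⟩
  have h4 := Z_Q1 W (W.Z.mul_mem (W.Z.inv_mem hs) (W.Z.inv_mem hr)) (E.p1_mem1 q⁻¹)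
  rw [h4, ← E.p1_inv]
  calc g⁻¹ * E.t * g = (E.p1 q)⁻¹ * s⁻¹ * r⁻¹ * (r * (s * E.p1 q) * (g⁻¹ * E.t * g)) := by group
    _ = _ := by rw [← h3]; group

/-- multiplying displacements in `P̂`: a displacement `r p1 q t`, `q` central -/
theorem ofK_eq {q : Tp B} (h : q.w = 0) : ∃ k, q = Tp.ofK k := by
  obtain ⟨c, hc⟩ := Env.exists_ofK (u := q) (v := 1) (by rw [h]; rfl)
  exact ⟨c, by rw [hc, mul_one]⟩

/-- **`[P̂, P₂] ≤ Ĉ`.** -/
theorem P_2 [Finite G] [Finite F] (hnb : NbZ E W) {g : G} (hg : g ∈ P W) (q : Tp B) :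
    ∃ c ∈ W.C, g * E.p2 q * g⁻¹ = c * E.p2 q := by
  -- step 1: up to an element of `P̂`
  have step : ∀ q : Tp B, ∃ c ∈ W.C, ∃ e ∈ P W,
      g * E.p2 q * g⁻¹ = c * e * E.p2 q := by
    intro q
    have hgN := ((mem_P W).1 hg).1
    set u := E.p2 q with hu
    have hug : InN W (u * g⁻¹ * u⁻¹) := p2_N W q hgN.inv
    have hc0 : InN W (g * (u * g⁻¹ * u⁻¹)) := hgN.mul hug
    obtain ⟨r, hr, k, h1⟩ := P_t hg
    obtain ⟨r', hr', h2⟩ := t_inv_conj hg hr h1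
    have hut : u⁻¹ * E.t * u = E.t := by
      have h0 : u⁻¹ * E.t = E.t * u⁻¹ := comm_inv (E.t_2 q).symm
      rw [h0]; group
    have hut' : u * E.t * u⁻¹ = E.t := conj_of_comm (E.t_2 q).symm
    have hur : u * r' * u⁻¹ = r' := conj_of_comm (W.Z_Q r' hr' _ (E.p2_memQ q)).symm
    obtain ⟨y, hy⟩ := p2_1 (E := E) q k⁻¹
    rw [← hu] at hy
    -- displacement of `u g⁻¹ u⁻¹`
    have e1 : (u * g⁻¹ * u⁻¹) * E.t * (u * g⁻¹ * u⁻¹)⁻¹ = r' * (E.p1 k⁻¹ * E.xc y) * E.t := by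
      calc (u * g⁻¹ * u⁻¹) * E.t * (u * g⁻¹ * u⁻¹)⁻¹ = u * (g⁻¹ * (u⁻¹ * E.t * u) * g) * u⁻¹ := by group
        _ = (u * r' * u⁻¹) * (u * E.p1 k⁻¹ * u⁻¹) * (u * E.t * u⁻¹) := by rw [hut, h2]; group
        _ = _ := by rw [hur, hy, hut']
    obtain ⟨s, hs, h3⟩ := P_q1 hg k⁻¹
    have hgx : g * E.xc y * g⁻¹ = E.xc y := conj_of_comm (C_P (W.rootC.mem y) hg).symm
    have e2 : (g * (u * g⁻¹ * u⁻¹)) * E.t * (g * (u * g⁻¹ * u⁻¹))⁻¹ = (r' * s * r) * E.xc y * E.t := by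
      rw [mc, e1, cm, cm, cm, h3, h1, hgx, conj_of_comm (P_Z hg hr')]
      have h4 : E.xc y * (r * E.p1 k) = r * E.p1 k * E.xc y := by
        rw [← mul_assoc, ← Z_Q1 W hr (E.xc_mem1 y), mul_assoc, E.c_1, mul_assoc]
      calc r' * (s * E.p1 k⁻¹ * E.xc y) * (r * E.p1 k * E.t)
          = r' * s * E.p1 k⁻¹ * (E.xc y * (r * E.p1 k)) * E.t := by group
        _ = r' * s * (E.p1 k⁻¹ * r) * E.p1 k * E.xc y * E.t := by rw [h4]; group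
        _ = r' * s * (r * E.p1 k⁻¹) * E.p1 k * E.xc y * E.t := by rw [Z_Q1 W hr (E.p1_mem1 _)]
        _ = _ := by rw [← E.p1_inv]; group
    obtain ⟨c1, hc1, h5⟩ := W.rootC.onto y
    have hc1t : c1⁻¹ * E.t * c1 = E.xc y * E.t := by
      have h6 : c1⁻¹ = c1 := WEnv.inv_of_sq (W.rootC.sq c1 hc1)
      have h7 := h5
      rw [h6] at h7 ⊢
      exact h7
    have e3 : (c1⁻¹ * (g * (u * g⁻¹ * u⁻¹))) * E.t * (c1⁻¹ * (g * (u * g⁻¹ * u⁻¹)))⁻¹ =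
        (r' * s * r) * E.t := by
      have hz : r' * s * r ∈ W.Z := W.Z.mul_mem (W.Z.mul_mem hr' hs) hr
      rw [mc, e2]
      have h8 : c1⁻¹ * (r' * s * r) = r' * s * r * c1⁻¹ := comm_inv (W.Z_C _ hz _ hc1).symm
      have h9 : c1⁻¹ * E.xc y = E.xc y * c1⁻¹ := comm_inv (comm W.rootC hc1 (W.rootC.mem y))
      calc c1⁻¹ * (r' * s * r * E.xc y * E.t) * (c1⁻¹)⁻¹
          = (c1⁻¹ * (r' * s * r)) * (E.xc y * E.t) * c1 := by group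
        _ = r' * s * r * (c1⁻¹ * E.xc y) * E.t * c1 := by rw [h8]; group
        _ = r' * s * r * E.xc y * (c1⁻¹ * E.t * c1) := by rw [h9]; group
        _ = r' * s * r * (E.xc y * E.xc y) * E.t := by rw [hc1t]; group
        _ = _ := by rw [E.toWEnv.xc_sq, mul_one]
    obtain ⟨z, hz, k', hk', h6⟩ := mem_of_t ((C_mem hc1).inv.mul hc0)
      (W.Z.mul_mem (W.Z.mul_mem hr' hs) hr) e3
    obtain ⟨q', x, a, rfl⟩ := hk'
    -- the `xa`-component vanishes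
    have hcom : ∀ v, (c1⁻¹ * (g * (u * g⁻¹ * u⁻¹))) * E.xc v = E.xc v * (c1⁻¹ * (g * (u * g⁻¹ * u⁻¹))) := by
      intro v
      have h7 : g * E.xc v = E.xc v * g := (C_P (W.rootC.mem v) hg).symm
      have h8 : u * E.xc v = E.xc v * u := (E.c_2 v q).symm
      have h9 : c1 * E.xc v = E.xc v * c1 := comm W.rootC hc1 (W.rootC.mem v)
      have := comm_mul (n := E.xc v) (comm_inv h9).symm (comm_mul h7.symm
        (comm_mul (comm_mul h8.symm (comm_inv h7).symm) (comm_inv h8).symm))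
      exact this.symm
    have ha : a = 0 := by
      by_contra ha
      obtain ⟨v, hv⟩ : ∃ v, B.tr (a * B.s v) ≠ 0 := by
        obtain ⟨v, hv⟩ := Env.tr_ne (B := B) ha
        refine ⟨v, ?_⟩
        rw [← B.tr_s, map_mul, B.invol, mul_comm]; exact hv
      have h7 := hcom v
      rw [h6, mul_assoc] at h7
      have h8 : E.xc v * (z * E.q1 q' x a) = z * (E.xc v * E.q1 q' x a) := by
        rw [← mul_assoc, ← Z_Q1 W hz (E.xc_mem1 v), mul_assoc]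
      rw [h8] at h7
      have h9 := mul_left_cancel h7
      have e1 : E.xc v = E.q1 1 v 0 := by
        unfold Env.q1; rw [E.p1_one, E.toWEnv.xa_zero]; simp
      rw [e1, Env.q1_mul, Env.q1_mul] at h9
      have h10 := congrArg Tp.c (E.q1_injective h9).1
      simp [B.tr_zero] at h10
      apply hv
      refine Subtype.ext ?_
      rw [Bar.coe_tr, map_mul]
      exact h10
    subst ha
    refine ⟨c1 * E.xc x, W.C.mul_mem hc1 (W.rootC.mem x), z * E.p1 q',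
      (P W).mul_mem (Zp_mem hz) (p1_mem q'), ?_⟩
    have h7 : g * u * g⁻¹ = c1 * (z * E.q1 q' x 0) * u := by
      rw [← h6]; group
    rw [h7]
    unfold Env.q1
    rw [E.toWEnv.xa_zero, mul_one, ← E.c_1]
    have h8 : E.xc x * z = z * E.xc x := (Z_Q1 W hz (E.xc_mem1 x)).symm
    calc c1 * (z * (E.xc x * E.p1 q')) * u = c1 * (z * E.xc x) * E.p1 q' * u := by group
      _ = _ := by rw [← h8]; group
  -- step 2: kill the element of `P̂`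
  obtain ⟨r, rfl⟩ := sm_surj (E := E) q
  obtain ⟨c, hc, e, he, h1⟩ := step r
  have hgh : h0 E * g = g * h0 E := ((mem_P W).1 hg).2.symm
  have hge : h0 E * e = e * h0 E := ((mem_P W).1 he).2.symm
  have h2 : g * E.p2 (Tp.sm (l E : F) r) * g⁻¹ =
      (h0 E * c * (h0 E)⁻¹) * e * E.p2 (Tp.sm (l E : F) r) := by
    rw [← h0_2]
    have hgi : (h0 E)⁻¹ * g * h0 E = g := by rw [comm_inv hgh]; group
    calc g * (h0 E * E.p2 r * (h0 E)⁻¹) * g⁻¹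
        = (g * h0 E) * E.p2 r * (g * h0 E)⁻¹ := by group
      _ = (h0 E * g) * E.p2 r * (h0 E * g)⁻¹ := by rw [hgh]
      _ = h0 E * (g * E.p2 r * g⁻¹) * (h0 E)⁻¹ := by group
      _ = (h0 E * c * (h0 E)⁻¹) * (h0 E * e * (h0 E)⁻¹) * (h0 E * E.p2 r * (h0 E)⁻¹) := by
          rw [h1]; group
      _ = _ := by rw [conj_of_comm hge]
  have hc' : h0 E * c * (h0 E)⁻¹ ∈ W.C := W.rootC.conj_T _ (h0_T E) _ hc
  refine ⟨c⁻¹ * (h0 E * c * (h0 E)⁻¹), W.C.mul_mem (W.C.inv_mem hc) hc', ?_⟩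
  rw [E.p2_mul, ← E.p2_inv, cm, ci, h1, h2]
  set c' := h0 E * c * (h0 E)⁻¹
  have h3 : (c⁻¹ * c') * e = e * (c⁻¹ * c') := C_P (W.C.mul_mem (W.C.inv_mem hc) hc') he
  have h4 : (c⁻¹ * c') * (E.p2 r)⁻¹ = (E.p2 r)⁻¹ * (c⁻¹ * c') :=
    (comm_inv (W.C_Q _ (W.C.mul_mem (W.C.inv_mem hc) hc') _ (E.p2_memQ r)).symm).symm
  calc (c * e * E.p2 r)⁻¹ * (c' * e * E.p2 (Tp.sm (l E : F) r))
      = (E.p2 r)⁻¹ * e⁻¹ * ((c⁻¹ * c') * e) * E.p2 (Tp.sm (l E : F) r) := by group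
    _ = (E.p2 r)⁻¹ * e⁻¹ * (e * (c⁻¹ * c')) * E.p2 (Tp.sm (l E : F) r) := by rw [h3]
    _ = ((E.p2 r)⁻¹ * (c⁻¹ * c')) * E.p2 (Tp.sm (l E : F) r) := by group
    _ = _ := by rw [← h4, mul_assoc]

theorem xa_C {c : G} (hc : c ∈ W.C) (s : F) : ∃ r ∈ W.Z, (E.xa s)⁻¹ * c * E.xa s = r * c := by
  have h := W.a_C s c hc
  have h2 : (E.xa s)⁻¹ = E.xa s := WEnv.inv_of_sq (E.toWEnv.xa_sq s)
  rw [h2] at h ⊢
  exact h

theorem h2_A {a : G} (ha : a ∈ A W) : h2 E * a = a * h2 E := co (rootA W) (h2_T E) (h2_a E) ha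

/-- **`[Â, P₂] ≤ P̂ Ĉ`.** -/
theorem A_2 [Finite G] [Finite F] (hnb : NbZ E W) {g : G} (hg : g ∈ A W) (q : Tp B) :
    ∃ p ∈ P W, ∃ c ∈ W.C, g * E.p2 q * g⁻¹ = p * c * E.p2 q := by
  have hgN := A_N W hnb hg
  have step : ∀ q : Tp B, ∃ p ∈ P W, ∃ c ∈ W.C, ∃ s, g * E.p2 q * g⁻¹ = p * c * E.xa s * E.p2 q := by
    intro q
    set u := E.p2 q with hu
    have hug : InN W (u * g⁻¹ * u⁻¹) := p2_N W q hgN.inv
    have hc0 : InN W (g * (u * g⁻¹ * u⁻¹)) := hgN.mul hug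
    obtain ⟨s, hs⟩ := (rootA W).conj_t g hg
    have hgi : g⁻¹ = g := WEnv.inv_of_sq ((rootA W).sq g hg)
    have hs' : g⁻¹ * E.t * g = E.xa s * E.t := by
      have := hs
      rw [hgi] at this ⊢
      exact this
    have hut : u⁻¹ * E.t * u = E.t := by
      have h0 : u⁻¹ * E.t = E.t * u⁻¹ := comm_inv (E.t_2 q).symm
      rw [h0]; group
    have hut' : u * E.t * u⁻¹ = E.t := conj_of_comm (E.t_2 q).symm
    obtain ⟨y, hy⟩ := p2_a (E := E) q s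
    rw [← hu] at hy
    set k := Tp.sm (B.s s) q with hk
    have e1 : (u * g⁻¹ * u⁻¹) * E.t * (u * g⁻¹ * u⁻¹)⁻¹ = E.xa s * (E.p1 k * E.xc y) * E.t := by
      calc (u * g⁻¹ * u⁻¹) * E.t * (u * g⁻¹ * u⁻¹)⁻¹ = u * (g⁻¹ * (u⁻¹ * E.t * u) * g) * u⁻¹ := by group
        _ = (u * E.xa s * u⁻¹) * (u * E.t * u⁻¹) := by rw [hut, hs']; group
        _ = _ := by rw [hy, hut']
    have hgx : g * E.xa s * g⁻¹ = E.xa s := conj_of_comm (comm (rootA W) hg ((rootA W).mem s))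
    have hgk : g * E.p1 k * g⁻¹ = E.p1 k := conj_of_comm (A_P hnb hg (p1_mem k))
    obtain ⟨r, hr, h3⟩ := hgN.q _ (E.xc_mem1 y)
    obtain ⟨c, h4⟩ := E.Q1_comm (E.xc_mem1 y) (E.xa_mem1 s)
    have e2 : (g * (u * g⁻¹ * u⁻¹)) * E.t * (g * (u * g⁻¹ * u⁻¹))⁻¹ =
        (r * E.xz c) * (E.p1 k * E.xc y) * E.t := by
      rw [mc, e1, cm, cm, cm, hgx, hgk, h3, hs]
      have h5 : E.p1 k * E.xa s = E.xa s * E.p1 k := (E.a_1 s k).symm
      have h6 : E.xz c * E.p1 k = E.p1 k * E.xz c := Z_Q1 W (xz_mem W c) (E.p1_mem1 k)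
      have h7 : r * E.p1 k = E.p1 k * r := Z_Q1 W hr (E.p1_mem1 k)
      have h8 : E.xa s * r = r * E.xa s := (Z_Q1 W hr (E.xa_mem1 s)).symm
      calc E.xa s * (E.p1 k * (r * E.xc y)) * (E.xa s * E.t)
          = E.xa s * (E.p1 k * r) * (E.xc y * E.xa s) * E.t := by group
        _ = (E.xa s * r) * E.p1 k * (E.xc y * E.xa s) * E.t := by rw [← h7]; group
        _ = r * (E.xa s * E.p1 k) * (E.xc y * E.xa s) * E.t := by rw [h8]; group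
        _ = r * E.p1 k * (E.xa s * E.xc y) * E.xa s * E.t := by rw [← h5]; group
        _ = r * (E.p1 k * E.xz c) * E.xc y * (E.xa s * E.xa s) * E.t := by rw [h4]; group
        _ = _ := by rw [← h6, E.toWEnv.xa_sq]; group
    -- choose an element of `P̂ Ĉ` with the same displacement
    obtain ⟨p, hp, r1, hr1, k1, hk1, h5⟩ := P_onto hnb k.w
    obtain ⟨c1, hc1, h6⟩ := W.rootC.onto y
    obtain ⟨v, hv⟩ := Env.exists_ofK (u := k) (v := k1) hk1.symm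
    have hc1N := C_mem (E := E) hc1
    have hpN := ((mem_P W).1 hp).1
    have hpc : c1 * p = p * c1 := C_P hc1 hp
    have hd1 : (c1 * p) * E.t * (c1 * p)⁻¹ = (r1 * E.xz v) * (E.p1 k * E.xc y) * E.t := by
      have h7 : c1 * r1 * c1⁻¹ = r1 := conj_of_comm (W.Z_C r1 hr1 c1 hc1).symm
      have h8 : c1 * E.p1 k1 * c1⁻¹ = E.p1 k1 := conj_of_comm (W.C_Q c1 hc1 _ (E.p1_memQ k1))
      rw [mc, h5, cm, cm, h7, h8, h6, hv, ← E.z_p1, ]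
      have h9 : E.xz v * E.xz v = 1 := E.toWEnv.xz_sq v
      calc r1 * E.p1 k1 * (E.xc y * E.t) = r1 * (E.xz v * E.xz v) * E.p1 k1 * (E.xc y * E.t) := by
            rw [h9, mul_one]
        _ = _ := by group
    have hz0 : r * E.xz c ∈ W.Z := W.Z.mul_mem hr (xz_mem W c)
    have hz1 : r1 * E.xz v ∈ W.Z := W.Z.mul_mem hr1 (xz_mem W v)
    have hcp : InN W (c1 * p) := hc1N.mul hpN
    have e3 : ((c1 * p)⁻¹ * (g * (u * g⁻¹ * u⁻¹))) * E.t * ((c1 * p)⁻¹ * (g * (u * g⁻¹ * u⁻¹)))⁻¹ =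
        ((r1 * E.xz v)⁻¹ * (r * E.xz c)) * E.t := by
      rw [mc, e2]
      have h7 : (r * E.xz c) * (E.p1 k * E.xc y) * E.t =
          ((r * E.xz c) * (r1 * E.xz v)⁻¹) * ((c1 * p) * E.t * (c1 * p)⁻¹) := by
        rw [hd1]; group
      have h8 := hcp.inv.z _ (W.Z.mul_mem hz0 (W.Z.inv_mem hz1))
      rw [h7]
      calc (c1 * p)⁻¹ * (r * E.xz c * (r1 * E.xz v)⁻¹ * (c1 * p * E.t * (c1 * p)⁻¹)) * (c1 * p)⁻¹⁻¹
          = ((c1 * p)⁻¹ * (r * E.xz c * (r1 * E.xz v)⁻¹)) * (c1 * p) * E.t := by group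
        _ = (r * E.xz c * (r1 * E.xz v)⁻¹) * E.t := by rw [h8]; group
        _ = _ := by rw [Z_comm W hz0 (W.Z.inv_mem hz1)]
    obtain ⟨z, hz, k', hk', h7⟩ := mem_of_t (hcp.inv.mul hc0)
      (W.Z.mul_mem (W.Z.inv_mem hz1) hz0) e3
    obtain ⟨q', x, a, rfl⟩ := hk'
    refine ⟨p * (z * E.p1 q'), (P W).mul_mem hp ((P W).mul_mem (Zp_mem hz) (p1_mem q')),
      c1 * E.xc x, W.C.mul_mem hc1 (W.rootC.mem x), a, ?_⟩
    have h8 : g * u * g⁻¹ = c1 * p * (z * E.q1 q' x a) * u := by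
      rw [← h7]; group
    rw [h8]
    unfold Env.q1
    have h9 : c1 * (z * E.p1 q') = z * E.p1 q' * c1 :=
      C_P hc1 ((P W).mul_mem (Zp_mem hz) (p1_mem q'))
    rw [hpc]
    calc p * c1 * (z * (E.p1 q' * E.xc x * E.xa a)) * u
        = p * (c1 * (z * E.p1 q')) * E.xc x * E.xa a * u := by group
      _ = _ := by rw [h9]; group
  obtain ⟨r, rfl⟩ := sm_surj (E := E) q
  obtain ⟨p, hp, c, hc, s, h1⟩ := step r
  have hgh : h2 E * g = g * h2 E := h2_A hg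
  have h3 : g * E.p2 (Tp.sm (l E : F) r) * g⁻¹ =
      (h2 E * p * (h2 E)⁻¹) * (h2 E * c * (h2 E)⁻¹) * E.xa s * E.p2 (Tp.sm (l E : F) r) := by
    rw [← h2_2]
    calc g * (h2 E * E.p2 r * (h2 E)⁻¹) * g⁻¹
        = (g * h2 E) * E.p2 r * (g * h2 E)⁻¹ := by group
      _ = (h2 E * g) * E.p2 r * (h2 E * g)⁻¹ := by rw [hgh]
      _ = h2 E * (g * E.p2 r * g⁻¹) * (h2 E)⁻¹ := by group
      _ = (h2 E * p * (h2 E)⁻¹) * (h2 E * c * (h2 E)⁻¹) * (h2 E * E.xa s * (h2 E)⁻¹) *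
          (h2 E * E.p2 r * (h2 E)⁻¹) := by
          rw [h1]; group
      _ = _ := by rw [conj_of_comm (h2_a E s)]
  set p' := h2 E * p * (h2 E)⁻¹ with hp'
  set c' := h2 E * c * (h2 E)⁻¹ with hc'
  have hp'P : p' ∈ P W := P_T (h2_T E) hp
  have hc'C : c' ∈ W.C := W.rootC.conj_T _ (h2_T E) _ hc
  -- `(p c xa p2)⁻¹ (p' c' xa p2')`
  have hcc : c⁻¹ * c' ∈ W.C := W.C.mul_mem (W.C.inv_mem hc) hc'C
  have hpp : p⁻¹ * p' ∈ P W := (P W).mul_mem ((P W).inv_mem hp) hp'P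
  obtain ⟨z, hz, h4⟩ := xa_C hcc s
  have h5 : (E.xa s)⁻¹ * (p⁻¹ * p') = (p⁻¹ * p') * (E.xa s)⁻¹ :=
    comm_inv (A_P hnb ((rootA W).mem s) hpp)
  have h6 : (E.xa s)⁻¹ * (c⁻¹ * p⁻¹ * (p' * c')) * E.xa s = (p⁻¹ * p') * z * (c⁻¹ * c') := by
    have e1 : c⁻¹ * p⁻¹ * (p' * c') = (p⁻¹ * p') * (c⁻¹ * c') := by
      have e2 : c⁻¹ * (p⁻¹ * p') = (p⁻¹ * p') * c⁻¹ := C_P (W.C.inv_mem hc) hpp
      calc c⁻¹ * p⁻¹ * (p' * c') = (c⁻¹ * (p⁻¹ * p')) * c' := by group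
        _ = _ := by rw [e2]; group
    rw [e1]
    calc (E.xa s)⁻¹ * (p⁻¹ * p' * (c⁻¹ * c')) * E.xa s
        = ((E.xa s)⁻¹ * (p⁻¹ * p')) * (c⁻¹ * c') * E.xa s := by group
      _ = (p⁻¹ * p') * ((E.xa s)⁻¹ * (c⁻¹ * c') * E.xa s) := by rw [h5]; group
      _ = _ := by rw [h4]; group
  set pp := (p⁻¹ * p') * z with hppd
  have hppP : pp ∈ P W := (P W).mul_mem hpp (Zp_mem hz)
  obtain ⟨c2, hc2, h7⟩ := P_2 hnb hppP r
  -- `p2⁻¹ pp p2 = c3 pp`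
  have h8 : (E.p2 r)⁻¹ * pp * E.p2 r = c2 * pp := by
    have h9 : c2 * E.p2 r = E.p2 r * c2 := W.C_Q c2 hc2 _ (E.p2_memQ r)
    have h10 : pp * E.p2 r = E.p2 r * c2 * pp := by
      calc pp * E.p2 r = (pp * E.p2 r * pp⁻¹) * pp := by group
        _ = (c2 * E.p2 r) * pp := by rw [h7]
        _ = _ := by rw [h9]
    calc (E.p2 r)⁻¹ * pp * E.p2 r = (E.p2 r)⁻¹ * (pp * E.p2 r) := by group
      _ = (E.p2 r)⁻¹ * (E.p2 r * c2 * pp) := by rw [h10]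
      _ = _ := by group
  refine ⟨pp, hppP, c2 * (c⁻¹ * c'), W.C.mul_mem hc2 hcc, ?_⟩
  rw [E.p2_mul, ← E.p2_inv, cm, ci, h1, h3]
  have h11 : (c⁻¹ * c') * (E.p2 r)⁻¹ = (E.p2 r)⁻¹ * (c⁻¹ * c') :=
    (comm_inv (W.C_Q _ hcc _ (E.p2_memQ r)).symm).symm
  have h12 : c2 * pp = pp * c2 := C_P hc2 hppP
  calc (p * c * E.xa s * E.p2 r)⁻¹ * (p' * c' * E.xa s * E.p2 (Tp.sm (l E : F) r))
      = (E.p2 r)⁻¹ * ((E.xa s)⁻¹ * (c⁻¹ * p⁻¹ * (p' * c')) * E.xa s) *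
          E.p2 (Tp.sm (l E : F) r) := by group
    _ = (E.p2 r)⁻¹ * pp * (c⁻¹ * c') * E.p2 (Tp.sm (l E : F) r) := by rw [h6]; group
    _ = ((E.p2 r)⁻¹ * pp * E.p2 r) * ((E.p2 r)⁻¹ * (c⁻¹ * c')) * E.p2 (Tp.sm (l E : F) r) := by group
    _ = (c2 * pp) * ((c⁻¹ * c') * (E.p2 r)⁻¹) * E.p2 (Tp.sm (l E : F) r) := by rw [h8, h11]
    _ = _ := by rw [h12]; group

/-- **The `Q₁`-level of the growth.** -/
def qGrown [Finite G] [Finite F] (W : WGrown E.toWEnv) (hnb : NbZ E W) : QGrown E where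
  toWGrown := W
  nb_Z := hnb
  A := A W
  P := P W
  mem_A g := mem_A W
  mem_C g := mem_C W
  rootA := rootA W
  p1_mem := p1_mem
  Z_le r hr := Zp_mem hr
  Z_A r hr a ha := ((A_N W hnb ha).z r hr).symm
  Z_P r hr a ha := (P_Z ha hr).symm
  A_C a ha c hc := comm_mem (A_N W hnb ha) (C_mem hc)
  A_P a ha g hg := A_P hnb ha hg
  C_P c hc g hg := C_P hc hg
  P_sq g hg := sq_mem ((mem_P W).1 hg).1
  P_comm g hg k hk := comm_mem ((mem_P W).1 hg).1 ((mem_P W).1 hk).1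
  P_t g hg := P_t hg
  P_onto := P_onto hnb
  P_cent g hg r hr h := P_cent hg hr h
  P_T k hk g hg := P_T hk hg
  P_nb g hg := P_nb hnb hg
  l := l E
  l_K := l_K E
  l_ne := l_ne E
  P_h g hg := ((mem_P W).1 hg).2.symm
  P_2 g hg q := P_2 hnb hg q
  A_2 a ha q := A_2 hnb ha q

end QL

/-- **`Seed5 → QGrown`.** -/
noncomputable def Seed5.qGrown [Finite G] [Finite F] {E : Env B G} (W : WGrown E.toWEnv) (S : Seed5 E)
    (h : W.Z ≤ S.Y) : QGrown E :=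
  QL.qGrown W fun g hg => (S.nb_comm g (h hg)).symm

end Cfsg.Agent.StdRank2.UFive
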